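import Cfsg.Agent.TE6.Defs
import Cfsg.Agent.F3.W1
import Cfsg.Agent.F3.I1

set_option autoImplicit false
set_option linter.unusedVariables false

namespace Cfsg.Agent.TE6

open Subgroup H49 T3.Fr2 F3

variable {G : Type*} [Group G] [Finite G] {z : G} {Q R : Subgroup G} {Qs : Fin 3 → Subgroup G}
  {r : Fin 3 → G}

set_option linter.unusedSectionVars false in
/-- notes/TE6.md, section BasB -/
theorem C1.conj (h : C1 z Q Qs r R) (g : G) :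
    C1 (g * z * g⁻¹) (cj g Q) (fun i => cj g (Qs i)) (fun i => g * r i * g⁻¹) (cj g R) where
  toB2 := h.toB2.conj g
  cardR := by rw [card_cj, h.cardR]

/-- notes/TE6.md, section BasB -/
theorem C1.relabel (h : C1 z Q Qs r R) (σ : Equiv.Perm (Fin 3)) : C1 z Q (Qs ∘ σ) (r ∘ σ) R where
  toE1 := h.toE1
  card := h.card
  zs i := h.zs _
  cards i := h.cards _
  sup := le_antisymm (sup_le (sup_le (h.toB2.le _) (h.toB2.le _)) (h.toB2.le _)) (by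
    have k : ∀ i, Qs i ≤ (Qs ∘ σ) 0 ⊔ (Qs ∘ σ) 1 ⊔ (Qs ∘ σ) 2 := fun i => by
      obtain ⟨j, rfl⟩ := σ.surjective i
      fin_cases j
      exacts [le_sup_left.trans le_sup_left, le_sup_right.trans le_sup_left, le_sup_right]
    rw [← h.sup]
    exact sup_le (sup_le (k 0) (k 1)) (k 2))
  QQ i j n := h.QQ _ _ (σ.injective.ne n)
  rr i := h.rr _
  rR i := h.rR _
  inv i := h.inv _
  rc i j n := h.rc _ _ (σ.injective.ne n)
  R2 := h.R2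
  Rc := h.Rc
  RN i := h.RN _
  nR := h.nR
  cardR := h.cardR

/-- notes/TE6.md, section BasB -/
theorem C1.onto (h : C1 z Q Qs r R) {a b : Fin 3 → G} (f : ∀ i, Fm z (Qs i) (r i) (a i) (b i))
    (A : Fin 3 → S2) (hA : ∀ i, A i ^ 4 = 1) : ∃ ρ ∈ R, ∀ i, mat z (a i) (b i) ρ = A i := by
  have k := h.toB2
  have c1 := ((W1.ph k f).mono (W1.R_le k)).card (J := Q) fun m hm => W1.kerΦ k f (W1.R_le k hm)
  rw [h.cardR, k.QR, card_bot, one_mul] at c1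
  have c2 : Nat.card {A : Fin 3 → S2 // ∀ i, A i ^ 4 = 1} = 512 := by
    rw [Nat.card_congr (Equiv.subtypePiEquivPi (p := fun _ (A : S2) => A ^ 4 = 1)), Nat.card_pi,
      Fin.prod_univ_three, S2.card4]
    norm_num
  have e : (W1.II k f : Set (Fin 3 → S2)) = {A | ∀ i, A i ^ 4 = 1} :=
    Set.eq_of_subset_of_ncard_le (W1.II_four k f) (c2.trans c1).le
  obtain ⟨ρ, hρ, e⟩ := (MC3.PH.mem_im _).1 (e.ge hA)
  exact ⟨ρ, hρ, congrFun e⟩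

/-- notes/TE6.md, section BasB -/
theorem C1.max (h : C1 z Q Qs r R) {g : G} (hg : g ∈ 𝒞[z]) (bg : Ba Qs g) (h4 : g ^ 4 ∈ Q) : g ∈ Q ⊔ R := by
  have k := h.toB2
  obtain ⟨a, b, f⟩ := k.exists_fm
  have g1 := W1.mem_BB.2 ⟨hg, bg⟩
  rw [← W1.kerΦ k f (pow_mem g1 4), (W1.ph k f).pow g1] at h4
  obtain ⟨ρ, hρ, e⟩ := h.onto f _ (congrFun h4)
  have r1 := W1.R_le k hρ
  have : g * ρ⁻¹ ∈ Q := by
    rw [← W1.kerΦ k f (mul_mem g1 (inv_mem r1)), (W1.ph k f).div g1 r1, mul_inv_eq_one]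
    exact (funext e).symm
  simpa using mul_mem (mem_sup_left this : _ ∈ Q ⊔ R) (mem_sup_right hρ)

set_option linter.unusedSectionVars false in
/-- notes/TE6.md, section BasB -/
theorem C1.RiQ (_h : C1 z Q Qs r R) {i j : Fin 3} (n : i ≠ j) : Ri Qs R i ≤ 𝒞(Qs j) := by
  rcases (by decide : ∀ i j : Fin 3, i ≠ j → j = i + 1 ∨ j = i + 2) i j n with rfl | rfl
  exacts [inf_le_left.trans inf_le_right, inf_le_right]

namespace BasB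

variable {a b : Fin 3 → G}

omit [Finite G] in
theorem RiR (i : Fin 3) : Ri Qs R i ≤ R := inf_le_left.trans inf_le_left

omit [Finite G] in
theorem mem_Ri {i : Fin 3} {ρ : G} (hρ : ρ ∈ R) (c : ∀ j, j ≠ i → ρ ∈ 𝒞(Qs j)) : ρ ∈ Ri Qs R i :=
  ⟨⟨hρ, c _ ((by decide : ∀ i : Fin 3, i + 1 ≠ i) i)⟩, c _ ((by decide : ∀ i : Fin 3, i + 2 ≠ i) i)⟩

theorem inj (h : B2 z Q Qs r R) (f : ∀ i, Fm z (Qs i) (r i) (a i) (b i)) {u v : G} (hu : u ∈ R)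
    (hv : v ∈ R) (e : W1.Φ z a b u = W1.Φ z a b v) : u = v := by
  have u1 := W1.R_le h hu
  have v1 := W1.R_le h hv
  have : u * v⁻¹ ∈ Q ⊓ R := mem_inf.2 ⟨by
    rw [← W1.kerΦ h f (mul_mem u1 (inv_mem v1)), (W1.ph h f).div u1 v1, e,
      mul_inv_cancel], mul_mem hu (inv_mem hv)⟩
  rwa [h.QR, mem_bot, mul_inv_eq_one] at this

theorem sgl (h : C1 z Q Qs r R) (f : ∀ i, Fm z (Qs i) (r i) (a i) (b i)) {i : Fin 3} {u : G}
    (hu : u ∈ Ri Qs R i) : W1.Φ z a b u = Pi.mulSingle i (mat z (a i) (b i) u) := funext fun j => by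
  by_cases e : j = i
  · rw [e, Pi.mulSingle_eq_same]; rfl
  · rw [Pi.mulSingle_eq_of_ne e]
    have c := h.RiQ (Ne.symm e) hu
    exact (h.toB2.hp (f j)).mat_cent (cent_le_cent1 (f j).aW c) (cent_le_cent1 (f j).bW c)

theorem inj' (h : C1 z Q Qs r R) (f : ∀ i, Fm z (Qs i) (r i) (a i) (b i)) {i : Fin 3} {u v : G}
    (hu : u ∈ Ri Qs R i) (hv : v ∈ Ri Qs R i) (e : mat z (a i) (b i) u = mat z (a i) (b i) v) :
    u = v := inj h.toB2 f (RiR i hu) (RiR i hv) (by rw [sgl h f hu, sgl h f hv, e])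

theorem onto' (h : C1 z Q Qs r R) (f : ∀ i, Fm z (Qs i) (r i) (a i) (b i)) (i : Fin 3) {A : S2}
    (hA : A ^ 4 = 1) : ∃ ρ ∈ Ri Qs R i, mat z (a i) (b i) ρ = A := by
  obtain ⟨ρ, hρ, e⟩ := h.onto f (Pi.mulSingle i A) fun j => by
    by_cases e : j = i
    · rw [e, Pi.mulSingle_eq_same, hA]
    · rw [Pi.mulSingle_eq_of_ne e, one_pow]
  refine ⟨ρ, mem_Ri hρ fun j n => h.toB2.cent_of_tv hρ
    ((h.toB2.tv_iff (f j) ⟨h.Rc hρ, h.RN j hρ⟩).2 ?_), by rw [e, Pi.mulSingle_eq_same]⟩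
  rw [e, Pi.mulSingle_eq_of_ne n]

theorem four (h : C1 z Q Qs r R) (f : ∀ i, Fm z (Qs i) (r i) (a i) (b i)) (i : Fin 3) {u : G}
    (hu : u ∈ R) : mat z (a i) (b i) u ^ 4 = 1 := by
  have p := (h.toB2.hp (f i)).ph
  rw [← p.pow ⟨h.Rc hu, h.RN i hu⟩, h.toB2.R4 hu, p.one]

theorem s_tr : ∀ v w : ZMod 3 × ZMod 3, v ≠ 0 → w ≠ 0 → ∃ A : S2, A ^ 4 = 1 ∧ A.ap v = w := by
  decide +kernel

theorem p_four : ∀ σ : Equiv.Perm (Fin 3), σ ^ 4 = 1 → σ * σ = 1 := by decide +kernel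

end BasB

open BasB

/-- notes/TE6.md, section BasB -/
theorem C1.q8 (h : C1 z Q Qs r R) (i : Fin 3) : T3.Q8 (Ri Qs R i) (r i) := by
  have k := h.toB2
  obtain ⟨a, b, f⟩ := k.exists_fm
  have p := (k.hp (f i)).ph
  have hr : r i ∈ Ri Qs R i := mem_Ri (h.rR i) fun j n => h.rc i j n.symm
  have mr := (k.neg_iff (f i) ⟨k.rz i, k.rB i i⟩).1 (h.inv i)
  refine ⟨?_, hr, fun e => k.rQ i (e ▸ one_mem Q), h.rr i, fun u hu => ?_⟩
  · rw [← S2.card4]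
    refine Nat.card_eq_of_bijective (fun u => ⟨mat z (a i) (b i) u, four h f i (RiR i u.2)⟩)
      ⟨fun u v e => Subtype.ext (inj' h f u.2 v.2 (congrArg Subtype.val e)), fun A => ?_⟩
    obtain ⟨ρ, hρ, e⟩ := onto' h f i A.2
    exact ⟨⟨ρ, hρ⟩, Subtype.ext e⟩
  · have u1 : u ∈ 𝒞[z] ⊓ 𝒩(Qs i) := ⟨h.Rc (RiR i hu), h.RN i (RiR i hu)⟩
    rcases S2.q8 _ (four h f i (RiR i hu)) with e | e | e
    · exact .inl (inj' h f hu (one_mem _) (e.trans p.one.symm))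
    · exact .inr (.inl (inj' h f hu hr (e.trans mr.symm)))
    · exact .inr (.inr (inj' h f (mul_mem hu hu) hr (by rw [p.mul _ u1 _ u1, e, mr])))

/-- notes/TE6.md, section BasB -/
theorem C1.RiR (h : C1 z Q Qs r R) {i j : Fin 3} (n : i ≠ j) : Ri Qs R i ≤ 𝒞(Ri Qs R j) := by
  have k := h.toB2
  obtain ⟨a, b, f⟩ := k.exists_fm
  intro u hu v hv
  have u1 := BasB.RiR i hu
  have v1 := BasB.RiR j hv
  refine inj k f (mul_mem v1 u1) (mul_mem u1 v1) ?_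
  rw [(W1.ph k f).mul _ (W1.R_le k v1) _ (W1.R_le k u1),
    (W1.ph k f).mul _ (W1.R_le k u1) _ (W1.R_le k v1), sgl h f hu, sgl h f hv]
  exact (Pi.mulSingle_commute (f := fun _ => S2) n.symm _ _).eq

/-- notes/TE6.md, section BasB -/
theorem C1.decR (h : C1 z Q Qs r R) {ρ : G} (hρ : ρ ∈ R) :
    ∃ u : Fin 3 → G, (∀ i, u i ∈ Ri Qs R i) ∧ ρ = u 0 * u 1 * u 2 := by
  have k := h.toB2
  obtain ⟨a, b, f⟩ := k.exists_fm
  choose u hu e using fun i => onto' h f i (four h f i hρ)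
  have u1 := fun i => BasB.RiR i (hu i)
  refine ⟨u, hu, inj k f hρ (mul_mem (mul_mem (u1 0) (u1 1)) (u1 2)) ?_⟩
  rw [(W1.ph k f).mul _ (W1.R_le k (mul_mem (u1 0) (u1 1))) _ (W1.R_le k (u1 2)),
    (W1.ph k f).mul _ (W1.R_le k (u1 0)) _ (W1.R_le k (u1 1)), sgl h f (hu 0), sgl h f (hu 1),
    sgl h f (hu 2), e, e, e]
  exact W1.pi_eq _

/-- notes/TE6.md, section BasB -/
theorem C1.trR (h : C1 z Q Qs r R) (i : Fin 3) {u w : G} (hu : u ∈ Qs i) (hw : w ∈ Qs i) (un : u ∉ zpowers z)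
    (wn : w ∉ zpowers z) : ∃ ρ ∈ Ri Qs R i, ρ * u * ρ⁻¹ * w⁻¹ ∈ zpowers z := by
  have k := h.toB2
  obtain ⟨a, b, f⟩ := k.exists_fm
  have p := k.hp (f i)
  have nz : ∀ {u}, u ∈ Qs i → u ∉ zpowers z → vec z (a i) (b i) u ≠ 0 := fun {u} hu un e =>
    un (by simpa using k.div (f i) u hu 1 (one_mem _) (by
      rw [e, vec, Fa.bt_Z_right k.toE1 p.bQ (one_mem _), Fa.bt_Z_left k.toE1 p.aQ (one_mem _)]; rfl))
  obtain ⟨A, hA, e⟩ := s_tr _ _ (nz hu un) (nz hw wn)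
  obtain ⟨ρ, hρ, rfl⟩ := onto' h f i hA
  have r1 : ρ ∈ 𝒞[z] ⊓ 𝒩(Qs i) := ⟨h.Rc (BasB.RiR i hρ), h.RN i (BasB.RiR i hρ)⟩
  exact ⟨ρ, hρ, k.div (f i) _ (conj_mem_of_norm le_rfl r1.2 hu) _ hw (by rw [p.vec_conj r1 hu, e])⟩

/-- notes/TE6.md, section BasB -/
theorem C1.cent_Ri (h : C1 z Q Qs r R) {y : G} (hy : y ∈ 𝒞[z]) (bY : Ba Qs y) {i : Fin 3} (c : y ∈ 𝒞(Qs i)) :
    y ∈ 𝒞(Ri Qs R i) := fun ρ hρ => by
  have k := h.toB2
  have r1 := BasB.RiR i hρ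
  have nc : ∀ {W : Subgroup G} {s t : G}, s ∈ 𝒩(W) → t ∈ 𝒞(W) → s * t * s⁻¹ ∈ 𝒞(W) :=
    fun {W s t} hs ht => by
      rw [← cj_eq_of_mem_norm hs, ← H49.cj_centralizer]
      exact conj_mem_cj.2 ht
  have cj : ∀ j, ρ * y * ρ⁻¹ * y⁻¹ ∈ 𝒞(Qs j) := fun j => by
    by_cases e : i = j
    · subst e
      exact mul_mem (nc (h.RN i r1) c) (inv_mem c)
    · have := mul_mem (h.RiQ e hρ) (nc (bY j) (inv_mem (h.RiQ e hρ)))
      simpa only [mul_assoc] using this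
  have cz : ρ * y * ρ⁻¹ * y⁻¹ ∈ zpowers z := k.toE1.cQ (by
    rw [← h.sup, cent_sup, cent_sup]
    exact ⟨⟨cj 0, cj 1⟩, cj 2⟩)
  have c3 := h.exp _ (Fa.ZQ k.toE1 cz)
  have cc : Commute (ρ * y * ρ⁻¹ * y⁻¹)⁻¹ ρ := Z_comm (h.Rc r1) (inv_mem cz)
  have c4 := cc.mul_pow 4
  rw [show (ρ * y * ρ⁻¹ * y⁻¹)⁻¹ * ρ = y * ρ * y⁻¹ by group, conj_pow, k.R4 r1, mul_one,
    mul_inv_cancel, mul_one, inv_pow, pow_succ, c3, one_mul, eq_comm, inv_eq_one, mul_inv_eq_one,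
    mul_inv_eq_iff_eq_mul] at c4
  exact c4

/-- notes/TE6.md, section BasB -/
theorem C1.lb (h : C1 z Q Qs r R) {g : G} (hy : g * z * g⁻¹ ∈ 𝒞[z]) {i : Fin 3} (c : g * z * g⁻¹ ∈ 𝒞(Qs i)) :
    g * z * g⁻¹ ∈ zpowers z := by
  have k := h.toB2
  have H := k.conj g
  by_contra hn
  have bY : Ba Qs (g * z * g⁻¹) := (k.three hy (k := 1) (by
    rw [pow_one, Fa.z3' H.toE1]; exact one_mem _)).resolve_right fun t => t i (cent_le_norm _ c)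
  have q8 := h.q8 i
  obtain ⟨u, hu, un⟩ := ex_not (Ri Qs R i) [1, r i] (by rw [q8.card]; simp)
  have uu : u * u = r i := by
    rcases q8.el u hu with e | e | e
    · simp [e] at un
    · simp [e] at un
    · exact e
  have uy : u ∈ 𝒞[g * z * g⁻¹] := mem_cent1.2 (h.cent_Ri hy bY c u hu)
  have ry : r i ∈ 𝒞[g * z * g⁻¹] := uu ▸ mul_mem uy uy
  obtain ⟨σ, -, hσ⟩ := H.permHom
  have hB : Ba (fun i => cj g (Qs i)) (r i) := fun j => (hσ ⟨r i, ry⟩ j).2 (by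
    rw [show (⟨r i, ry⟩ : 𝒞[g * z * g⁻¹]) = ⟨u, uy⟩ * ⟨u, uy⟩ from Subtype.ext uu.symm, map_mul,
      p_four _ (by
        rw [← map_pow, show (⟨u, uy⟩ : 𝒞[g * z * g⁻¹]) ^ 4 = 1 from
          Subtype.ext (k.R4 (BasB.RiR i hu)), map_one])]
    rfl)
  obtain ⟨a, b, f⟩ := k.exists_fm
  have key : ∀ u ∈ Qs i, r i * u * (r i)⁻¹ = u⁻¹ → u ∈ cj g Q := fun u hu e =>
    H.not_inv ry hB (by rw [h.rr]; exact one_mem _) (mem_cent1.2 (c u hu))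
      (by rw [h.exp u (k.le i hu)]; exact one_mem _) (by rw [e, inv_mul_cancel]; exact one_mem _)
  have := H.comm _ (key _ (f i).bW (f i).ρb) _ (key _ (f i).aW (f i).ρa)
  rw [(f i).ba, mem_cent1.1 (h.Qc (k.le i (f i).aW)), mul_inv_cancel_right] at this
  exact I1.not_mem h.z3 H.z3 hn this

/-- notes/TE6.md, section BasB -/
theorem C1.y3 (h : C1 z Q Qs r R) {g : G} (hy : g * z * g⁻¹ ∈ Q) (hn : g * z * g⁻¹ ∉ zpowers z) (i : Fin 3) :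
    ¬ Commute (g * z * g⁻¹) (r i) := fun c =>
  hn (h.lb (h.Qc hy) ((h.toB2.cent_r hy i).1 c))

end Cfsg.Agent.TE6
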