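/-
Project TE6 (3-local recognition of `²E₆(2)`), part 1: the interfaces between the parts of the proof.
-/
import Cfsg.Agent.F3.Bas2

set_option autoImplicit false

namespace Cfsg.Agent.TE6

open Subgroup H49 T3.Fr2 F3

/-- coordinates on `J₀ = ⟨z, a₀, a₁, a₂, x⟩` -/
abbrev V5 : Type := Fin 5 → ZMod 3

/-- the invariant quadratic form; the roots are the vectors with `F v = -1` -/
def F (v : V5) : ZMod 3 := v 0 * v 4 - v 1 * v 1 - v 2 * v 2 - v 3 * v 3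

/-- its polar form -/
def B (u v : V5) : ZMod 3 := F (u + v) - F u - F v

/-- the reflection in a non-singular vector `w` -/
def rf (w v : V5) : V5 := v - (B v w * F w) • w

variable {G : Type*} [Group G]

/-- `R` has order `2^9`, so it is the full group `Q₈ × Q₈ × Q₈` -/
structure C1 (z : G) (Q : Subgroup G) (Qs : Fin 3 → Subgroup G) (r : Fin 3 → G) (R : Subgroup G) :
    Prop extends B2 z Q Qs r R where
  cardR : Nat.card R = 512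

/-- the `i`-th quaternion factor of `R` -/
def Ri (Qs : Fin 3 → Subgroup G) (R : Subgroup G) (i : Fin 3) : Subgroup G :=
  R ⊓ 𝒞(Qs (i + 1)) ⊓ 𝒞(Qs (i + 2))

/-- the type of `g`: `g bᵢ g⁻¹ = aᵢ ^ ty i * bᵢ` modulo `⟨z⟩` if `g` fixes `aᵢ` modulo `⟨z⟩` -/
noncomputable def ty (z : G) (b : Fin 3 → G) (g : G) (i : Fin 3) : ZMod 3 := bt z (b i) (g * b i * g⁻¹)

/-- the standard parametrisation of `J₀` -/
def ph (z : G) (a : Fin 3 → G) (x : G) (v : V5) : G :=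
  z ^ (v 0).val * a 0 ^ (v 1).val * a 1 ^ (v 2).val * a 2 ^ (v 3).val * x ^ (v 4).val

/-- Output of `I2a`: `y = a₀a₁a₂ = p z p⁻¹`, `Q' = cj p Q`. -/
structure CA (z : G) (Q : Subgroup G) (Qs : Fin 3 → Subgroup G) (r : Fin 3 → G) (R : Subgroup G)
    (a b : Fin 3 → G) (p s : G) : Prop extends C1 z Q Qs r R where
  fm : ∀ i, Fm z (Qs i) (r i) (a i) (b i)
  pz : p * z * p⁻¹ = a 0 * a 1 * a 2
  py : p * (a 0 * a 1 * a 2) * p⁻¹ = z⁻¹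
  sQ : s ∈ cj p Q ⊓ 𝒞[z]
  sT : Tr Qs s
  xe : ∃ x ∈ cj p Q, x ∈ 𝒞[z] ⊓ 𝒞[a 0] ⊓ 𝒞[a 1] ⊓ 𝒞[a 2] ∧ x ∉ Q
  aa : ∀ i j, a i * (a j)⁻¹ ∈ cj p Q
  nex : ∃ n ∈ Q ⊓ cj p Q, ¬ Commute n (a 0)

/-- Output of `I2b`: `J = C(z, a₀, a₁, a₂)` is elementary abelian and normalised by `p`. -/
structure CB (z : G) (Q : Subgroup G) (Qs : Fin 3 → Subgroup G) (r : Fin 3 → G) (R : Subgroup G)
    (a b : Fin 3 → G) (p s : G) (J : Subgroup G) : Prop extends CA z Q Qs r R a b p s where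
  Jdef : J = 𝒞[z] ⊓ 𝒞[a 0] ⊓ 𝒞[a 1] ⊓ 𝒞[a 2]
  ab : J ≤ 𝒞(J)
  Jexp : ∀ j ∈ J, j ^ 3 = 1
  pJ : p ∈ 𝒩(J)
  sJ : s ∈ 𝒩(J)
  sum : ∀ j ∈ J, ty z b j 0 + ty z b j 1 + ty z b j 2 = 0
  tp : ∀ i, ty z b (p * a 0 * p⁻¹) i ≠ 0

/-- Output of `Uq`: `J` is the unique large abelian subgroup of a Sylow 3-subgroup. -/
structure CU (z : G) (Q : Subgroup G) (Qs : Fin 3 → Subgroup G) (r : Fin 3 → G) (R : Subgroup G)
    (a b : Fin 3 → G) (p s : G) (J : Subgroup G) : Prop extends CB z Q Qs r R a b p s J where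
  syl : H42.SylIn 3 (Q ⊔ J ⊔ zpowers s) ⊤
  uq : ∀ P X : Subgroup G, IsPGroup 3 P → J ≤ P → X ≤ P → X ≤ 𝒞(X) → Nat.card J ≤ Nat.card X → X = J
  fus : ∀ g : G, ∀ u ∈ J, g * u * g⁻¹ ∈ J → ∃ n ∈ 𝒩(J), n * u * n⁻¹ = g * u * g⁻¹

/-- Output of `Om`: coordinates on `J₀`; the conjugates of `z` in `J` are the singular vectors. -/
structure CX (z : G) (Q : Subgroup G) (Qs : Fin 3 → Subgroup G) (r : Fin 3 → G) (R : Subgroup G)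
    (a b : Fin 3 → G) (p s : G) (J : Subgroup G) (x : G) : Prop extends CU z Q Qs r R a b p s J where
  xJ : x ∈ J
  xr : ∀ i, Commute x (r i)
  bx : ∀ i, b i * x * (b i)⁻¹ = x * (a i)⁻¹ * z
  add : ∀ u v, ph z a x (u + v) = ph z a x u * ph z a x v
  inj : Function.Injective (ph z a x)
  mem0 : ∀ j ∈ J, ty z b j 0 = ty z b j 1 → ∃ v, j = ph z a x v
  om : ∀ j ∈ J, IsConj z j ↔ ∃ v, v ≠ 0 ∧ F v = 0 ∧ j = ph z a x v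

/-- Output of part 1: the normaliser of `J` induces the Weyl group of type `E₆` or the orthogonal group. -/
structure TX (z : G) (Q : Subgroup G) (Qs : Fin 3 → Subgroup G) (r : Fin 3 → G) (R : Subgroup G)
    (a b : Fin 3 → G) (p s : G) (J : Subgroup G) (x : G) : Prop extends CX z Q Qs r R a b p s J x where
  iso : ∀ n ∈ 𝒩(J), ∃ M : V5 ≃+ V5, (∀ v, F (M v) = F v) ∧ ∀ v, n * ph z a x v * n⁻¹ = ph z a x (M v)
  root : ∀ v, F v = -1 → ∃ n ∈ 𝒩(J), n * a 0 * n⁻¹ = ph z a x v ∧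
    (∀ u, n * r 0 * n⁻¹ * ph z a x u * (n * r 0 * n⁻¹)⁻¹ = ph z a x (rf v u)) ∧
    ∀ j ∈ J, n * r 0 * n⁻¹ * j * (n * r 0 * n⁻¹)⁻¹ * j⁻¹ ∈ zpowers (ph z a x v)
  cen0 : ∀ g, (∀ v, Commute g (ph z a x v)) → g ∈ J
  xt : (∀ j ∈ J, ∃ v, j = ph z a x v) ∨ ∃ c ∈ J, (∀ i, Commute c (r i)) ∧ b 0 * c * (b 0)⁻¹ = c ∧
    b 1 * c * (b 1)⁻¹ = c * (a 1)⁻¹ * z ∧ b 2 * c * (b 2)⁻¹ = c * a 2 * z⁻¹ ∧
    ∀ j ∈ J, ∃ v, ∃ k : ℕ, j = ph z a x v * c ^ k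
  decH : ∀ g ∈ 𝒞[z], Ba Qs g → ∃ q ∈ Q, ∃ ρ ∈ R, ∃ j ∈ J, g = q * ρ * j

end Cfsg.Agent.TE6
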