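/-
Project TE6 (3-local recognition of `²E₆(2)`), part 2: the interfaces between the parts of the proof.
-/
import Cfsg.Agent.TE6.Defs
import Cfsg.Agent.F42.Defs
import Cfsg.Agent.O83.Defs
import Cfsg.Agent.H29.F4
import Cfsg.Statements.S3338

set_option autoImplicit false

namespace Cfsg.Agent.TE6

open Subgroup H49

variable {G : Type*} [Group G]

/-- the group `J` -/
def JJ (z : G) (a : Fin 3 → G) : Subgroup G := 𝒞[z] ⊓ 𝒞[a 0] ⊓ 𝒞[a 1] ⊓ 𝒞[a 2]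

/-- the centraliser of the symmetric group of degree three at a root -/
def KK (a r : G) : Subgroup G := 𝒞[a] ⊓ 𝒞[r]

/-- `n` fixes `z`, `w` and permutes the `a i` and the `r i` -/
structure Pm (z : G) (a r : Fin 3 → G) (w : G) (σ : Equiv.Perm (Fin 3)) (n : G) : Prop where
  z : Commute n z
  w : Commute n w
  a : ∀ i, n * a i * n⁻¹ = a (σ i)
  r : ∀ i, n * r i * n⁻¹ = r (σ i)

/-- The frame: `J = J₀⟨c⟩`, `J₀ = ⟨z, a₀, a₁, a₂, w⟩`; `t` is the reflection in `z w⁻¹`. -/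
structure HC (z : G) (Q : Subgroup G) (Qs : Fin 3 → Subgroup G) (r : Fin 3 → G) (R : Subgroup G)
    (Rs : Fin 3 → Subgroup G) (a b : Fin 3 → G) (w c s t : G) : Prop extends F3.B2 z Q Qs r R where
  xq : ∀ i, F42.XQ z (Qs i) (Rs i) (r i)
  RQ : ∀ i j, i ≠ j → Rs i ≤ 𝒞(Qs j)
  RR : ∀ i j, i ≠ j → Rs i ≤ 𝒞(Rs j)
  Rsup : Rs 0 ⊔ Rs 1 ⊔ Rs 2 = R
  perm : ∀ g ∈ 𝒞[z], ∀ i, ∃ j, cj g (Qs i) = Qs j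
  fm : ∀ i, F3.Fm z (Qs i) (r i) (a i) (b i)
  wJ : w ∈ JJ z a
  wr : ∀ i, Commute w (r i)
  bw : ∀ i, b i * w * (b i)⁻¹ = w * (a i)⁻¹ * z
  cJ : c ∈ JJ z a
  cr : ∀ i, Commute c (r i)
  cb : c = 1 ∨ (Commute c (b 0) ∧ b 1 * c * (b 1)⁻¹ = c * (a 1)⁻¹ * z ∧ b 2 * c * (b 2)⁻¹ = c * a 2 * z⁻¹)
  ab : JJ z a ≤ 𝒞(JJ z a)
  Jexp : ∀ j ∈ JJ z a, j ^ 3 = 1
  add : ∀ u v, ph z a w (u + v) = ph z a w u * ph z a w v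
  inj : Function.Injective (ph z a w)
  memJ : ∀ j ∈ JJ z a, ∃ v, ∃ k : ℕ, j = ph z a w v * c ^ k
  cen0 : ∀ g, (∀ v, Commute g (ph z a w v)) → g ∈ JJ z a
  dec : ∀ g ∈ 𝒞[z], ∃ q ∈ Q, ∃ u ∈ R, ∃ σ n, Pm z a r w σ n ∧ g = q * u * n
  sP : Pm z a r w (finRotate 3) s
  om : ∀ j ∈ JJ z a, IsConj z j ↔ ∃ v, v ≠ 0 ∧ F v = 0 ∧ j = ph z a w v
  iso : ∀ n ∈ 𝒩(JJ z a), ∃ M : V5 ≃+ V5, (∀ v, F (M v) = F v) ∧ ∀ v, n * ph z a w v * n⁻¹ = ph z a w (M v)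
  uq : ∀ P X : Subgroup G, IsPGroup 3 P → JJ z a ≤ P → X ≤ P → X ≤ 𝒞(X) → Nat.card (JJ z a) ≤ Nat.card X →
    X = JJ z a
  fus : ∀ g : G, ∀ u ∈ JJ z a, g * u * g⁻¹ ∈ JJ z a → ∃ n ∈ 𝒩(JJ z a), n * u * n⁻¹ = g * u * g⁻¹
  tt : t * t = 1
  tz : t * z * t⁻¹ = w
  ta : ∀ i, Commute t (a i)
  tr : ∀ i, Commute t (r i)
  tc : Commute t c
  tN : ∃ n ∈ 𝒩(JJ z a), n * r 0 * n⁻¹ = t

/-- `C_{J₀}(r₀)` -/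
def E0 (z : G) (a : Fin 3 → G) (w : G) : Subgroup G := closure {z, a 1, a 2, w}

/-- the symmetric group of degree six acting on `E0` -/
def W0 (b r : Fin 3 → G) (t : G) : Subgroup G := closure {b 1, b 2, r 1, r 2, t}

/-- the central product of ten quaternion groups -/
def XX (b : Fin 3 → G) (t : G) (R0 : Subgroup G) : Subgroup G :=
  R0 ⊔ ⨆ m : Fin 3 × Fin 3, cj (b 1 ^ m.1.val * b 2 ^ m.2.val * t) R0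

/-- `X` is extraspecial of order `2 ^ n` with centre `⟨r⟩` -/
structure XE (r : G) (X : Subgroup G) (n : ℕ) : Prop where
  r1 : r ≠ 1
  rr : r * r = 1
  rX : r ∈ X
  card : Nat.card X = 2 ^ n
  rc : X ≤ 𝒞[r]
  sq : ∀ x ∈ X, x * x = 1 ∨ x * x = r
  cm : ∀ x ∈ X, ∀ y ∈ X, x * y = y * x ∨ x * y = y * x * r
  cen : ∀ x ∈ X, (∀ y ∈ X, x * y = y * x) → x = 1 ∨ x = r

/-- `K₀ = F*(K) ≅ U₆(2)` -/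
structure KU (K K0 : Subgroup G) : Prop where
  le : K0 ≤ K
  nrm : K ≤ 𝒩(K0)
  iso : Nonempty (K0 ≃* Cfsg.PSU 6 H29.F4 2)
  cen : K ⊓ 𝒞(K0) = ⊥

/-- what is used about `K`, the transvection `ρ` and `Y = O₂(C_K(ρ))` -/
structure KI (K K0 Y D Rρ : Subgroup G) (z ρ : G) : Prop extends KU K K0 where
  mem : ρ ∈ K0
  frat : ∀ g ∈ K, ∃ k ∈ K0, k * g ∈ 𝒞[z]
  xe : XE ρ Y 9
  YK : Y ≤ K
  RY : Rρ ≤ Y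
  nY : K ⊓ 𝒞[ρ] ≤ 𝒩(Y)
  cY : K ⊓ 𝒞(Y) ≤ Y
  sig : ∀ N : Subgroup G, N ≤ K ⊓ 𝒞[ρ] → ¬ 3 ∣ Nat.card N → D ≤ 𝒩(N) → N ≤ Y
  tr : ∀ g ∈ K, ∀ g' ∈ K, ¬ Commute (g * ρ * g⁻¹) ρ → ¬ Commute (g' * ρ * g'⁻¹) ρ →
    ∃ y ∈ Y, y * (g * ρ * g⁻¹) * y⁻¹ = g' * ρ * g'⁻¹

/-- `N(X) = X K` -/
structure MX (r : G) (X K K0 : Subgroup G) : Prop extends KU K K0 where
  xe : XE r X 21
  Kr : K ≤ 𝒞[r]
  NX : 𝒩(X) = X ⊔ K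
  dis : K ⊓ X = ⊥
  nt : ∃ k ∈ K0, ∃ x ∈ X, k * x * k⁻¹ ≠ x ∧ k * x * k⁻¹ ≠ x * r

/-- the orthogonal complement of `a₁ a₂` -/
def emb (v : O83.V) : V5 := ![v.2.2.1 + v.2.2.2 - v.2.1, v.1, v.2.2.1 - v.2.2.2, v.2.2.2 - v.2.2.1,
  v.2.1 + v.2.2.1 + v.2.2.2]

/-- the normaliser of `⟨x, c⟩` in `C(x)` -/
def YX (x c : G) : Subgroup G := 𝒞[x] ⊓ 𝒩(closure {x, c})

/-- the quotient of `YX x c` by `⟨x, c⟩` is of type `Ω₈⁺(2)` -/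
structure LK (x c r : G) (φ : V5 → G) {Y : Type*} [Group Y] (f : YX x c →* Y) (Γ : Subgroup O83.O4)
    (e : O83.V → Y) (σ : O83.O4 → Y) (i : Y) : Prop where
  cf : O83.Cf Γ e σ i
  sur : Function.Surjective f
  ker : ∀ g, f g = 1 ↔ g.1 ∈ closure {x, c}
  fe : ∀ v g, g.1 = φ (emb v) → f g = e v
  fr : ∀ g, g.1 = r → f g = σ O83.r0

/-- The situation in `C(r₀, x)`, the ambient group. -/
structure WS (t x c : G) (H S D : Subgroup G) {Y : Type*} [Group Y] (f : H →* Y) (Γ : Subgroup O83.O4)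
    (e : O83.V → Y) (σ : O83.O4 → Y) (i : Y) (π : Y → O83.V8) : Prop where
  cf : O83.Cf Γ e σ i
  sd : O83.Sd Γ e σ i π
  hm : ∀ g, g * σ O83.r0 = σ O83.r0 * g → ∃ y ∈ O83.SS e σ i, y⁻¹ * g ∈ O83.NN e
  ok : O83.Ok (σ O83.r0) (O83.SS e σ i)
  tc : ∀ g, Commute g t
  xc : ∀ g, Commute g x
  x3 : orderOf x = 3
  c3 : c ^ 3 = 1
  Hdef : H = 𝒩(closure {x, c})
  ker : ∀ g, f g = 1 ↔ g.1 ∈ closure {x, c}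
  rng : ∀ y, y ∈ f.range ↔ y * σ O83.r0 = σ O83.r0 * y
  ft : ∀ g, g.1 = t → f g = σ O83.r0
  xe : XE t S 9
  SH : S ≤ H
  fS : (S.subgroupOf H).map f = O83.SS e σ i
  DH : D ≤ H
  xD : x ∈ D
  Dab : D ≤ 𝒞(D)
  D3 : ∀ d ∈ D, d ^ 3 = 1
  fD : ∀ d : H, d.1 ∈ D → ∃ v : O83.V, v.1 = 0 ∧ f d = e v
  Df : ∀ v : O83.V, v.1 = 0 → ∃ d : H, d.1 ∈ D ∧ f d = e v
  cn : c ∉ S ⊔ D
  cS : c ∈ 𝒞(S)
  cD : c ∈ 𝒞(D)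
  nS : H ≤ 𝒩(S)
  nD : H ≤ 𝒩(S ⊔ D)
  se : ∀ d ∈ D, d ∉ zpowers x → ∀ g, g * d * g⁻¹ ∈ H → g ∈ 𝒩(S)
  sig : ∀ N : Subgroup G, ¬ 3 ∣ Nat.card N → D ≤ 𝒩(N) → N ≤ S
  g1 : ∀ g : H, ∀ y ∈ O83.SS e σ i, ∀ v, ∀ A ∈ O83.Γ1, f g = y * (e v * σ A) →
    g.1 * c * g.1⁻¹ * c⁻¹ ∈ zpowers x

end Cfsg.Agent.TE6
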