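/-
Project TE6: types of the elements that fix every `aᵢ` modulo `⟨z⟩`; the group `J = C(z, a₀, a₁, a₂)`.
-/
import Cfsg.Agent.TE6.Defs
import Cfsg.Agent.F3.I2a
import Cfsg.Agent.T3.Fr0

set_option autoImplicit false

namespace Cfsg.Agent.TE6

open Subgroup H49 T3.Fr2 F3

variable {G : Type*} [Group G] [Finite G] {z : G} {Q R : Subgroup G} {Qs : Fin 3 → Subgroup G}
  {r : Fin 3 → G} {a b : Fin 3 → G}

namespace Ty

omit [Finite G] in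
theorem memJ {j : G} : j ∈ 𝒞[z] ⊓ 𝒞[a 0] ⊓ 𝒞[a 1] ⊓ 𝒞[a 2] ↔ j ∈ 𝒞[z] ∧ ∀ i, Commute j (a i) := by
  constructor
  · rintro ⟨⟨⟨h, h0⟩, h1⟩, h2⟩
    refine ⟨h, fun i => ?_⟩
    obtain rfl | rfl | rfl : i = 0 ∨ i = 1 ∨ i = 2 := by revert i; decide
    exacts [mem_cent1.1 h0, mem_cent1.1 h1, mem_cent1.1 h2]
  · rintro ⟨h, k⟩
    exact ⟨⟨⟨h, mem_cent1.2 (k 0)⟩, mem_cent1.2 (k 1)⟩, mem_cent1.2 (k 2)⟩

omit [Finite G] in
theorem J_St {j : G} (hj : j ∈ 𝒞[z] ⊓ 𝒞[a 0] ⊓ 𝒞[a 1] ⊓ 𝒞[a 2]) (i : Fin 3) : j ∈ T3.St z (a i) :=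
  T3.mem_St.2 ⟨(memJ.1 hj).1, by rw [((memJ.1 hj).2 i).eq]; simp⟩

omit [Finite G] in
theorem cjc {ρ j x y : G} (e : ρ * y * ρ⁻¹ = x) (c : Commute j y) : Commute (ρ * j * ρ⁻¹) x := by
  rw [← e]
  calc ρ * j * ρ⁻¹ * (ρ * y * ρ⁻¹) = ρ * (j * y) * ρ⁻¹ := by group
    _ = ρ * y * ρ⁻¹ * (ρ * j * ρ⁻¹) := by rw [c.eq]; group

omit [Finite G] in
theorem zp_conj (g u : G) (t : ZMod 3) : g * zp u t * g⁻¹ = zp (g * u * g⁻¹) t := by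
  rw [zp, zp, conj_pow]

omit [Finite G] in
theorem zp_neg {u : G} (h : u ^ 3 = 1) (t : ZMod 3) : zp u (-t) = (zp u t)⁻¹ := by
  rw [eq_inv_iff_mul_eq_one, ← zp_add h, neg_add_cancel, zp_zero]

theorem nrm (h : B2 z Q Qs r R) (f : ∀ i, Fm z (Qs i) (r i) (a i) (b i)) {g : G} {i : Fin 3}
    (hg : g ∈ T3.St z (a i)) : g ∈ 𝒞[z] ⊓ 𝒩(Qs i) :=
  ⟨hg.1, h.norm_of hg.1 (f i).aW (h.aZ (f i)) (by
    have := mul_mem (Bas2.ZQs h i hg.2) (f i).aW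
    rwa [inv_mul_cancel_right] at this)⟩

omit [Finite G] in
theorem ra (h : B2 z Q Qs r R) (f : ∀ i, Fm z (Qs i) (r i) (a i) (b i)) {i k : Fin 3} (n : i ≠ k) :
    Commute (a k) (r i) := h.rc i k n _ (f k).aW

theorem rN (h : B2 z Q Qs r R) (f : ∀ i, Fm z (Qs i) (r i) (a i) (b i)) {j : G}
    (hj : j ∈ 𝒞[z] ⊓ 𝒞[a 0] ⊓ 𝒞[a 1] ⊓ 𝒞[a 2]) (i : Fin 3) :
    r i * j * (r i)⁻¹ ∈ 𝒞[z] ⊓ 𝒞[a 0] ⊓ 𝒞[a 1] ⊓ 𝒞[a 2] := by
  obtain ⟨jz, ja⟩ := memJ.1 hj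
  refine memJ.2 ⟨mul_mem (mul_mem (h.rz i) jz) (inv_mem (h.rz i)), fun k => ?_⟩
  by_cases n : i = k
  · subst n
    exact cjc (y := (a i)⁻¹) (by rw [← conj_inv, (f i).ρa, inv_inv]) (ja i).inv_right
  · exact cjc (y := a k) (by rw [← (ra h f n).eq, mul_inv_cancel_right]) (ja k)

theorem split (h : B2 z Q Qs r R) (f : ∀ i, Fm z (Qs i) (r i) (a i) (b i)) {q : G}
    (hq : q ∈ Q ⊓ 𝒞[a 0] ⊓ 𝒞[a 1] ⊓ 𝒞[a 2]) (k : Fin 3) :
    ∃ (u : G) (e : ℕ), Commute u (r k) ∧ q = u * a k ^ e := by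
  obtain ⟨i, l, m, n, rfl⟩ := (h.mem_A f).1 hq
  have c : ∀ i j, i ≠ j → ∀ e : ℕ, Commute (a j ^ e) (r i) := fun i j n e =>
    (ra h f n).pow_left e
  have cz : ∀ k, Commute (z ^ i) (r k) := fun k =>
    Commute.pow_left (mem_cent1.1 (h.rz k) : Commute (r k) z).symm i
  have ca : ∀ i j, ∀ e e' : ℕ, a i ^ e * a j ^ e' = a j ^ e' * a i ^ e := fun i j e e' =>
    ((I2a.aa h f i j).pow_pow e e').eq
  obtain rfl | rfl | rfl : k = 0 ∨ k = 1 ∨ k = 2 := by revert k; decide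
  · exact ⟨z ^ i * a 1 ^ m * a 2 ^ n, l, ((cz 0).mul_left (c 0 1 (by decide) m)).mul_left
      (c 0 2 (by decide) n), by
        rw [mul_assoc _ (a 0 ^ l), ca 0 1, ← mul_assoc, mul_assoc _ (a 0 ^ l), ca 0 2, ← mul_assoc]⟩
  · exact ⟨z ^ i * a 0 ^ l * a 2 ^ n, m, ((cz 1).mul_left (c 1 0 (by decide) l)).mul_left
      (c 1 2 (by decide) n), by rw [mul_assoc _ (a 1 ^ m), ca 1 2, ← mul_assoc]⟩
  · exact ⟨z ^ i * a 0 ^ l * a 1 ^ m, n, ((cz 2).mul_left (c 2 0 (by decide) l)).mul_left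
      (c 2 1 (by decide) m), rfl⟩

theorem cen (h : B2 z Q Qs r R) {c : G} (hc : c ∈ Q) (e : ∀ i, Commute c (r i)) : c ∈ zpowers z :=
  Bas1a.cenQ h hc fun i => (h.cent_r hc i).1 (e i)

end Ty

open Ty

/-- notes/TE6.md, section Ty -/
theorem ty_spec (h : B2 z Q Qs r R) (f : ∀ i, Fm z (Qs i) (r i) (a i) (b i)) {g : G} {i : Fin 3}
    (hg : g ∈ T3.St z (a i)) : g * b i * g⁻¹ * (zp (a i) (ty z b g i) * b i)⁻¹ ∈ zpowers z := by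
  have p := h.hp (f i)
  have n := nrm h f hg
  refine h.div (f i) _ (conj_mem_of_norm le_rfl n.2 (f i).bW) _
    (mul_mem (pow_mem (f i).aW _) (f i).bW) ?_
  have e := p.vec_zp (ty z b g i) 1
  rw [zp_one] at e
  rw [e]
  refine Prod.ext rfl ?_
  change bt z (g * b i * g⁻¹) (a i) = 1
  rw [← Fa.bt_congr_right h.toE1 (Fa.conjQ h.toE1 hg.1 p.bQ) p.aQ hg.2,
    Fa.bt_conj h.toE1 hg.1 p.bQ p.aQ, p.ba]

/-- notes/TE6.md, section Ty -/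
theorem ty_mul (h : B2 z Q Qs r R) (f : ∀ i, Fm z (Qs i) (r i) (a i) (b i)) {g k : G} {i : Fin 3}
    (hg : g ∈ T3.St z (a i)) (hk : k ∈ T3.St z (a i)) : ty z b (g * k) i = ty z b g i + ty z b k i := by
  have p := h.hp (f i)
  have E := h.toE1
  have s := ty_spec h f hk
  have m : zp (a i) (ty z b k i) * b i ∈ Q := mul_mem (pow_mem p.aQ _) p.bQ
  have e : g * k * b i * (g * k)⁻¹ * (g * (zp (a i) (ty z b k i) * b i) * g⁻¹)⁻¹ ∈ zpowers z := by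
    rw [← Z_conj hg.1 s] at s
    convert s using 1
    group
  have ga := Fa.conjQ E hg.1 p.aQ
  change bt z (b i) (g * k * b i * (g * k)⁻¹) = _
  rw [Fa.bt_congr_right E p.bQ (Fa.conjQ E hg.1 m) e,
    show g * (zp (a i) (ty z b k i) * b i) * g⁻¹ =
      g * zp (a i) (ty z b k i) * g⁻¹ * (g * b i * g⁻¹) by group, zp_conj,
    Fa.bt_mul_right E p.bQ (w := zp _ _) (pow_mem ga _) (Fa.conjQ E hg.1 p.bQ),
    Fa.bt_zp_right E p.bQ ga, Fa.bt_congr_right E p.bQ p.aQ hg.2, p.ba, mul_one, add_comm]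
  rfl

/-- notes/TE6.md, section Ty -/
theorem ty_zero (h : B2 z Q Qs r R) (f : ∀ i, Fm z (Qs i) (r i) (a i) (b i)) {g : G} {i : Fin 3}
    (hg : g ∈ T3.St z (a i)) : ty z b g i = 0 ↔ Tv z (Qs i) g := by
  have p := h.hp (f i)
  constructor
  · intro e
    have s := ty_spec h f hg
    rw [e, zp_zero, one_mul] at s
    exact (h.tv_iff (f i) (nrm h f hg)).2 (p.mat_one hg.2 s)
  · intro tv
    change bt z (b i) (g * b i * g⁻¹) = 0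
    rw [Fa.bt_congr_right h.toE1 p.bQ p.bQ (tv _ p.bW), Fa.bt_self h.toE1 p.bQ]

/-- notes/TE6.md, section Ty -/
theorem ty_Q (h : B2 z Q Qs r R) (f : ∀ i, Fm z (Qs i) (r i) (a i) (b i)) {g : G}
    (hg : ∀ i, g ∈ T3.St z (a i)) : (∀ i, ty z b g i = 0) ↔ g ∈ Q :=
  ⟨fun e => h.ker (hg 0).1 fun i => (ty_zero h f (hg i)).1 (e i),
    fun e i => (ty_zero h f (hg i)).2 fun q hq => h.comm g e q (h.le i hq)⟩

theorem Ty.ty_inv (h : B2 z Q Qs r R) (f : ∀ i, Fm z (Qs i) (r i) (a i) (b i)) {g : G} {i : Fin 3}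
    (hg : g ∈ T3.St z (a i)) : ty z b g⁻¹ i = -ty z b g i := by
  have e := ty_mul h f hg (inv_mem hg)
  rw [mul_inv_cancel, (ty_zero h f (one_mem _)).2 fun q _ => by simp] at e
  exact eq_neg_of_add_eq_zero_right e.symm

theorem Ty.rJ' (h : B2 z Q Qs r R) (f : ∀ i, Fm z (Qs i) (r i) (a i) (b i)) {j : G}
    (hj : j ∈ 𝒞[z] ⊓ 𝒞[a 0] ⊓ 𝒞[a 1] ⊓ 𝒞[a 2]) (i : Fin 3) :
    ∃ e : ℕ, r i * j * (r i)⁻¹ = a i ^ e * j := by
  have jz := (memJ.1 hj).1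
  have aQ : r i * j * (r i)⁻¹ * j⁻¹ ∈ Q := h.inv_comm (h.rz i) (h.rB i) (by rw [h.rr]; exact one_mem _) jz
    (h.comm_A f jz fun k => (J_St hj k).2).1
  have aJ := mul_mem (rN h f hj i) (inv_mem hj)
  obtain ⟨u, e, cu, eu⟩ := split h f (⟨⟨⟨aQ, aJ.1.1.2⟩, aJ.1.2⟩, aJ.2⟩ :
    r i * j * (r i)⁻¹ * j⁻¹ ∈ Q ⊓ 𝒞[a 0] ⊓ 𝒞[a 1] ⊓ 𝒞[a 2]) i
  have ri : (r i)⁻¹ = r i := inv_eq_of_mul_eq_one_right (h.rr i)
  have e1 : r i * (r i * j * (r i)⁻¹ * j⁻¹) * (r i)⁻¹ = (r i * j * (r i)⁻¹ * j⁻¹)⁻¹ := by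
    calc _ = r i * r i * (j * (r i)⁻¹ * j⁻¹ * (r i)⁻¹) := by group
      _ = j * r i * j⁻¹ * (r i)⁻¹ := by rw [h.rr, one_mul]; nth_rw 1 [ri]
      _ = _ := by group
  have ca := ((memJ.1 aJ).2 i).pow_right e
  have uQ : u ∈ Q := by
    have := mul_mem aQ (inv_mem (pow_mem (I2a.aQ h f i) e))
    rwa [eu, mul_inv_cancel_right] at this
  rw [eu] at e1 ca
  have ua : Commute u (a i ^ e) := by
    have := ca.mul_left (Commute.refl (a i ^ e)).inv_left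
    rwa [mul_inv_cancel_right] at this
  have e2 : u * u = 1 := by
    have k : r i * (u * a i ^ e) * (r i)⁻¹ = (a i ^ e)⁻¹ * u := by
      calc _ = (r i * u * (r i)⁻¹) * (r i * a i ^ e * (r i)⁻¹) := by group
        _ = u * (a i ^ e)⁻¹ := by rw [← cu.eq, mul_inv_cancel_right, ← conj_pow, (f i).ρa, inv_pow]
        _ = _ := ua.inv_right.eq
    rw [k, mul_inv_rev] at e1
    exact mul_eq_one_iff_eq_inv.2 (mul_left_cancel e1)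
  have e3 : u = 1 := by
    have := h.exp u uQ
    rwa [pow_succ, pow_two, e2, one_mul] at this
  exact ⟨e, by rw [← mul_inv_eq_iff_eq_mul, eu, e3, one_mul]⟩

/-- notes/TE6.md, section Ty -/
theorem rJ (h : B2 z Q Qs r R) (f : ∀ i, Fm z (Qs i) (r i) (a i) (b i)) {j : G}
    (hj : j ∈ 𝒞[z] ⊓ 𝒞[a 0] ⊓ 𝒞[a 1] ⊓ 𝒞[a 2]) (i : Fin 3) : r i * j * (r i)⁻¹ * j⁻¹ ∈ zpowers (a i) := by
  obtain ⟨e, he⟩ := rJ' h f hj i
  rw [he, mul_inv_cancel_right]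
  exact pow_mem (mem_zpowers _) e

/-- notes/TE6.md, section Ty -/
theorem adjJ (h : B2 z Q Qs r R) (f : ∀ i, Fm z (Qs i) (r i) (a i) (b i)) {j : G}
    (hj : j ∈ 𝒞[z] ⊓ 𝒞[a 0] ⊓ 𝒞[a 1] ⊓ 𝒞[a 2]) :
    ∃ k l m : ℕ, ∀ i, Commute (a 0 ^ k * a 1 ^ l * a 2 ^ m * j) (r i) := by
  choose e he using rJ' h f hj
  have c : ∀ i, Commute (a i ^ (2 * e i) * j) (r i) := fun i => by
    have a3 := h.exp _ (I2a.aQ h f i)
    have k : (a i ^ (2 * e i))⁻¹ * a i ^ e i = a i ^ (2 * e i) := by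
      rw [inv_mul_eq_iff_eq_mul, ← pow_add, show 2 * e i + 2 * e i = 3 * e i + e i by ring, pow_add,
        pow_mul, a3, one_pow, one_mul]
    have : r i * (a i ^ (2 * e i) * j) * (r i)⁻¹ = a i ^ (2 * e i) * j := by
      calc _ = (r i * a i ^ (2 * e i) * (r i)⁻¹) * (r i * j * (r i)⁻¹) := by group
        _ = _ := by rw [← conj_pow, (f i).ρa, inv_pow, he, ← mul_assoc, k]
    exact (mul_inv_eq_iff_eq_mul.1 this).symm
  have d : ∀ i k, i ≠ k → Commute (a k ^ (2 * e k)) (r i) := fun i k n => (ra h f n).pow_left _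
  have ca : ∀ i k, a i ^ (2 * e i) * a k ^ (2 * e k) = a k ^ (2 * e k) * a i ^ (2 * e i) := fun i k =>
    ((I2a.aa h f i k).pow_pow _ _).eq
  refine ⟨2 * e 0, 2 * e 1, 2 * e 2, fun i => ?_⟩
  obtain rfl | rfl | rfl : i = 0 ∨ i = 1 ∨ i = 2 := by revert i; decide
  · rw [ca 0 1, mul_assoc _ (a 0 ^ _), ca 0 2, mul_assoc, mul_assoc]
    exact (d 0 1 (by decide)).mul_left ((d 0 2 (by decide)).mul_left (c 0))
  · rw [mul_assoc _ (a 1 ^ _), ca 1 2, mul_assoc, mul_assoc]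
    exact (d 1 0 (by decide)).mul_left ((d 1 2 (by decide)).mul_left (c 1))
  · rw [mul_assoc, mul_assoc]
    exact (d 2 0 (by decide)).mul_left ((d 2 1 (by decide)).mul_left (c 2))

/-- notes/TE6.md, section Ty -/
theorem bJ (h : B2 z Q Qs r R) (f : ∀ i, Fm z (Qs i) (r i) (a i) (b i)) {j : G}
    (hj : j ∈ 𝒞[z] ⊓ 𝒞[a 0] ⊓ 𝒞[a 1] ⊓ 𝒞[a 2]) {i : Fin 3} (c : Commute j (r i)) :
    b i * j * (b i)⁻¹ = j * zp (a i) (-ty z b j i) * zp z (ty z b j i) := by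
  obtain ⟨jz, ja⟩ := memJ.1 hj
  have E := h.toE1
  have s := ty_spec h f (J_St hj i)
  have aQ := I2a.aQ h f i
  have bQ := I2a.bQ h f i
  rw [zp_neg (h.exp _ aQ)]
  have AQ : zp (a i) (ty z b j i) ∈ Q := pow_mem aQ _
  have jA : Commute j (zp (a i) (ty z b j i)) := (ja i).pow_right _
  have dZ : zp z (ty z b j i) ∈ zpowers z := pow_mem (mem_zpowers z) _
  have rA : r i * zp (a i) (ty z b j i) * (r i)⁻¹ = (zp (a i) (ty z b j i))⁻¹ := by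
    rw [zp_conj, (f i).ρa, zp, zp, inv_pow]
  have bA : b i * zp (a i) (ty z b j i) * (b i)⁻¹ = zp (a i) (ty z b j i) * zp z (ty z b j i) := by
    rw [zp_conj, (f i).ba, zp, zp, zp, Commute.mul_pow (mem_cent1.1 (h.Qc aQ))]
  generalize zp (a i) (ty z b j i) = A at *
  generalize zp z (ty z b j i) = d at *
  generalize hc : j * b i * j⁻¹ * (A * b i)⁻¹ = c' at s
  have e1 : j * b i * j⁻¹ = c' * A * b i := by rw [← hc]; group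
  have e2 : j * (b i)⁻¹ * j⁻¹ = c' * A⁻¹ * (b i)⁻¹ := by
    have := congrArg (fun y => r i * y * (r i)⁻¹) e1
    rw [show r i * (j * b i * j⁻¹) * (r i)⁻¹ =
        (r i * j * (r i)⁻¹) * (r i * b i * (r i)⁻¹) * (r i * j * (r i)⁻¹)⁻¹ by group,
      show r i * (c' * A * b i) * (r i)⁻¹ =
        (r i * c' * (r i)⁻¹) * (r i * A * (r i)⁻¹) * (r i * b i * (r i)⁻¹) by group,
      (f i).ρb, rA, Z_conj (h.rz i) s, ← c.eq, mul_inv_cancel_right] at this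
    exact this
  have e3 : c' * c' = d := by
    have k : (c' * A * b i) * (c' * A⁻¹ * (b i)⁻¹) = 1 := by rw [← e1, ← e2]; group
    have k2 : (c' * A * b i) * (c' * A⁻¹ * (b i)⁻¹) =
        c' * (A * (b i * c' * (b i)⁻¹) * A⁻¹) * (A * (b i * A * (b i)⁻¹)⁻¹) := by group
    rw [k2, Z_conj (h.Qc bQ) s, Z_conj (h.Qc AQ) s, bA,
      show A * (A * d)⁻¹ = (A * d * A⁻¹)⁻¹ by group, Z_conj (h.Qc AQ) dZ] at k
    exact mul_inv_eq_one.1 k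
  have e4 : c' = d⁻¹ := by
    have := h.exp c' (Fa.ZQ E s)
    rw [pow_succ', pow_two, e3] at this
    exact eq_inv_of_mul_eq_one_left this
  calc b i * j * (b i)⁻¹ = (j * b i * j⁻¹ * (b i)⁻¹)⁻¹ * j := by group
    _ = A⁻¹ * (d * j) := by rw [e1, e4]; group
    _ = _ := by rw [Z_comm jz dZ, ← mul_assoc, ← jA.inv_right.eq]

/-- notes/TE6.md, section Ty -/
theorem commJ (h : B2 z Q Qs r R) (f : ∀ i, Fm z (Qs i) (r i) (a i) (b i)) {j k : G}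
    (hj : j ∈ 𝒞[z] ⊓ 𝒞[a 0] ⊓ 𝒞[a 1] ⊓ 𝒞[a 2]) (hk : k ∈ 𝒞[z] ⊓ 𝒞[a 0] ⊓ 𝒞[a 1] ⊓ 𝒞[a 2]) :
    j * k * j⁻¹ * k⁻¹ ∈ zpowers z ∧ j ^ 3 ∈ zpowers z := by
  obtain ⟨jz, ja⟩ := memJ.1 hj
  obtain ⟨kz, ka⟩ := memJ.1 hk
  constructor
  · have sj := J_St hj
    have sk := J_St hk
    refine cen h ((ty_Q h f fun i => mul_mem (mul_mem (mul_mem (sj i) (sk i)) (inv_mem (sj i)))
      (inv_mem (sk i))).1 fun i => ?_) fun i => ?_
    · rw [ty_mul h f (mul_mem (mul_mem (sj i) (sk i)) (inv_mem (sj i))) (inv_mem (sk i)),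
        ty_mul h f (mul_mem (sj i) (sk i)) (inv_mem (sj i)), ty_mul h f (sj i) (sk i),
        ty_inv h f (sj i), ty_inv h f (sk i)]
      ring
    · obtain ⟨e, he⟩ := rJ' h f hj i
      obtain ⟨e', he'⟩ := rJ' h f hk i
      have c1 := (ja i).pow_right e
      have c2 := (ka i).pow_right e
      have c3 := (ja i).pow_right e'
      have c4 := (ka i).pow_right e'
      have c5 : Commute (a i ^ e) (a i ^ e') := (Commute.refl _).pow_pow _ _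
      generalize a i ^ e = α at *
      generalize a i ^ e' = β at *
      have : r i * (j * k * j⁻¹ * k⁻¹) * (r i)⁻¹ = j * k * j⁻¹ * k⁻¹ := by
        calc _ = (r i * j * (r i)⁻¹) * (r i * k * (r i)⁻¹) * (r i * j * (r i)⁻¹)⁻¹ *
              (r i * k * (r i)⁻¹)⁻¹ := by group
          _ = α * (j * β * k * j⁻¹) * α⁻¹ * k⁻¹ * β⁻¹ := by rw [he, he']; group
          _ = β * (j * k * j⁻¹ * k⁻¹) * β⁻¹ := by
            rw [← (((c1.mul_left c5.symm).mul_left c2).mul_left c1.inv_left).eq, mul_inv_cancel_right,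
              c3.eq]
            group
          _ = _ := by
            rw [← (((c3.mul_left c4).mul_left c3.inv_left).mul_left c4.inv_left).eq, mul_inv_cancel_right]
      exact (mul_inv_eq_iff_eq_mul.1 this).symm
  · refine cen h (h.comm_A f jz fun k => (J_St hj k).2).2.1 fun i => ?_
    obtain ⟨e, he⟩ := rJ' h f hj i
    have : r i * j ^ 3 * (r i)⁻¹ = j ^ 3 := by
      rw [← conj_pow, he, ((ja i).pow_right e).symm.mul_pow, ← pow_mul, mul_comm, pow_mul,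
        h.exp _ (I2a.aQ h f i), one_pow, one_mul]
    exact (mul_inv_eq_iff_eq_mul.1 this).symm

/-- notes/TE6.md, section Ty -/
theorem QJ (h : B2 z Q Qs r R) (f : ∀ i, Fm z (Qs i) (r i) (a i) (b i)) {g : G}
    (hg : ∀ i, g ∈ T3.St z (a i)) : ∃ q ∈ Q, ∃ j ∈ 𝒞[z] ⊓ 𝒞[a 0] ⊓ 𝒞[a 1] ⊓ 𝒞[a 2], g = q * j := by
  have E := h.toE1
  obtain ⟨u, hu⟩ : ∃ u : Fin 3 → G, u = fun i => zp (b i) (lg z (g * a i * g⁻¹ * (a i)⁻¹)) := ⟨_, rfl⟩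
  have us : ∀ i, u i ∈ Qs i := fun i => by rw [hu]; exact pow_mem (f i).bW _
  have qQ : u 0 * u 1 * u 2 ∈ Q := mul_mem (mul_mem (h.le 0 (us 0)) (h.le 1 (us 1))) (h.le 2 (us 2))
  have e : ∀ i, bt z (u 0 * u 1 * u 2) (a i) = lg z (g * a i * g⁻¹ * (a i)⁻¹) := fun i => by
    rw [Bas2.bt_dec h us (f i).aW, hu, Fa.bt_zp_left E (I2a.bQ h f i) (I2a.aQ h f i),
      Bas2.ba h (f i), mul_one]
  generalize u 0 * u 1 * u 2 = q at *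
  refine ⟨q, qQ, q⁻¹ * g, memJ.2 ⟨mul_mem (inv_mem (h.Qc qQ)) (hg 0).1, fun i => ?_⟩, by group⟩
  have k := Fa.bt_spec E qQ (I2a.aQ h f i)
  rw [e, zp_lg h.z3 (hg i).2] at k
  have k2 := mul_right_cancel k
  calc q⁻¹ * g * a i = q⁻¹ * (g * a i * g⁻¹) * g := by group
    _ = a i * (q⁻¹ * g) := by rw [k2]; group

/-- notes/TE6.md, section Ty -/
theorem Q_normJ (h : B2 z Q Qs r R) (f : ∀ i, Fm z (Qs i) (r i) (a i) (b i)) :
    Q ≤ 𝒩(𝒞[z] ⊓ 𝒞[a 0] ⊓ 𝒞[a 1] ⊓ 𝒞[a 2]) ∧ ∀ i, r i ∈ 𝒩(𝒞[z] ⊓ 𝒞[a 0] ⊓ 𝒞[a 1] ⊓ 𝒞[a 2]) := by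
  constructor
  · refine le_norm_iff.2 fun q hq j hj => ?_
    obtain ⟨jz, ja⟩ := memJ.1 hj
    refine memJ.2 ⟨mul_mem (mul_mem (h.Qc hq) jz) (inv_mem (h.Qc hq)), fun i => ?_⟩
    refine cjc (y := q⁻¹ * a i * q⁻¹⁻¹ * (a i)⁻¹ * a i) (by group) (Commute.mul_right ?_ (ja i))
    exact (Z_comm jz (h.comm _ (inv_mem hq) _ (I2a.aQ h f i))).symm
  · refine fun i => mem_norm_of_cj_le fun x hx => ?_
    obtain ⟨y, hy, rfl⟩ := mem_cj'.1 hx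
    exact rN h f hy i

end Cfsg.Agent.TE6
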