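/-
Project TE6: the frame used in part 2.
-/
import Cfsg.Agent.TE6.DefsB
import Cfsg.Agent.TE6.BasB
import Cfsg.Agent.TE6.Ty
import Cfsg.Agent.F3.I3

set_option autoImplicit false

namespace Cfsg.Agent.TE6

open Subgroup H49 T3.Fr2 F3

variable {G : Type*} [Group G] [Finite G] {z : G} {Q R : Subgroup G} {Qs : Fin 3 → Subgroup G}
  {r : Fin 3 → G} {a b : Fin 3 → G} {p s x : G} {J : Subgroup G}

namespace Hc

theorem adj (h : B2 z Q Qs r R) {t : G} (ht : t ∈ 𝒞[z]) {σ : Equiv.Perm (Fin 3)}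
    (hσ : ∀ i, cj t (Qs i) = Qs (σ i)) (j : Fin 3) : ∃ q ∈ Q, (∀ i, cj (q * t) (Qs i) = Qs (σ i)) ∧
      q * t * r j * (q * t)⁻¹ = r (σ j) ∧ ∀ k, t * r k * t⁻¹ = r (σ k) → q * t * r k * (q * t)⁻¹ = r (σ k) := by
  have m := i3_act h ht hσ j
  have cr : ∀ i j, Commute (r i) (r j) := fun i j => i3_c1.1 (h.Rr j (h.rR i))
  refine ⟨t * r j * t⁻¹ * r (σ j), m, fun i => by
    rw [cj_mul, hσ, cj_eq_of_mem_norm (h.QN _ m)], ?_, fun k e => ?_⟩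
  · have e3 := h.exp _ m
    have s1 : t * r j * t⁻¹ * (t * r j * t⁻¹) = 1 := by
      rw [show t * r j * t⁻¹ * (t * r j * t⁻¹) = t * (r j * r j) * t⁻¹ by group, h.rr]; group
    have s2 := h.rr (σ j)
    rw [show t * r j * t⁻¹ * r (σ j) * t * r j * (t * r j * t⁻¹ * r (σ j) * t)⁻¹ =
      t * r j * t⁻¹ * r (σ j) * (t * r j * t⁻¹) * (r (σ j))⁻¹ * (t * r j * t⁻¹)⁻¹ by group]
    generalize t * r j * t⁻¹ = p at *
    generalize r (σ j) = s at *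
    rw [inv_eq_of_mul_eq_one_right s1, inv_eq_of_mul_eq_one_right s2, ← mul_right_cancel_iff (a := s), s2,
      ← e3]
    simp only [pow_succ, pow_zero, one_mul, mul_assoc]
  · have c : Commute (t * r j * t⁻¹ * r (σ j)) (r (σ k)) :=
      Commute.mul_left (e ▸ (cr j k).conj t) (cr _ _)
    rw [show t * r j * t⁻¹ * r (σ j) * t * r k * (t * r j * t⁻¹ * r (σ j) * t)⁻¹ =
      t * r j * t⁻¹ * r (σ j) * (t * r k * t⁻¹) * (t * r j * t⁻¹ * r (σ j))⁻¹ by group, e, c.eq,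
      mul_inv_cancel_right]

theorem adj3 (h : B2 z Q Qs r R) {t : G} (ht : t ∈ 𝒞[z]) {σ : Equiv.Perm (Fin 3)}
    (hσ : ∀ i, cj t (Qs i) = Qs (σ i)) : ∃ q ∈ Q, (∀ i, cj (q * t) (Qs i) = Qs (σ i)) ∧
      ∀ j, q * t * r j * (q * t)⁻¹ = r (σ j) := by
  obtain ⟨q0, m0, p0, e0, -⟩ := adj h ht hσ 0
  have n0 := mul_mem (h.Qc m0) ht
  obtain ⟨q1, m1, p1, e1, k1⟩ := adj h n0 p0 1
  obtain ⟨q2, m2, p2, e2, k2⟩ := adj h (mul_mem (h.Qc m1) n0) p1 2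
  refine ⟨q2 * (q1 * q0), mul_mem m2 (mul_mem m1 m0), by simpa only [mul_assoc] using p2, fun j => ?_⟩
  rw [show q2 * (q1 * q0) * t = q2 * (q1 * (q0 * t)) by simp only [mul_assoc]]
  obtain rfl | rfl | rfl : j = 0 ∨ j = 1 ∨ j = 2 := by revert j; decide
  exacts [k2 _ (k1 _ e0), k2 _ e1, e2]

omit [Finite G] in
theorem Ri_le (i : Fin 3) : Ri Qs R i ≤ R := fun _ hg => hg.1.1

omit [Finite G] in
/-- elements inverted by `ρ` are determined modulo `⟨z⟩` -/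
theorem eq_of_inv (h : E1 z Q) {ρ u v : G} (hρ : ρ ∈ 𝒞[z]) (hv : v ∈ 𝒞[z]) (hu : ρ * u * ρ⁻¹ = u⁻¹)
    (hv' : ρ * v * ρ⁻¹ = v⁻¹) (e : u * v⁻¹ ∈ zpowers z) : u = v := by
  obtain ⟨c, hc⟩ : ∃ c, c = u * v⁻¹ := ⟨_, rfl⟩
  rw [← hc] at e
  have e1 : u = c * v := by rw [hc]; group
  subst e1
  have e2 : ρ * (c * v) * ρ⁻¹ = c * v⁻¹ := by
    rw [← hv', ← Z_conj hρ e]; simp only [Z_conj hρ e]; nth_rewrite 2 [← Z_conj hρ e]; group
  rw [e2, mul_inv_rev, ← Z_comm (inv_mem hv) (inv_mem e), mul_left_inj] at hu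
  have : c = 1 := Fa.Z_sq h e (by nth_rewrite 1 [hu]; exact inv_mul_cancel c)
  rw [this, one_mul]

theorem adjA (h : C1 z Q Qs r R) (f : ∀ i, Fm z (Qs i) (r i) (a i) (b i)) {t : G} (ht : t ∈ 𝒞[z])
    {σ : Equiv.Perm (Fin 3)} (hσ : ∀ i, cj t (Qs i) = Qs (σ i)) (hr : ∀ j, t * r j * t⁻¹ = r (σ j)) :
    ∃ u ∈ R, ∀ i, u * t * a i * (u * t)⁻¹ = a (σ i) := by
  have m : ∀ i, t * a i * t⁻¹ ∈ Qs (σ i) := fun i => hσ i ▸ mem_cj'.2 ⟨_, (f i).aW, rfl⟩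
  have key : ∀ i, ∃ ρ ∈ Ri Qs R (σ i), ρ * (t * a i * t⁻¹) * ρ⁻¹ = a (σ i) := fun i => by
    obtain ⟨ρ, hρ, e⟩ := h.trR (σ i) (m i) (f (σ i)).aW (fun k => h.toB2.aZ (f i) (by
      have : a i = t⁻¹ * (t * a i * t⁻¹) * t⁻¹⁻¹ := by group
      rw [this, Z_conj (inv_mem ht) k]; exact k)) (h.toB2.aZ (f _))
    refine ⟨ρ, hρ, eq_of_inv h.toE1 (h.toB2.rz (σ i)) (h.Qc (h.toB2.le _ (f _).aW)) ?_ (f _).ρa e⟩
    have c := mem_cent1.1 (h.toB2.Rr (σ i) (Ri_le _ hρ))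
    calc _ = (r (σ i) * ρ) * (t * a i * t⁻¹) * (r (σ i) * ρ)⁻¹ := by group
      _ = ρ * ((t * r i * t⁻¹) * (t * a i * t⁻¹) * (t * r i * t⁻¹)⁻¹) * ρ⁻¹ := by rw [← c, hr]; group
      _ = ρ * (t * (r i * a i * (r i)⁻¹) * t⁻¹) * ρ⁻¹ := by group
      _ = _ := by rw [(f i).ρa]; group
  choose ρ hρ e using key
  have c : ∀ i j, i ≠ j → ∀ w ∈ Qs (σ j), ρ i * w * (ρ i)⁻¹ = w := fun i j n w hw => by
    rw [← h.RiQ (σ.injective.ne n) (hρ i) w hw, mul_inv_cancel_right]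
  refine ⟨ρ 0 * ρ 1 * ρ 2, mul_mem (mul_mem (Ri_le _ (hρ 0)) (Ri_le _ (hρ 1))) (Ri_le _ (hρ 2)), fun i => ?_⟩
  rw [show ρ 0 * ρ 1 * ρ 2 * t * a i * (ρ 0 * ρ 1 * ρ 2 * t)⁻¹ =
    ρ 0 * (ρ 1 * (ρ 2 * (t * a i * t⁻¹) * (ρ 2)⁻¹) * (ρ 1)⁻¹) * (ρ 0)⁻¹ by group]
  obtain rfl | rfl | rfl : i = 0 ∨ i = 1 ∨ i = 2 := by revert i; decide
  · rw [c 2 0 (by decide) _ (m 0), c 1 0 (by decide) _ (m 0), e]
  · rw [c 2 1 (by decide) _ (m 1), e, c 0 1 (by decide) _ (f _).aW]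
  · rw [e, c 1 2 (by decide) _ (f _).aW, c 0 2 (by decide) _ (f _).aW]

omit [Finite G] in
theorem ph0 : ph z a x ![1, 0, 0, 0, 0] = z := by simp [ph, ZMod.val_one]

omit [Finite G] in
theorem ph4 : ph z a x ![0, 0, 0, 0, 1] = x := by simp [ph, ZMod.val_one]

theorem fixv : ∀ v : V5, v 1 = 0 → v 2 = 0 → v 3 = 0 → F v = 0 → F (![1, 0, 0, 0, 0] + v) = 1 →
    v = ![0, 0, 0, 0, 1] := by decide +kernel

theorem fix_x (h : TX z Q Qs r R a b p s J x) {n : G} (hn : n ∈ 𝒞[z]) {σ : Equiv.Perm (Fin 3)}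
    (ha : ∀ i, n * a i * n⁻¹ = a (σ i)) (hr : ∀ i, n * r i * n⁻¹ = r (σ i)) : Commute n x := by
  have nJ : n ∈ 𝒩(J) := mem_norm_of_cj_le fun y hy => by
    obtain ⟨j, hj, rfl⟩ := mem_cj'.1 hy
    rw [h.Jdef] at hj ⊢
    have k : ∀ i, j ∈ 𝒞[a i] := fun i => by
      obtain rfl | rfl | rfl : i = 0 ∨ i = 1 ∨ i = 2 := by revert i; decide
      exacts [hj.1.1.2, hj.1.2, hj.2]
    have k' : ∀ i, n * j * n⁻¹ ∈ 𝒞[a i] := fun i => by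
      obtain ⟨i, rfl⟩ := σ.surjective i
      rw [← ha]; exact Bas1a.mc.2 (k i)
    exact ⟨⟨⟨(𝒞[z]).mul_mem (mul_mem hn hj.1.1.1) (inv_mem hn), k' 0⟩, k' 1⟩, k' 2⟩
  obtain ⟨M, hF, hM⟩ := h.iso n nJ
  have e0 : M ![1, 0, 0, 0, 0] = ![1, 0, 0, 0, 0] := h.inj (by
    rw [← hM, ph0, mem_cent1.1 hn, mul_inv_cancel_right])
  have e4 := hM ![0, 0, 0, 0, 1]
  have f4 := hF ![0, 0, 0, 0, 1]
  have f04 := hF (![1, 0, 0, 0, 0] + ![0, 0, 0, 0, 1])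
  rw [map_add, e0] at f04
  rw [ph4] at e4
  generalize M ![0, 0, 0, 0, 1] = v at e4 f4 f04
  have cv : ∀ i, Commute (ph z a x v) (r i) := fun i => by
    obtain ⟨i, rfl⟩ := σ.surjective i
    rw [← e4, ← hr]; exact (h.xr i).conj n
  have qA := (h.toB2.mem_A h.fm).2 ⟨(v 0).val, (v 1).val, (v 2).val, (v 3).val, rfl⟩
  have qZ := Bas1a.cenQ h.toB2 qA.1.1.1 fun i => (h.toB2.cent_r qA.1.1.1 i).1 (by
    have := (cv i).mul_left ((h.xr i).pow_left (v 4).val).inv_left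
    rwa [ph, mul_inv_cancel_right] at this)
  have e5 : ph z a x ![v 0, v 1, v 2, v 3, 0] = ph z a x ![lg z (z ^ (v 0).val * a 0 ^ (v 1).val *
      a 1 ^ (v 2).val * a 2 ^ (v 3).val), 0, 0, 0, 0] := by
    have := zp_lg h.z3 qZ
    simp only [ph, zp] at this ⊢
    simpa using this.symm
  have e6 := h.inj e5
  have := fixv v (congrFun e6 1) (congrFun e6 2) (congrFun e6 3) (f4.trans (by decide))
    (f04.trans (by decide))
  rw [this, ph4] at e4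
  exact mul_inv_eq_iff_eq_mul.1 e4

theorem dec (h : TX z Q Qs r R a b p s J x) {g : G} (hg : g ∈ 𝒞[z]) {σ : Equiv.Perm (Fin 3)}
    (hσ : ∀ i, cj g (Qs i) = Qs (σ i)) : ∃ q ∈ Q, ∃ u ∈ R, ∃ n, Pm z a r x σ n ∧ g = q * u * n := by
  obtain ⟨q, hq, h1, h2⟩ := adj3 h.toB2 hg hσ
  have m := mul_mem (h.Qc hq) hg
  obtain ⟨u, hu, h3⟩ := adjA h.toC1 h.fm m h1 h2
  have h4 : ∀ i, u * (q * g) * r i * (u * (q * g))⁻¹ = r (σ i) := fun i => by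
    rw [show u * (q * g) * r i * (u * (q * g))⁻¹ = u * (q * g * r i * (q * g)⁻¹) * u⁻¹ by group, h2,
      mem_cent1.1 (h.toB2.Rr _ hu), mul_inv_cancel_right]
  have m' := mul_mem (h.Rc hu) m
  exact ⟨q⁻¹, inv_mem hq, u⁻¹, inv_mem hu, _, ⟨mem_cent1.1 m', fix_x h m' h3 h4, h3, h4⟩, by group⟩

theorem rot : ∀ σ : Equiv.Perm (Fin 3), (∀ i, σ i ≠ i) → σ = finRotate 3 ∨ σ * σ = finRotate 3 := by decide

theorem exists_s (h : TX z Q Qs r R a b p s J x) : ∃ n, Pm z a r x (finRotate 3) n := by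
  obtain ⟨σ, hσ⟩ := h.toB2.perm h.sQ.2
  rcases rot σ (fun i e => h.sT i (mem_norm_iff_cj.2 (by rw [hσ, e]))) with e | e
  · obtain ⟨-, -, -, -, n, hn, -⟩ := dec h h.sQ.2 hσ
    exact ⟨n, e ▸ hn⟩
  · obtain ⟨-, -, -, -, n, hn, -⟩ := dec h (σ := σ * σ) (mul_mem h.sQ.2 h.sQ.2) fun i => by
      rw [cj_mul, hσ, hσ]; rfl
    exact ⟨n, e ▸ hn⟩

theorem exists_t (h : TX z Q Qs r R a b p s J x) : ∃ t, t * t = 1 ∧ t * z * t⁻¹ = x ∧ (∀ i, Commute t (a i)) ∧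
    (∀ i, Commute t (r i)) ∧ (∃ n ∈ 𝒩(J), n * r 0 * n⁻¹ = t) ∧
    ∀ j ∈ J, t * j * t⁻¹ * j⁻¹ ∈ zpowers (z * x⁻¹) := by
  obtain ⟨n, hn, -, h1, h2⟩ := h.root ![1, 0, 0, 0, -1] (by decide)
  have x3 := h.Jexp x h.xJ
  have e : ph z a x ![1, 0, 0, 0, -1] = z * x⁻¹ := by
    have : x⁻¹ = x ^ 2 := by rw [inv_eq_iff_mul_eq_one, ← pow_succ', x3]
    rw [this]
    simp only [ph]
    simp [ZMod.val_one, show (-1 : ZMod 3).val = 2 from rfl]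
  rw [e] at h2
  have tt : n * r 0 * n⁻¹ * (n * r 0 * n⁻¹) = 1 := by
    rw [show n * r 0 * n⁻¹ * (n * r 0 * n⁻¹) = n * (r 0 * r 0) * n⁻¹ by group, h.rr]; group
  have hN : ∃ m ∈ 𝒩(J), m * r 0 * m⁻¹ = n * r 0 * n⁻¹ := ⟨n, hn, rfl⟩
  generalize n * r 0 * n⁻¹ = t at h1 h2 tt hN
  have tz : t * z * t⁻¹ = x := by
    have := h1 ![1, 0, 0, 0, 0]
    rwa [show rf ![1, 0, 0, 0, -1] ![1, 0, 0, 0, 0] = ![0, 0, 0, 0, 1] by decide, ph0, ph4] at this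
  have ti : t⁻¹ = t := inv_eq_of_mul_eq_one_right tt
  have ta : ∀ i, Commute t (a i) := fun i => by
    obtain rfl | rfl | rfl : i = 0 ∨ i = 1 ∨ i = 2 := by revert i; decide
    · have := h1 ![0, 1, 0, 0, 0]
      rw [show rf ![1, 0, 0, 0, -1] ![0, 1, 0, 0, 0] = ![0, 1, 0, 0, 0] by decide] at this
      exact (by simpa [ph, ZMod.val_one, mul_inv_eq_iff_eq_mul] using this : t * _ = _ * t)
    · have := h1 ![0, 0, 1, 0, 0]
      rw [show rf ![1, 0, 0, 0, -1] ![0, 0, 1, 0, 0] = ![0, 0, 1, 0, 0] by decide] at this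
      exact (by simpa [ph, ZMod.val_one, mul_inv_eq_iff_eq_mul] using this : t * _ = _ * t)
    · have := h1 ![0, 0, 0, 1, 0]
      rw [show rf ![1, 0, 0, 0, -1] ![0, 0, 0, 1, 0] = ![0, 0, 0, 1, 0] by decide] at this
      exact (by simpa [ph, ZMod.val_one, mul_inv_eq_iff_eq_mul] using this : t * _ = _ * t)
  refine ⟨t, tt, tz, ta, fun i => ?_, hN, h2⟩
  have ri : (r i)⁻¹ = r i := inv_eq_of_mul_eq_one_right (h.rr i)
  have tx : t * x * t⁻¹ = z := by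
    rw [← tz, show t * (t * z * t⁻¹) * t⁻¹ = (t * t) * z * (t * t)⁻¹ by group, tt]; group
  have ka : ∀ j, t * r i * t⁻¹ * (r i)⁻¹ ∈ 𝒞[a j] := fun j => by
    have c : Commute t ((r i)⁻¹ * a j * r i) := by
      by_cases e : i = j
      · subst e
        have := (h.fm i).ρa
        rw [ri] at this ⊢
        rw [this]; exact (ta i).inv_right
      · rw [mul_assoc, h.rc i j e _ (h.fm j).aW, inv_mul_cancel_left]; exact ta j
    rw [mem_cent1, ← mul_inv_eq_iff_eq_mul]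
    calc _ = t * r i * (t⁻¹ * ((r i)⁻¹ * a j * r i) * t) * (r i)⁻¹ * t⁻¹ := by group
      _ = t * a j * t⁻¹ := by rw [mul_assoc t⁻¹, ← c.eq]; group
      _ = _ := by rw [(ta j).eq, mul_inv_cancel_right]
  have kJ : t * r i * t⁻¹ * (r i)⁻¹ ∈ 𝒞[z] ⊓ 𝒞[a 0] ⊓ 𝒞[a 1] ⊓ 𝒞[a 2] := by
    refine ⟨⟨⟨?_, ka 0⟩, ka 1⟩, ka 2⟩
    show _ ∈ 𝒞[z]
    rw [mem_cent1, ← mul_inv_eq_iff_eq_mul]
    have rz := mem_cent1.1 (h.toB2.rz i)
    calc _ = t * r i * (t⁻¹ * ((r i)⁻¹ * (z * r i)) * t⁻¹⁻¹) * (r i)⁻¹ * t⁻¹ := by group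
      _ = t * (r i * x * (r i)⁻¹) * t⁻¹ := by
        have e9 : t⁻¹ * z * t⁻¹⁻¹ = x := by rw [← tx]; group
        rw [← rz, inv_mul_cancel_left, e9]; group
      _ = z := by rw [← (h.xr i).eq, mul_inv_cancel_right, tx]
  have k3 := h.Jexp _ (h.Jdef ▸ kJ)
  have k4 := rJ h.toB2 h.fm kJ i
  have k5 : r i * (t * r i * t⁻¹ * (r i)⁻¹) * (r i)⁻¹ = (t * r i * t⁻¹ * (r i)⁻¹)⁻¹ := by
    rw [ti, ri, mul_inv_rev, mul_inv_rev, mul_inv_rev, ti, ri]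
    simp only [mul_assoc, h.rr, mul_one]
  have k6 : t * (t * r i * t⁻¹ * (r i)⁻¹) * t⁻¹ = (t * r i * t⁻¹ * (r i)⁻¹)⁻¹ := by
    rw [ti, ri, mul_inv_rev, mul_inv_rev, mul_inv_rev, ti, ri]
    simp only [← mul_assoc, tt, one_mul]
  rw [k5] at k4
  have k7 : t * r i * t⁻¹ * (r i)⁻¹ = 1 := by
    generalize t * r i * t⁻¹ * (r i)⁻¹ = κ at k3 k4 k6
    have e1 : κ⁻¹ * κ⁻¹ = κ := by
      rw [← mul_inv_rev, inv_eq_iff_mul_eq_one, ← k3]; simp only [pow_succ, pow_zero, one_mul]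
    rw [e1] at k4
    have c : κ ∈ 𝒞[t] := zpowers_le.2 (mem_cent1.2 (ta i).symm.eq) k4
    rw [← mem_cent1.1 c, mul_inv_cancel_right] at k6
    rw [← k6, mul_eq_left] at e1
    exact e1
  rwa [mul_inv_eq_one, mul_inv_eq_iff_eq_mul] at k7

end Hc

open Hc in
theorem TX.hc (h : TX z Q Qs r R a b p s J x) :
    ∃ c s' t, HC z Q Qs r R (Ri Qs R) a b x c s' t := by
  obtain ⟨s', hs'⟩ := exists_s h
  obtain ⟨t, tt, tz, ta, tr, tN, tJ⟩ := exists_t h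
  have eJ : J = JJ z a := h.Jdef
  subst eJ
  have xz : Commute x z := mem_cent1.1 h.xJ.1.1.1
  have zJ : z ∈ JJ z a := by
    have k : ∀ i, z ∈ 𝒞[a i] := fun i => mem_cent1_comm.1 (h.Qc (h.toB2.le i (h.fm i).aW))
    exact ⟨⟨⟨self_mem_cent1 z, k 0⟩, k 1⟩, k 2⟩
  obtain ⟨c, cJ, cr, cb, memJ, tc⟩ : ∃ c ∈ JJ z a, (∀ i, Commute c (r i)) ∧ (c = 1 ∨ (Commute c (b 0) ∧
      b 1 * c * (b 1)⁻¹ = c * (a 1)⁻¹ * z ∧ b 2 * c * (b 2)⁻¹ = c * a 2 * z⁻¹)) ∧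
      (∀ j ∈ JJ z a, ∃ v, ∃ k : ℕ, j = ph z a x v * c ^ k) ∧ Commute t c := by
    rcases h.xt with e | ⟨c, cJ, cr, c0, c1, c2, e⟩
    · exact ⟨1, one_mem _, fun _ => Commute.one_left _, .inl rfl, fun j hj =>
        let ⟨v, hv⟩ := e j hj; ⟨v, 0, by rw [pow_zero, mul_one, hv]⟩, Commute.one_right _⟩
    obtain ⟨k, hk⟩ := mem_powers_iff_mem_zpowers.2 (tJ c cJ)
    have cz : Commute c z := mem_cent1.1 cJ.1.1.1
    have cx : Commute c x := (h.ab cJ x h.xJ).symm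
    have bz : ∀ i, b i * z ^ k * (b i)⁻¹ = z ^ k := fun i =>
      Z_conj (h.Qc (h.toB2.le i (h.fm i).bW)) (pow_mem (mem_zpowers z) k)
    have az : ∀ i, Commute (a i) z := fun i => mem_cent1.1 (h.Qc (h.toB2.le i (h.fm i).aW))
    have bc : ∀ i, b i * (c * z ^ k) * (b i)⁻¹ = b i * c * (b i)⁻¹ * z ^ k := fun i => by
      nth_rewrite 2 [← bz i]; group
    refine ⟨c * z ^ k, mul_mem cJ (pow_mem zJ k), fun i => (cr i).mul_left
      ((Commute.symm (mem_cent1.1 (h.toB2.rz i))).pow_left k), .inr ⟨?_, ?_, ?_⟩, fun j hj => ?_, ?_⟩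
    · exact (mul_inv_eq_iff_eq_mul.1 (by rw [bc, c0])).symm
    · rw [bc, c1, mul_assoc c (z ^ k), ← ((az 1).inv_left.pow_right k).eq]
      simp only [mul_assoc, ← pow_succ, ← pow_succ']
    · rw [bc, c2, mul_assoc c (z ^ k), ← ((az 2).pow_right k).eq]
      simp only [mul_assoc]
      rw [((Commute.refl z).inv_left.pow_right k).eq]
    · obtain ⟨v, m, rfl⟩ := e j hj
      refine ⟨v + ![((2 * (k * m) : ℕ) : ZMod 3), 0, 0, 0, 0], m, ?_⟩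
      have z3 := Fa.z3' h.toE1
      have e1 : ph z a x ![((2 * (k * m) : ℕ) : ZMod 3), 0, 0, 0, 0] = z ^ (2 * (k * m)) := by
        rw [← zp_natCast z3]; simp [ph, zp]
      rw [h.add, e1, (cz.pow_right k).mul_pow, ← pow_mul, mul_assoc, (cz.pow_pow m _).eq, ← mul_assoc (z ^ _),
        ← pow_add, show 2 * (k * m) + k * m = 3 * (k * m) by ring, pow_mul, z3, one_pow, one_mul]
    · refine mul_inv_eq_iff_eq_mul.1 ?_
      have hk' : (z * x⁻¹) ^ k = t * c * t⁻¹ * c⁻¹ := hk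
      calc t * (c * z ^ k) * t⁻¹ = (t * c * t⁻¹ * c⁻¹) * c * (t * z * t⁻¹) ^ k := by rw [conj_pow]; group
        _ = _ := by
          rw [← hk', tz, xz.symm.inv_right.mul_pow, mul_assoc, mul_assoc, (cx.pow_right k).eq, inv_pow,
            inv_mul_cancel_left, (cz.pow_right k).eq]
  refine ⟨c, s', t, ?_⟩
  exact { h.toB2 with
    xq := fun i =>
      { zQ := h.zs i
        Qc := (h.toB2.le i).trans h.Qc
        card := h.cards i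
        exp := fun q hq => h.exp q (h.toB2.le i hq)
        comm := fun u hu v hv => h.comm u (h.toB2.le i hu) v (h.toB2.le i hv)
        cen := fun u hu e => Bas1a.cenQ h.toB2 (h.toB2.le i hu) fun j => by
          by_cases k : i = j
          exacts [k ▸ fun q hq => (e q hq).symm, h.QQ i j k hu]
        q8 := h.q8 i
        Rc := (Ri_le i).trans h.Rc
        Rn := (Ri_le i).trans (h.RN i)
        inv := h.inv i
        tr := fun _ hu _ hv n n' => h.trR i hu hv n n' }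
    RQ := fun _ _ n => h.RiQ n
    RR := fun _ _ n => h.RiR n
    Rsup := le_antisymm (sup_le (sup_le (Ri_le 0) (Ri_le 1)) (Ri_le 2)) fun ρ hρ => by
      obtain ⟨u, hu, rfl⟩ := h.decR hρ
      exact mul_mem (mul_mem (mem_sup_left (mem_sup_left (hu 0))) (mem_sup_left (mem_sup_right (hu 1))))
        (mem_sup_right (hu 2))
    perm := fun g hg i => let ⟨σ, hσ⟩ := h.toB2.perm hg; ⟨σ i, hσ i⟩
    fm := h.fm, wJ := h.xJ, wr := h.xr, bw := h.bx, cJ := cJ, cr := cr, cb := cb, ab := h.ab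
    Jexp := h.Jexp, add := h.add, inj := h.inj, memJ := memJ, cen0 := h.cen0
    dec := fun g hg => by
      obtain ⟨σ, hσ⟩ := h.toB2.perm hg
      obtain ⟨q, hq, u, hu, n, hn, e⟩ := dec h hg hσ
      exact ⟨q, hq, u, hu, σ, n, hn, e⟩
    sP := hs', om := h.om, iso := h.iso, uq := h.uq, fus := h.fus, tt := tt, tz := tz, ta := ta, tr := tr
    tc := tc, tN := tN }

end Cfsg.Agent.TE6
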