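import Cfsg.Agent.TE6.PBas2
import Cfsg.Agent.O83.Mk2
import Cfsg.Agent.O83.Bas0
import Cfsg.Agent.TE6.PCfAa

/-! Project TE6: the configuration of `Ω₈⁺(2)` in `(C(x) ⊓ N(⟨x, c⟩)) / ⟨x, c⟩`. -/

set_option autoImplicit false
set_option maxRecDepth 100000

namespace Cfsg.Agent.TE6

open Subgroup H49

universe u

namespace CfA

open O83 (V O4 d0 d1 z0 r0 r1 A1 cyc Act)

/-- the coordinates of `a₁ a₂` -/
def x0 : V5 := ![0, 0, 1, 1, 0]

/-- the projection along `x0` -/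
def pr (u : V5) : V := (u 1, u 0 - u 4, u 0 + u 4 - (u 3 - u 2), u 0 + u 4 + (u 3 - u 2))

theorem emb_add (u v : V) : emb (u + v) = emb u + emb v := by
  funext k
  fin_cases k <;> simp [emb] <;> ring

theorem pr_add (u v : V5) : pr (u + v) = pr u + pr v := by
  simp only [pr, Pi.add_apply, Prod.mk_add_mk, Prod.mk.injEq]
  refine ⟨trivial, ?_, ?_, ?_⟩ <;> ring

theorem pr_emb : ∀ v : V, pr (emb v) = v := by decide +kernel
theorem pr_x0 : ∀ k : ZMod 3, pr (k • x0) = 0 := by decide +kernel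
theorem F_emb : ∀ v : V, O83.q v = -F (emb v) := by decide +kernel
theorem emb_orth : ∀ v : V, F (emb v + x0) = F (emb v) + 1 := by decide +kernel

theorem eta5 (u : V5) : u = ![u 0, u 1, u 2, u 3, u 4] := by
  funext k
  fin_cases k <;> rfl

theorem dec5 (u : V5) : u = emb (pr u) + (-(u 2 + u 3)) • x0 ∧ (F (u + x0) = F u + 1 → u = emb (pr u)) := by
  have k : ∀ a b c d e : ZMod 3, (![a, b, c, d, e] : V5) = emb (pr ![a, b, c, d, e]) + (-(c + d)) • x0 ∧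
      (F (![a, b, c, d, e] + x0) = F ![a, b, c, d, e] + 1 → (![a, b, c, d, e] : V5) = emb (pr ![a, b, c, d, e])) := by
    decide +kernel
  have := k (u 0) (u 1) (u 2) (u 3) (u 4)
  rwa [← eta5] at this

theorem emb_r : ∀ v : V, rM 0 (emb v) = emb (r0 • v) := by decide +kernel
theorem emb_b : ∀ v : V, bM 0 (emb v) = emb (A1 • v) := by decide +kernel
theorem emb_τ : ∀ v : V, bM 2 (emb v) = bM 1 (emb (cyc • v)) := by decide +kernel
theorem emb_t : ∀ v : V, tM (emb v) = emb (r1 • v) := by decide +kernel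
theorem emb_z0 : emb z0 = ![1, 0, 0, 0, 0] := by decide +kernel
theorem emb_d0 : emb d0 = Pi.single (ix 0) 1 := by decide +kernel
theorem F_z : ∀ k : ZMod 3, F (emb z0 + k • x0) = 0 → k = 0 := by decide +kernel

/-- a homomorphism from `H` onto `Y` with kernel `A`, as a function on the ambient group -/
structure PF {G Y : Type*} [Group G] [Group Y] (H A : Subgroup G) (f : G → Y) : Prop where
  mul : ∀ {g k}, g ∈ H → k ∈ H → f (g * k) = f g * f k
  sur : ∀ y, ∃ g ∈ H, f g = y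
  ker : ∀ {g}, g ∈ H → (f g = 1 ↔ g ∈ A)

section
variable {G Y : Type*} [Group G] [Group Y] {H A : Subgroup G} {f : G → Y} {g k : G}

theorem PF.one (p : PF H A f) : f 1 = 1 := (p.ker (one_mem _)).2 (one_mem _)

theorem PF.inv (p : PF H A f) (hg : g ∈ H) : f g⁻¹ = (f g)⁻¹ :=
  eq_inv_of_mul_eq_one_left (by rw [← p.mul (inv_mem hg) hg, inv_mul_cancel, p.one])

theorem PF.conj (p : PF H A f) (hg : g ∈ H) (hk : k ∈ H) : f (g * k * g⁻¹) = f g * f k * (f g)⁻¹ := by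
  rw [p.mul (mul_mem hg hk) (inv_mem hg), p.mul hg hk, p.inv hg]

theorem PF.eq (p : PF H A f) (hg : g ∈ H) (hk : k ∈ H) : f g = f k ↔ g * k⁻¹ ∈ A := by
  rw [← p.ker (mul_mem hg (inv_mem hk)), p.mul hg (inv_mem hk), p.inv hk, mul_inv_eq_one]

theorem PF.clo (p : PF H A f) (hg : g ∈ H) (hk : k ∈ H) {y : G} (hy : y ∈ closure {g, k}) :
    f y ∈ closure {f g, f k} := by
  have le : closure {g, k} ≤ H := (closure_le _).2 (by rintro _ (rfl | rfl) <;> assumption)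
  induction hy using closure_induction with
  | mem x hx => rcases hx with rfl | rfl <;> exact subset_closure (by simp)
  | one => exact p.one ▸ one_mem _
  | mul x y hx hy k1 k2 => exact p.mul (le hx) (le hy) ▸ mul_mem k1 k2
  | inv x hx k1 => exact p.inv (le hx) ▸ inv_mem k1

end

variable {G : Type*} [Group G] [Finite G] {z w c s t : G} {Q R : Subgroup G} {Qs Rs : Fin 3 → Subgroup G}
  {r a b : Fin 3 → G} (h : HC z Q Qs r R Rs a b w c s t)
include h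

theorem cφ (v : V5) : Commute (ph z a w v) c := mem_centralizer_iff.1 (h.ab h.cJ) _ (h.ph_mem v)

theorem memA {g : G} (hg : g ∈ closure {a 1 * a 2, c}) : ∃ (k : ZMod 3) (l : ℕ), g = ph z a w (k • x0) * c ^ l := by
  induction hg using closure_induction with
  | mem x hx =>
    rcases hx with rfl | rfl
    · exact ⟨1, 0, by rw [one_smul, pow_zero, mul_one]; exact h.ph_x.symm⟩
    · exact ⟨0, 1, by rw [zero_smul, h.ph_zero, one_mul, pow_one]⟩
  | one => exact ⟨0, 0, by rw [zero_smul, h.ph_zero, one_mul, pow_zero]⟩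
  | mul x y _ _ k1 k2 =>
    obtain ⟨k, l, rfl⟩ := k1
    obtain ⟨k', l', rfl⟩ := k2
    exact ⟨k + k', l + l', by
      rw [add_smul, h.add, pow_add, ((cφ h _).pow_right l).symm.mul_mul_mul_comm]⟩
  | inv x _ k1 =>
    obtain ⟨k, l, rfl⟩ := k1
    refine ⟨-k, 2 * l, inv_eq_of_mul_eq_one_right ?_⟩
    rw [((cφ h _).pow_right l).symm.mul_mul_mul_comm, ← h.add, ← add_smul, add_neg_cancel, zero_smul, h.ph_zero,
      one_mul, ← pow_add, show l + 2 * l = 3 * l by ring, pow_mul, h.Jexp c h.cJ, one_pow]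

theorem AJ : closure {a 1 * a 2, c} ≤ JJ z a := fun g hg => by
  obtain ⟨k, l, rfl⟩ := memA h hg
  exact mul_mem (h.ph_mem _) (pow_mem h.cJ l)

theorem φA (k : ZMod 3) : ph z a w (k • x0) ∈ closure {a 1 * a 2, c} := by
  have m : ph z a w x0 ∈ closure {a 1 * a 2, c} := subset_closure (.inl h.ph_x)
  rcases (by decide : ∀ k : ZMod 3, k = 0 ∨ k = 1 ∨ k = -1) k with rfl | rfl | rfl
  · rw [zero_smul, h.ph_zero]; exact one_mem _
  · rwa [one_smul]
  · rw [neg_one_smul, h.ph_neg]; exact inv_mem m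

theorem modA {u v : V5} (e : ph z a w u * (ph z a w v)⁻¹ ∈ closure {a 1 * a 2, c}) :
    ∃ k : ZMod 3, u = v + k • x0 := by
  obtain ⟨k, l, e⟩ := memA h e
  have e1 : c ^ l = ph z a w (-(k • x0) + (u + -v)) := by
    rw [h.add, h.add, h.ph_neg, h.ph_neg, e, inv_mul_cancel_left]
  rw [h.c_ph e1, mul_one, ← h.ph_neg, ← h.add] at e
  exact ⟨k, by rw [← h.inj e]; abel⟩

theorem decJ {j : G} (hj : j ∈ JJ z a) : ∃ v, j * (ph z a w (emb v))⁻¹ ∈ closure {a 1 * a 2, c} := by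
  obtain ⟨u, k, rfl⟩ := h.memJ j hj
  refine ⟨pr u, ?_⟩
  rw [((cφ h u).pow_right k).eq, mul_assoc, ← h.ph_neg, ← h.add,
    show u + -emb (pr u) = (-(u 2 + u 3)) • x0 from add_neg_eq_iff_eq_add.2 ((dec5 u).1.trans (add_comm _ _))]
  exact mul_mem (pow_mem (subset_closure (.inr rfl)) k) (φA h _)

theorem T1 {g : G} (e : g * z * g⁻¹ * z⁻¹ ∈ closure {a 1 * a 2, c}) : g ∈ 𝒞[z] := by
  have ez : ph z a w (emb z0) = z := emb_z0 ▸ h.ph_z
  have mz := h.ph_mem (emb z0)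
  rw [ez] at mz
  have m : g * z * g⁻¹ ∈ JJ z a := (mul_mem_cancel_right (inv_mem mz)).1 (AJ h e)
  obtain ⟨v, -, v1, v2⟩ := (h.om _ m).1 (isConj_iff.2 ⟨g, rfl⟩)
  obtain ⟨k, rfl⟩ := modA h (u := v) (v := emb z0) (by rwa [ez, ← v2])
  rw [F_z k v1, zero_smul, add_zero, ez] at v2
  exact mem_cent1.2 (mul_inv_eq_iff_eq_mul.1 v2)

theorem T2 {g : G} (hg : g ∈ 𝒩(JJ z a)) (hx : g ∈ 𝒞[a 1 * a 2]) :
    ∃ A : O4, ∀ v, g * ph z a w (emb v) * g⁻¹ = ph z a w (emb (A • v)) := by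
  obtain ⟨M, m1, m2⟩ := h.iso g hg
  have m3 : M x0 = x0 := h.inj (by
    rw [← m2, show ph z a w x0 = a 1 * a 2 from h.ph_x]
    exact mul_inv_eq_iff_eq_mul.2 (mem_cent1.1 hx))
  have m4 : ∀ v, M (emb v) = emb (pr (M (emb v))) := fun v => (dec5 _).2 (by
    rw [m1, ← emb_orth, ← m1 (emb v + x0), map_add, m3])
  obtain ⟨A, hA⟩ := O83.exists_O4 (fun v => pr (M (emb v))) (fun u v => by rw [emb_add, map_add, pr_add])
    fun v => by rw [F_emb, F_emb, ← m4, m1]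
  exact ⟨A, fun v => by rw [hA, ← m4, m2]⟩

theorem T3 {g : G} (hg : g ∈ YX (a 1 * a 2) c)
    (e : ∀ v, ∃ v', g * ph z a w (emb v) * g⁻¹ * (ph z a w (emb v'))⁻¹ ∈ closure {a 1 * a 2, c}) :
    g ∈ 𝒩(JJ z a) := H42.mem_normalizer_of_conj_mem fun j hj => by
  obtain ⟨v, k⟩ := decJ h hj
  obtain ⟨v', k'⟩ := e v
  have := mul_mem (mul_mem (AJ h (H42.conj_mem_of_mem_normalizer hg.2 k)) (AJ h k')) (h.ph_mem (emb v'))
  simpa only [mul_assoc, mul_inv_rev, inv_mul_cancel_left, inv_mul_cancel, mul_one] using this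

theorem T4 {g : G} (e : g * r 0 * g⁻¹ * (r 0)⁻¹ ∈ closure {a 1 * a 2, c}) : g ∈ 𝒞[r 0] := by
  have e3 := h.Jexp _ (AJ h e)
  obtain ⟨k, l, e⟩ := memA h e
  have c1 : Commute (ph z a w (k • x0) * c ^ l) (r 0) := by
    refine Commute.mul_left (mul_inv_eq_iff_eq_mul.1 ?_).symm ((h.cr 0).pow_left l)
    rw [h.act_r, (by decide +kernel : ∀ k : ZMod 3, rM 0 (k • x0) = k • x0) k]
  rw [← e] at c1
  generalize hα : g * r 0 * g⁻¹ * (r 0)⁻¹ = α at *
  have e1 : g * r 0 * g⁻¹ = α * r 0 := by rw [← hα, inv_mul_cancel_right]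
  have e2 : α * α = 1 := by
    have : α * r 0 * (α * r 0) = 1 := by rw [← e1, conj_mul, h.rr, mul_one, mul_inv_cancel]
    rwa [c1.symm.mul_mul_mul_comm, h.rr, mul_one] at this
  rw [pow_three', e2, one_mul] at e3
  rw [e3, one_mul] at e1
  exact mem_cent1.2 (mul_inv_eq_iff_eq_mul.1 e1)

theorem ex_u : ∃ u ∈ Rs 0, u * a 0 * u⁻¹ = b 0 ∧ u * u = r 0 := by
  have f := h.fm 0
  have z1 : z ≠ 1 := fun e => absurd (e ▸ h.z3) (by simp)
  have nc : ¬ Commute (b 0) (a 0) := fun e => z1 (left_eq_mul.1 (e.mul_inv_cancel.symm.trans f.ba))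
  have cz : ∀ q ∈ Qs 0, ∀ p ∈ zpowers z, Commute q p := by
    rintro q hq _ ⟨n, rfl⟩
    exact Commute.zpow_right (mem_cent1.1 ((h.xq 0).Qc hq)) n
  obtain ⟨u, hu, e⟩ := (h.xq 0).tr _ f.aW _ f.bW (fun k => nc (cz _ f.bW _ k)) fun k => nc (cz _ f.aW _ k).symm
  have ur : Commute u (r 0) := (h.xq 0).q8.comm_r hu
  have e1 : u * a 0 * u⁻¹ = b 0 := by
    generalize hζ : u * a 0 * u⁻¹ * (b 0)⁻¹ = ζ at e
    have e1 : u * a 0 * u⁻¹ = ζ * b 0 := by rw [← hζ, inv_mul_cancel_right]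
    have e2 : r 0 * (ζ * b 0) * (r 0)⁻¹ = (ζ * b 0)⁻¹ := by
      rw [← e1, conj_inv, ← f.ρa]
      calc _ = r 0 * u * a 0 * (r 0 * u)⁻¹ := by group
        _ = _ := by rw [← ur.eq]; group
    have rz : Commute (r 0) ζ := by
      obtain ⟨n, rfl⟩ := e
      exact Commute.zpow_right (mem_cent1.1 (h.toB2.rz 0)) n
    rw [← conj_mul, rz.mul_inv_cancel, f.ρb, mul_inv_rev, ← (cz _ f.bW _ e).inv_inv.symm.eq, mul_left_inj] at e2
    have e3 := h.exp ζ (zpowers_le.2 h.zQ e)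
    rw [pow_three', eq_inv_iff_mul_eq_one.1 e2, one_mul] at e3
    rw [e1, e3, one_mul]
  refine ⟨u, hu, e1, ?_⟩
  rcases (h.xq 0).q8.el u hu with rfl | rfl | k
  · exact absurd (by rw [← e1]; simp) nc
  · exact absurd (by rw [← e1, f.ρa]; simp) nc
  · exact k

theorem cf {Y : Type*} [Group Y] [Finite Y] {f : G → Y} (p : PF (YX (a 1 * a 2) c) (closure {a 1 * a 2, c}) f) :
    ∃ Γ σ i, O83.Cf Γ (fun v => f (ph z a w (emb v))) σ i ∧ σ r0 = f (r 0) := by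
  obtain ⟨mJ, mr, mt, mb, mτ, mR, -⟩ := h.mem_YX
  have mφ : ∀ v, ph z a w v ∈ YX (a 1 * a 2) c := fun v => mJ (h.ph_mem v)
  have ez : ph z a w (emb z0) = z := emb_z0 ▸ h.ph_z
  have ea : ph z a w (emb d0) = a 0 := emb_d0 ▸ h.ph_a 0
  have mz : z ∈ YX (a 1 * a 2) c := ez ▸ mφ _
  have ad : O83.Ad fun v => f (ph z a w (emb v)) := ⟨fun u v => by rw [emb_add, h.add, p.mul (mφ _) (mφ _)],
    fun v e => by
      obtain ⟨k, e⟩ := modA h (u := emb v) (v := 0) (by rwa [h.ph_zero, inv_one, mul_one, ← p.ker (mφ _)])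
      rw [← pr_emb v, e, zero_add, pr_x0]⟩
  have act : ∀ {g A}, g ∈ YX (a 1 * a 2) c → (∀ v, g * ph z a w (emb v) * g⁻¹ = ph z a w (emb (A • v))) →
      Act (fun v => f (ph z a w (emb v))) (f g) A := fun hg e v => by rw [← p.conj hg (mφ _), e]
  have nJ : ∀ {g}, g ∈ YX (a 1 * a 2) c → (∀ v, ∃ v', f g * f (ph z a w (emb v)) * (f g)⁻¹ =
      f (ph z a w (emb v'))) → g ∈ 𝒩(JJ z a) := fun hg e => T3 h hg fun v => (e v).imp fun v' k => by
    rwa [← p.conj hg (mφ _), p.eq (mul_mem (mul_mem hg (mφ _)) (inv_mem hg)) (mφ _)] at k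
  have cm : ∀ {g k}, g ∈ YX (a 1 * a 2) c → k ∈ YX (a 1 * a 2) c → f g * f k = f k * f g →
      g * k * g⁻¹ * k⁻¹ ∈ closure {a 1 * a 2, c} := fun hg hk e => by
    rw [← p.eq (mul_mem (mul_mem hg hk) (inv_mem hg)) hk, p.conj hg hk, e, mul_inv_cancel_right]
  obtain ⟨u, hu, ua, uu⟩ := ex_u h
  obtain ⟨y1, y2⟩ := h.phR 0 (v := emb d1) (by decide +kernel)
  obtain ⟨q1, q2⟩ := q8_orbit (h.xq 0).q8 (h.Jexp _ (h.ph_mem (emb d1))) y1 (fun k => absurd (y2.1 k)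
    (by decide +kernel)) (mul_inv_eq_iff_eq_mul.1 (by
      rw [h.act_r, emb_r, show r0 • d1 = d1 by decide +kernel])).symm hu uu
  have mu := mR hu
  have mj := mR (H42.conj_mem_of_mem_normalizer y1 hu)
  have ej : O83.jj (fun v => f (ph z a w (emb v))) (f u) = f (ph z a w (emb d1) * u * (ph z a w (emb d1))⁻¹) :=
    (p.conj (mφ _) mu).symm
  have fR : ∀ g ∈ Rs 0, f g ∈ O83.RR (fun v => f (ph z a w (emb v))) (f u) := fun g hg => by
    rw [O83.RR, ej]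
    exact p.clo mu mj (q2 hg)
  have k : H1 (fun v => f (ph z a w (emb v))) (f (r 0)) (f u) (f (b 0)) (f ((b 1)⁻¹ * b 2)) := by
    refine ⟨ad, fun y e => ?_, act mr fun v => by rw [h.act_r, emb_r], act mb fun v => by rw [h.act_b, emb_b],
      act mτ fun v => ?_, by rw [← p.mul mr mr, h.rr, p.one], by rw [← p.conj mr mb, (h.fm 0).ρb, p.inv mb],
      by rw [← p.mul mu mu, uu], ?_, ?_, by rw [ea, ← p.conj mu (ea ▸ mφ _), ua], fun y e1 e2 => ?_,
      fun y e => ?_⟩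
    · obtain ⟨g, hg, rfl⟩ := p.sur y
      obtain ⟨A, hA⟩ := T2 h (nJ hg fun v => ⟨v, mul_inv_eq_iff_eq_mul.2 (e v)⟩) hg.1
      have e1 : ∀ v, Commute g (ph z a w (emb v)) := fun v => mul_inv_eq_iff_eq_mul.1 (by
        rw [hA, ad.eq_iff.1 ((act hg hA v).symm.trans (mul_inv_eq_iff_eq_mul.2 (e v)))])
      have e2 : ∀ k : ZMod 3, Commute g (ph z a w (k • x0)) := fun k => by
        have m : Commute g (ph z a w x0) := (show ph z a w x0 = a 1 * a 2 from h.ph_x) ▸ mem_cent1.1 hg.1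
        rcases (by decide : ∀ k : ZMod 3, k = 0 ∨ k = 1 ∨ k = -1) k with rfl | rfl | rfl
        · rw [zero_smul, h.ph_zero]; exact Commute.one_right _
        · rwa [one_smul]
        · rw [neg_one_smul, h.ph_neg]; exact m.inv_right
      obtain ⟨v, k⟩ := decJ h (h.cen0 g fun v => by
        rw [(dec5 v).1, h.add]
        exact (e1 _).mul_right (e2 _))
      exact ⟨v, (p.eq hg (mφ _)).2 k⟩
    · rw [show (b 1)⁻¹ * b 2 * ph z a w (emb v) * ((b 1)⁻¹ * b 2)⁻¹ =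
        (b 1)⁻¹ * (b 2 * ph z a w (emb v) * (b 2)⁻¹) * b 1 by group, h.act_b, emb_τ, ← h.act_b]
      group
    · rw [ej, ← p.conj (mφ _) mj, ← p.mul mu mj, ← p.mul mj mu]
      exact q1.imp (congrArg f) (congrArg f)
    · rw [ez, ← p.mul mu mz, ← p.mul mz mu, mem_cent1.1 ((h.xq 0).Rc hu)]
    · obtain ⟨g, hg, rfl⟩ := p.sur y
      rw [ez] at e1
      rw [← p.conj hg mu]
      exact fR _ (H42.conj_mem_of_mem_normalizer (h.nRi 0 ⟨H42.mem_normalizer_of_conj_mem (by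
        rintro _ ⟨n, rfl⟩
        exact ⟨n, (Commute.zpow_right (mem_cent1.1 (T1 h (cm hg mz e1))) n).mul_inv_cancel.symm⟩),
        T4 h (cm hg mr e2)⟩) hu)
    · obtain ⟨g, hg, rfl⟩ := p.sur y
      rw [ez] at e
      obtain ⟨-, q, hq, u', hu', σ, n, hn, -, e1⟩ := h.czx (T1 h (cm hg mz e)) hg.1
      have m1 : u'⁻¹ * g ∈ YX (a 1 * a 2) c := mul_mem (inv_mem (mR hu')) hg
      have m2 : u'⁻¹ ∈ 𝒩(Q) := h.nQ (H42.mem_normalizer_of_conj_mem (by
        rintro _ ⟨n, rfl⟩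
        exact ⟨n, (Commute.zpow_right (mem_cent1.1 ((h.xq 0).Rc (inv_mem hu'))) n).mul_inv_cancel.symm⟩))
      obtain ⟨A, hA⟩ := T2 h (g := u'⁻¹ * g) (by
        have := mul_mem (h.Q_N (H42.conj_mem_of_mem_normalizer m2 hq.1)) hn.N
        rwa [e1, ← mul_assoc, ← mul_assoc, ← inv_inv u', inv_inv u'⁻¹]) m1.1
      exact ⟨f u', fR _ hu', A, by rw [← p.inv (mR hu'), ← p.mul (inv_mem (mR hu')) hg]; exact act m1 hA⟩
  refine k.mk2 (fun y hy => ?_) ⟨f t, act mt fun v => by rw [h.act_t, emb_t]⟩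
  obtain ⟨g, hg, rfl⟩ := p.sur y
  obtain ⟨A, hA⟩ := T2 h (nJ hg ((O83.mem_NN ad.add).1 hy)) hg.1
  exact ⟨A, act hg hA⟩

end CfA

variable {G : Type u} [Group G] [Finite G] {z w c s t : G} {Q R : Subgroup G} {Qs Rs : Fin 3 → Subgroup G}
  {r a b : Fin 3 → G}

theorem HC.lk (h : HC z Q Qs r R Rs a b w c s t) : ∃ (Y : Type u) (_ : Group Y) (_ : Finite Y) (f : YX (a 1 * a 2) c →* Y)
    (Γ : Subgroup O83.O4) (e : O83.V → Y) (σ : O83.O4 → Y) (i : Y), LK (a 1 * a 2) c (r 0) (ph z a w) f Γ e σ i := by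
  classical
  haveI : ((closure {a 1 * a 2, c}).subgroupOf (YX (a 1 * a 2) c)).Normal :=
    ⟨fun x hx g => H42.conj_mem_of_mem_normalizer (g := g.1) (X := closure {a 1 * a 2, c}) g.2.2 hx⟩
  let f := QuotientGroup.mk' ((closure {a 1 * a 2, c}).subgroupOf (YX (a 1 * a 2) c))
  have ker : ∀ g, f g = 1 ↔ g.1 ∈ closure {a 1 * a 2, c} := fun g => QuotientGroup.eq_one_iff g
  let f' : G → _ := fun g => if hg : g ∈ YX (a 1 * a 2) c then f ⟨g, hg⟩ else 1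
  have e : ∀ g : YX (a 1 * a 2) c, f' g.1 = f g := fun g => dif_pos g.2
  obtain ⟨Γ, σ, i, k1, k2⟩ := CfA.cf h (f := f') ⟨fun {g k} hg hk =>
    (e (⟨g, hg⟩ * ⟨k, hk⟩)).trans (by rw [map_mul, ← e, ← e]), fun y => by
      obtain ⟨g, rfl⟩ := QuotientGroup.mk'_surjective _ y
      exact ⟨g, g.2, e g⟩, fun {g} hg => by rw [e ⟨g, hg⟩, ker]⟩
  exact ⟨_, _, inferInstance, f, Γ, _, σ, i, k1, QuotientGroup.mk'_surjective _, ker,
    fun v g k => by rw [← e, k], fun g k => by rw [← e, k, k2]⟩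

end Cfsg.Agent.TE6
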