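import Cfsg.Agent.TE6.DefsB
import Cfsg.Agent.T3.YLa

set_option autoImplicit false
set_option linter.unusedSectionVars false

namespace Cfsg.Agent.TE6

open Subgroup H49

variable {G : Type*} [Group G] [Finite G]

namespace PWTX

variable {r : G} {X Y A B : Subgroup G} {n m : ℕ}

theorem mz (h : XE r X n) {u : G} : u ∈ zpowers r ↔ u = 1 ∨ u = r := H42.mem_zpowers_of_mul_self h.rr

theorem cz (h : XE r X n) : Nat.card (zpowers r) = 2 := by
  have : Fact (Nat.Prime 2) := ⟨Nat.prime_two⟩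
  rw [Nat.card_zpowers, orderOf_eq_prime (by rw [pow_two, h.rr]) h.r1]

theorem cm' (h : XE r X n) {x y : G} (hx : x ∈ X) (hy : y ∈ X) : ∃ e ∈ zpowers r, x * y = y * x * e :=
  (h.cm x hx y hy).elim (fun k => ⟨1, one_mem _, by rwa [mul_one]⟩) fun k => ⟨r, mem_zpowers r, k⟩

theorem zc {g e : G} (hg : g ∈ 𝒞[r]) (he : e ∈ zpowers r) : Commute g e := by
  obtain ⟨k, rfl⟩ := he
  exact (show Commute g r from mem_cent1.1 hg).zpow_right k

/-- the centre -/
theorem cen (h : XE r X n) : X ⊓ 𝒞(X) = zpowers r := le_antisymm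
  (fun x hx => (mz h).2 (h.cen x hx.1 fun y hy => (hx.2 y hy).symm))
  (zpowers_le.2 ⟨h.rX, le_cent1_iff.1 h.rc⟩)

theorem q8 {R : Subgroup G} (q : T3.Q8 R r) : XE r R 3 := by
  have k : ∀ x ∈ R, ∀ y ∈ R, x = 1 ∨ x = r → x * y = y * x := by
    rintro x - y hy (rfl | rfl)
    exacts [by simp, (q.comm_r hy).symm.eq]
  refine ⟨q.ne, q.sq, q.mem, q.card, fun a ha => mem_cent1.2 (q.comm_r ha).eq, fun x hx => ?_, fun x hx y hy => ?_,
    fun x hx c => by_contra fun n => ?_⟩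
  · rcases q.el x hx with rfl | rfl | e
    exacts [.inl (mul_one _), .inl q.sq, .inr e]
  · rcases or_assoc.2 (q.el x hx) with e | e
    · exact .inl (k x hx y hy e)
    rcases or_assoc.2 (q.el y hy) with e' | e'
    · exact .inl (k y hy x hx e').symm
    rcases q.anti hy hx e' e with rfl | rfl | e
    exacts [.inl rfl, .inl (by rw [mul_assoc, ← (q.comm_r hy).eq]), .inr e]
  · have x2 := (or_assoc.2 (q.el x hx)).resolve_left n
    obtain ⟨y, hy, yn⟩ := SetLike.not_le_iff_exists.1 fun l : R ≤ zpowers x => by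
      have := card_le_of_le l
      have := Nat.le_of_dvd (by decide) (orderOf_dvd_of_pow_eq_one (q.pow4 hx))
      rw [q.card, Nat.card_zpowers] at *
      omega
    have xr : r ∈ zpowers x := x2 ▸ mul_mem (mem_zpowers x) (mem_zpowers x)
    rcases q.el y hy with rfl | rfl | y2
    · exact yn (one_mem _)
    · exact yn xr
    rcases q.anti hx hy x2 y2 with rfl | rfl | e
    · exact yn (mem_zpowers _)
    · exact yn (mul_mem (mem_zpowers x) xr)
    · exact q.ne (left_eq_mul.1 ((c y hy).trans e))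

theorem sup (h : XE r X (n + 1)) (k : XE r Y (m + 1)) (c : X ≤ 𝒞(Y)) : XE r (X ⊔ Y) (n + m + 1) := by
  have d : ∀ g ∈ X ⊔ Y, ∃ x ∈ X, ∃ y ∈ Y, g = x * y := fun g => H42.exists_mul_of_mem_sup (norm_of_cent c)
  have cc : ∀ {x y}, x ∈ X → y ∈ Y → Commute x y := fun hx hy => (c hx _ hy).symm
  refine ⟨h.r1, h.rr, mem_sup_left h.rX, ?_, sup_le h.rc k.rc, fun g hg => ?_, fun g hg g' hg' => ?_, fun g hg e => ?_⟩
  · have := card_sup_mul_card_inf (.inl (norm_of_cent c))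
    rw [show X ⊓ Y = zpowers r from le_antisymm (cen k ▸ le_inf inf_le_right (inf_le_left.trans c))
      (zpowers_le.2 ⟨h.rX, k.rX⟩), cz h, h.card, k.card] at this
    refine Nat.eq_of_mul_eq_mul_right two_pos (this.trans ?_)
    ring
  · obtain ⟨x, hx, y, hy, rfl⟩ := d g hg
    rw [← pow_two, (cc hx hy).mul_pow, pow_two, pow_two]
    exact (mz h).1 (mul_mem ((mz h).2 (h.sq x hx)) ((mz h).2 (k.sq y hy)))
  · obtain ⟨x, hx, y, hy, rfl⟩ := d g hg
    obtain ⟨x', hx', y', hy', rfl⟩ := d g' hg'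
    obtain ⟨e, he, e1⟩ := cm' h hx hx'
    obtain ⟨e', he', e2⟩ := cm' k hy hy'
    have : x * y * (x' * y') = x' * y' * (x * y) * (e * e') := by
      rw [(cc hx' hy).symm.mul_mul_mul_comm, (cc hx hy').symm.mul_mul_mul_comm, e1, e2,
        (zc (k.rc (mul_mem hy' hy)) he).symm.mul_mul_mul_comm]
    rcases (mz h).1 (mul_mem he he') with l | l <;> rw [l] at this
    exacts [.inl (by rwa [mul_one] at this), .inr this]
  · obtain ⟨x, hx, y, hy, rfl⟩ := d g hg
    refine (mz h).1 (mul_mem ((mz h).2 (h.cen x hx fun u hu => ?_)) ((mz h).2 (k.cen y hy fun u hu => ?_)))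
    · have := e u (mem_sup_left hu)
      rw [mul_assoc, ← (cc hu hy).eq, ← mul_assoc, ← mul_assoc] at this
      exact mul_right_cancel this
    · have := e u (mem_sup_right hu)
      rw [← mul_assoc, ← (cc hx hu).eq, mul_assoc, mul_assoc] at this
      exact mul_left_cancel this

open Classical in
/-- the commutator as a sign -/
noncomputable def β (a b : G) : ℤ := if a * b = b * a then 1 else -1

open Classical in
theorem β_mul (h : XE r X n) {a b b' : G} (ha : a ∈ X) (hb : b ∈ X) (hb' : b' ∈ X) :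
    β a (b * b') = β a b * β a b' := by
  obtain ⟨e, he, e1⟩ := cm' h ha hb
  obtain ⟨e', he', e2⟩ := cm' h ha hb'
  have e3 : a * (b * b') = b * b' * a * (e' * e) := by
    rw [← mul_assoc, e1, mul_assoc, ← (zc (h.rc hb') he).eq, ← mul_assoc, mul_assoc b, e2]; group
  have k : ∀ {u v w : G}, u * v = v * u * w → β u v = if w = 1 then 1 else -1 := fun l =>
    if_congr (by rw [l, mul_eq_left]) rfl rfl
  rw [k e1, k e2, k e3]
  rcases (mz h).1 he with rfl | rfl <;> rcases (mz h).1 he' with rfl | rfl <;> simp [h.r1, h.rr]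

theorem β_sum (h : XE r X n) (hB : B ≤ X) [Fintype B] {a : G} (ha : a ∈ X) [Decidable (a ∈ 𝒞(B))] :
    ∑ b : B, β a b = if a ∈ 𝒞(B) then (Nat.card B : ℤ) else 0 := by
  split_ifs with k
  · have : ∀ b : B, β a b = 1 := fun b => if_pos (k b b.2).symm
    simp [this]
  · refine sum_hom_units_eq_zero (⟨⟨fun b : B => β a b, if_pos (by simp)⟩, fun b b' =>
      β_mul h ha (hB b.2) (hB b'.2)⟩ : B →* ℤ) fun e => k fun b hb => by_contra fun l => ?_
    have : β a b = 1 := DFunLike.congr_fun e ⟨b, hb⟩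
    rw [β, if_neg (Ne.symm l)] at this
    exact absurd this (by decide)

/-- duality for the commutator pairing -/
theorem pair (h : XE r X n) (hA : A ≤ X) (hB : B ≤ X) :
    Nat.card ↥(A ⊓ 𝒞(B)) * Nat.card B = Nat.card ↥(B ⊓ 𝒞(A)) * Nat.card A := by
  classical
  have k : ∀ {A B : Subgroup G} [Fintype A] [Fintype B], A ≤ X → B ≤ X →
      ∑ a : A, ∑ b : B, β (a : G) b = (Nat.card ↥(A ⊓ 𝒞(B)) * Nat.card B : ℕ) := fun {A B} _ _ hA hB => by
    rw [Finset.sum_congr rfl fun a _ => β_sum h hB (hA a.2), ← Finset.sum_filter, Finset.sum_const, nsmul_eq_mul,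
      Nat.cast_mul, ← Fintype.card_subtype, ← Nat.card_eq_fintype_card]
    congr 2
    exact Nat.card_congr ⟨fun a => ⟨a.1.1, a.1.2, a.2⟩, fun a => ⟨⟨a.1, a.2.1⟩, a.2.2⟩, fun _ => rfl, fun _ => rfl⟩
  have := Fintype.ofFinite A
  have := Fintype.ofFinite B
  refine Nat.cast_injective (R := ℤ) ?_
  rw [← k hA hB, ← k hB hA, Finset.sum_comm]
  exact Finset.sum_congr rfl fun _ _ => Finset.sum_congr rfl fun _ _ => if_congr eq_comm rfl rfl

theorem pair' (h : XE r X n) (hB : B ≤ X) (hr : r ∈ B) : Nat.card ↥(X ⊓ 𝒞(B)) * Nat.card B = 2 * Nat.card X := by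
  rw [pair h le_rfl hB, show B ⊓ 𝒞(X) = zpowers r from le_antisymm (cen h ▸ inf_le_inf_right _ hB)
    (zpowers_le.2 ⟨hr, le_cent1_iff.1 h.rc⟩), cz h]

theorem nr (h : XE r X n) : 𝒩(X) ≤ 𝒞[r] := fun x hx => by
  have := conj_mem_of_norm (norm_inf le_rfl (norm_cent le_rfl)) hx ((cen h).ge (mem_zpowers r))
  exact mem_cent1.2 (mul_inv_eq_iff_eq_mul.1 (((mz h).1 ((cen h).le this)).resolve_left (by simpa using h.r1)))

end PWTX

theorem xe_sup {ι : Type*} [Fintype ι] [Nonempty ι] {r : G} {R : ι → Subgroup G} (q : ∀ i, T3.Q8 (R i) r)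
    (cm : ∀ i j, i ≠ j → R i ≤ 𝒞(R j)) : XE r (⨆ i, R i) (2 * Fintype.card ι + 1) := by
  have k : ∀ s : Finset ι, s.Nonempty → XE r (s.sup R) (2 * s.card + 1) := fun s hs => by
    induction hs using Finset.Nonempty.cons_induction with
    | singleton i => rw [Finset.sup_singleton]; exact PWTX.q8 (q i)
    | cons i s hi _ ih =>
      rw [Finset.sup_cons, Finset.card_cons, show 2 * (s.card + 1) = 2 + 2 * s.card by ring]
      exact PWTX.sup (PWTX.q8 (q i)) ih (cent_comm.1 (Finset.sup_le fun j hj => cm j i fun e => hi (e ▸ hj)))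
  have := k _ Finset.univ_nonempty
  rwa [Finset.sup_univ_eq_iSup, Finset.card_univ] at this

theorem XE.k1 {r x g y : G} {X : Subgroup G} {n : ℕ} (h : XE r X n) (hx : x ∈ 𝒩(X)) (hg : g ∈ X)
    (c : Commute g x) (hy : y ∈ X) : Commute g (x * y * x⁻¹ * y⁻¹) := by
  obtain ⟨e, he, e1⟩ := PWTX.cm' h hg hy
  have e2 : g * y * g⁻¹ = y * e := by
    rw [e1, mul_assoc y, (PWTX.zc (h.rc hg) he).eq, ← mul_assoc, mul_inv_cancel_right]
  refine mul_inv_eq_iff_eq_mul.1 ?_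
  calc _ = g * x * g⁻¹ * (g * y * g⁻¹) * (g * x * g⁻¹)⁻¹ * (g * y * g⁻¹)⁻¹ := by group
    _ = x * y * (e * x⁻¹ * e⁻¹) * y⁻¹ := by rw [e2, c.eq]; group
    _ = _ := by rw [← (PWTX.zc (PWTX.nr h hx) he).inv_left.eq, mul_inv_cancel_right]

theorem q8_le {r x : G} {R Y : Subgroup G} (q : T3.Q8 R r) (hx : x ∈ 𝒩(R)) (x3 : x ^ 3 = 1) (n : x ∉ 𝒞(R))
    (hY : ∀ y ∈ R, x * y * x⁻¹ * y⁻¹ ∈ Y) : R ≤ Y := by
  have : Fact (Nat.Prime 2) := ⟨Nat.prime_two⟩
  have hr : Commute x r := mem_cent1.1 (PWTX.nr (PWTX.q8 q) hx)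
  obtain ⟨a, ha, a2⟩ := q.exists_four
  have hb := conj_mem_of_norm le_rfl hx ha
  have hc := mul_mem hb (inv_mem ha)
  have nc : ∀ {u}, u ∈ R → u * u = r → ¬ Commute (x * u * x⁻¹) u := fun hu u2 k =>
    q.ne (left_eq_mul.1 (k.eq.symm.trans (q.anti_conj x3 hx n hr hu u2)))
  have c2 : x * a * x⁻¹ * a⁻¹ * (x * a * x⁻¹ * a⁻¹) = r := by
    refine (or_assoc.2 (q.el _ hc)).resolve_left fun k => nc ha a2 ?_
    have := ((PWTX.zc ((PWTX.q8 q).rc ha) (q.mem_z.2 k)).symm.mul_left (Commute.refl a))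
    rwa [inv_mul_cancel_right] at this
  have m1 : x * a * x⁻¹ * a⁻¹ ∈ R ⊓ Y := ⟨hc, hY a ha⟩
  have m2 : x * (x * a * x⁻¹ * a⁻¹) * x⁻¹ ∈ R ⊓ Y := ⟨conj_mem_of_norm le_rfl hx hc, by
    have := hY _ hb
    rwa [conj_inv, conj_mul] at this⟩
  generalize x * a * x⁻¹ * a⁻¹ = c at hc c2 m1 m2
  have o : Nat.card (zpowers c) = 4 := by
    rw [Nat.card_zpowers]
    exact orderOf_eq_prime_pow (p := 2) (n := 1) (by rw [pow_one, pow_two, c2]; exact q.ne) (q.pow4 hc)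
  have h1 := card_dvd_of_le (zpowers_le.2 m1)
  rw [o] at h1
  have h2 := card_dvd_of_le (inf_le_left : R ⊓ Y ≤ R)
  rw [q.card] at h2
  have h3 : Nat.card ↥(R ⊓ Y) ≠ 4 := fun e => by
    obtain ⟨k, hk⟩ := (eq_of_le_of_card_ge (zpowers_le.2 m1) (by rw [e, o])).ge m2
    exact nc hc c2 (hk ▸ (Commute.refl c).zpow_left k)
  have h4 := Nat.le_of_dvd (by decide) h2
  have h5 : 0 < Nat.card ↥(R ⊓ Y) := Nat.card_pos
  exact inf_eq_left.1 (eq_of_le_of_card_ge inf_le_left (by rw [q.card]; omega))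

theorem XE.split {r : G} {X Y : Subgroup G} {n m : ℕ} (h : XE r X n) (k : XE r Y m) (le : Y ≤ X) {g : G}
    (hg : g ∈ X) : ∃ y ∈ Y, y⁻¹ * g ∈ 𝒞(Y) := by
  have c : Y ≤ 𝒩((X ⊓ 𝒞(Y) : Subgroup G)) := norm_inf (norm_of_le le) (norm_cent le_normalizer)
  have h1 := card_sup_mul_card_inf (.inl c)
  rw [← inf_assoc, inf_eq_left.2 le, PWTX.cen k, PWTX.cz k, mul_comm (Nat.card Y), PWTX.pair' h le k.rX] at h1
  obtain ⟨y, hy, u, hu, rfl⟩ := H42.exists_mul_of_mem_sup c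
    ((eq_of_le_of_card_ge (sup_le le inf_le_left) (by omega)).ge hg)
  exact ⟨y, hy, by simpa using hu.2⟩

theorem XE.nr {r : G} {X : Subgroup G} {n : ℕ} (h : XE r X n) : 𝒩(X) ≤ 𝒞[r] := PWTX.nr h

theorem XE.two {r : G} {X : Subgroup G} {n : ℕ} (h : XE r X n) : IsPGroup 2 X ∧ ¬ 3 ∣ Nat.card X :=
  ⟨IsPGroup.of_card h.card, fun k => absurd (Nat.prime_three.dvd_of_dvd_pow (h.card ▸ k)) (by decide)⟩

theorem XE.cj {r : G} {X : Subgroup G} {n : ℕ} (h : XE r X n) (g : G) : XE (g * r * g⁻¹) (cj g X) n := by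
  refine ⟨by simpa using h.r1, by rw [conj_mul, h.rr]; simp, mem_cj'.2 ⟨r, h.rX, rfl⟩, by rw [card_cj, h.card],
    cj_cent1 g r ▸ cj_mono g h.rc, fun x hx => ?_, fun x hx y hy => ?_, fun x hx c => ?_⟩ <;>
    obtain ⟨x, hx', rfl⟩ := mem_cj'.1 hx
  · simpa only [conj_mul, conj_eq_one_iff, mul_left_inj, mul_right_inj] using h.sq x hx'
  · obtain ⟨y, hy', rfl⟩ := mem_cj'.1 hy
    simpa only [conj_mul, mul_left_inj, mul_right_inj] using h.cm x hx' y hy'
  · simpa only [conj_eq_one_iff, mul_left_inj, mul_right_inj] using h.cen x hx' fun y hy => by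
      simpa only [conj_mul, mul_left_inj, mul_right_inj] using c _ (mem_cj'.2 ⟨y, hy, rfl⟩)

end Cfsg.Agent.TE6
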