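import Cfsg.Agent.TE6.PBas2
import Cfsg.Agent.TE6.Ty

/-! Elements of order three in `C(z, r₀)`. -/

set_option autoImplicit false

namespace Cfsg.Agent.TE6

open Subgroup H49

variable {G : Type*} [Group G] [Finite G] {z w c s t : G} {Q R : Subgroup G} {Qs Rs : Fin 3 → Subgroup G}
  {r a b : Fin 3 → G}

/-- the commutator of `b i` with `c` -/
def po3d : Fin 3 → V5 := ![0, ![1, 0, -1, 0, 0], ![-1, 0, 0, 1, 0]]

/-- the action of `b i` on a coset of `J₀` -/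
def po3N (i : Fin 3) (κ : ZMod 3) (v : V5) : V5 := bM i v + κ • po3d i

/-- the action of `b 1 ^ m * b 2 ^ n` on a coset of `J₀` -/
def po3T (κ : ZMod 3) (m n : ℕ) (v : V5) : V5 := (po3N 1 κ)^[m] ((po3N 2 κ)^[n] v)

set_option synthInstance.maxSize 1000 in
theorem po3_dec : ∀ (κ : ZMod 3) (m n : Fin 3) (v : V5), v 4 ≠ 0 →
    (po3T κ m n v + po3T κ m n (po3T κ m n v) + v) 0 = 0 →
    (m = 0 ∧ n = 0) ∨ (n = 0 ∧ v 4 + κ = 0) ∨ (m = 0 ∧ v 4 = κ) := by decide +kernel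

theorem po3_fix : ∀ (κ : ZMod 3) (v : V5), (v 1 = 0 → v 4 = 0 → po3N 0 κ v = v) ∧
    (v 4 + κ = 0 → po3N 1 κ (v - v 2 • Pi.single (ix 1) 1) = v - v 2 • Pi.single (ix 1) 1) ∧
    (v 4 = κ → po3N 2 κ (v - v 3 • Pi.single (ix 2) 1) = v - v 3 • Pi.single (ix 2) 1) ∧
    (rM 0 v = v → v 1 = 0) := by decide +kernel

namespace HC
variable (h : HC z Q Qs r R Rs a b w c s t)
include h

omit [Finite G] in
theorem po3_cJ {x y : G} (hx : x ∈ JJ z a) (hy : y ∈ JJ z a) : Commute x y := (h.ab hx y hy).symm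

theorem po3_smul (u : V5) (k : ℕ) : ph z a w ((k : ZMod 3) • u) = ph z a w u ^ k := by
  induction k with
  | zero => simp [h.ph_zero]
  | succ k ih => rw [Nat.cast_succ, add_smul, one_smul, h.add, ih, pow_succ]

theorem po3_memJ {j : G} (hj : j ∈ JJ z a) : ∃ v, ∃ k : ℕ,
    (k = 0 ∨ ∀ i, b i * c * (b i)⁻¹ = c * ph z a w (po3d i)) ∧ j = ph z a w v * c ^ k := by
  obtain ⟨v, k, e⟩ := h.memJ j hj
  rcases h.cb with c1 | ⟨c0, c1, c2⟩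
  · exact ⟨v, 0, .inl rfl, by rw [e, c1, one_pow, one_pow]⟩
  refine ⟨v, k, .inr fun i => ?_, e⟩
  obtain rfl | rfl | rfl : i = 0 ∨ i = 1 ∨ i = 2 := by revert i; decide
  · rw [← c0.eq, mul_inv_cancel_right, show po3d 0 = 0 from rfl, h.ph_zero, mul_one]
  · rw [c1, show po3d 1 = -Pi.single (ix 1) 1 + ![1, 0, 0, 0, 0] by decide, h.add, h.ph_neg, h.ph_a, h.ph_z,
      mul_assoc]
  · rw [c2, show po3d 2 = Pi.single (ix 2) 1 + -![1, 0, 0, 0, 0] by decide, h.add, h.ph_neg, h.ph_a, h.ph_z,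
      mul_assoc]

section
variable {k : ℕ} (hk : k = 0 ∨ ∀ i, b i * c * (b i)⁻¹ = c * ph z a w (po3d i))
include hk

theorem po3_act (i : Fin 3) (v : V5) :
    b i * (ph z a w v * c ^ k) * (b i)⁻¹ = ph z a w (po3N i k v) * c ^ k := by
  rcases hk with rfl | e
  · simp [h.act_b, po3N]
  · rw [← conj_mul, ← conj_pow, h.act_b, e, ← (h.po3_cJ (h.ph_mem _) h.cJ).eq,
      (h.po3_cJ (h.ph_mem _) h.cJ).mul_pow, ← h.po3_smul, po3N, h.add, mul_assoc]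

theorem po3_it (i : Fin 3) (m : ℕ) (v : V5) :
    b i ^ m * (ph z a w v * c ^ k) * (b i ^ m)⁻¹ = ph z a w ((po3N i k)^[m] v) * c ^ k := by
  induction m with
  | zero => simp
  | succ m ih => rw [Function.iterate_succ_apply', ← h.po3_act hk, ← ih, pow_succ']; group

theorem po3_cube {m n : Fin 3} {v : V5} (y3 : (b 1 ^ m.val * b 2 ^ n.val * (ph z a w v * c ^ k)) ^ 3 = 1)
    (v4 : v 4 ≠ 0) : (m = 0 ∧ n = 0) ∨ (n = 0 ∧ v 4 + k = 0) ∨ (m = 0 ∧ v 4 = k) := by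
  have T : ∀ v, b 1 ^ m.val * b 2 ^ n.val * (ph z a w v * c ^ k) * (b 1 ^ m.val * b 2 ^ n.val)⁻¹ =
      ph z a w (po3T k m n v) * c ^ k := fun v => by rw [po3T, ← h.po3_it hk, ← h.po3_it hk]; group
  have β3 := h.exp _ (mul_mem (pow_mem (h.le 1 (h.fm 1).bW) m.val) (pow_mem (h.le 2 (h.fm 2).bW) n.val))
  generalize b 1 ^ m.val * b 2 ^ n.val = β at *
  have cc : ∀ u, Commute (c ^ k) (ph z a w u) := fun u => h.po3_cJ (pow_mem h.cJ k) (h.ph_mem u)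
  refine po3_dec k m n v v4 (congrFun (h.inj (a₂ := 0) ?_) 0)
  rw [show (β * (ph z a w v * c ^ k)) ^ 3 = β * (ph z a w v * c ^ k) * β⁻¹ *
      (β * (β * (ph z a w v * c ^ k) * β⁻¹) * β⁻¹) * (β ^ 3 * (ph z a w v * c ^ k)) by
      simp only [pow_succ, pow_zero]; group, β3, one_mul, T, T, (cc _).mul_mul_mul_comm,
    ((cc _).mul_left (cc _)).mul_mul_mul_comm, ← pow_three', h.Jexp _ (pow_mem h.cJ k), mul_one] at y3
  rw [h.add, h.add, y3, h.ph_zero]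

end

theorem po3_zJ : zpowers z ≤ JJ z a := zpowers_le.2 (by have := h.ph_mem ![1, 0, 0, 0, 0]; rwa [h.ph_z] at this)

theorem po3_nf {H : Subgroup G} (h1 : b 1 ∈ 𝒩(H)) (h2 : b 2 ∈ 𝒩(H)) (hz : z ∈ H) (a1 : a 1 ∈ H) (a2 : a 2 ∈ H)
    {q e : G} (hq : q ∈ Qs 1 ⊔ Qs 2) (he : e ∈ H) : ∃ m n : Fin 3, ∃ e' ∈ H, q * e = b 1 ^ m.val * b 2 ^ n.val * e' := by
  obtain ⟨p, hp, p', hp', rfl⟩ := (mem_sup_of_norm_right ((h.le 1).trans (h.QN 2))).1 hq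
  obtain ⟨i, j, m, rfl⟩ := (h.fm 1).nf p hp
  obtain ⟨i', j', n, rfl⟩ := (h.fm 2).nf p' hp'
  have c1 : Commute (b 1 ^ m) (z ^ i' * a 2 ^ j') := (h.QQ 1 2 (by decide) (pow_mem (h.fm 1).bW m) _
    (mul_mem (pow_mem (h.zs 2) _) (pow_mem (h.fm 2).aW _))).symm
  refine ⟨⟨m % 3, Nat.mod_lt _ (by decide)⟩, ⟨n % 3, Nat.mod_lt _ (by decide)⟩,
    (b 1 ^ m * b 2 ^ n)⁻¹ * (z ^ i * a 1 ^ j * (z ^ i' * a 2 ^ j')) * (b 1 ^ m * b 2 ^ n) * e, mul_mem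
      (conj_mem_of_norm' le_rfl (mul_mem (pow_mem h1 m) (pow_mem h2 n)) (mul_mem (mul_mem (pow_mem hz _)
        (pow_mem a1 _)) (mul_mem (pow_mem hz _) (pow_mem a2 _)))) he, ?_⟩
  rw [← pow_eq_pow_mod m (h.exp _ (h.le 1 (h.fm 1).bW)), ← pow_eq_pow_mod n (h.exp _ (h.le 2 (h.fm 2).bW)),
    c1.mul_mul_mul_comm]
  group

theorem po3_tr (i : Fin 3) {q : G} (hq : q ∈ Qs i) {H : Subgroup G} (hz : z ∈ H) (ha : a i ∈ H) :
    ∃ u ∈ Rs i, u * q * u⁻¹ ∈ H := by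
  by_cases e : q ∈ zpowers z
  · exact ⟨1, one_mem _, by simpa using zpowers_le.2 hz e⟩
  · obtain ⟨u, hu, k⟩ := (h.xq i).tr q hq _ (h.fm i).aW e (h.aZ (h.fm i))
    exact ⟨u, hu, (mul_mem_cancel_right (Subgroup.inv_mem _ ha)).1 (zpowers_le.2 hz k)⟩

omit [Finite G] in
theorem po3_cQ {i : Fin 3} {j : G} (hj : j ∈ JJ z a) (e : Commute j (b i)) : j ∈ 𝒞(Qs i) := fun q hq => by
  obtain ⟨l, m, n, rfl⟩ := (h.fm i).nf q hq
  obtain ⟨jz, ja⟩ := Ty.memJ.1 hj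
  exact (((Commute.pow_right (mem_cent1.1 jz) l).mul_right ((ja i).pow_right m)).mul_right
    (e.pow_right n)).symm

omit [Finite G] in
theorem po3_RR (i : Fin 3) : Rs i ≤ R := by
  rw [← h.Rsup]
  obtain rfl | rfl | rfl : i = 0 ∨ i = 1 ∨ i = 2 := by revert i; decide
  exacts [le_sup_left.trans le_sup_left, le_sup_right.trans le_sup_left, le_sup_right]

theorem po3_fin (i : Fin 3) {q j : G} (hq : q ∈ Qs i) (hj : j ∈ JJ z a) (e : Commute j (b i)) :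
    ∃ u ∈ 𝒞[z] ⊓ 𝒞[r 0], u * (q * j) * u⁻¹ ∈ JJ z a := by
  obtain ⟨u, hu, k⟩ := h.po3_tr i hq (h.po3_zJ (mem_zpowers z)) (h.ph_a i ▸ h.ph_mem _)
  have uz := (h.xq i).Rc hu
  obtain ⟨jz, ja⟩ := Ty.memJ.1 hj
  refine ⟨u, ⟨uz, h.Rr 0 (h.po3_RR i hu)⟩, ?_⟩
  rw [← conj_mul]
  refine mul_mem k (Ty.memJ.2 ⟨mul_mem (mul_mem uz jz) (Subgroup.inv_mem _ uz), fun l => ?_⟩)
  by_cases n : i = l
  · subst n
    exact (conj_mem_of_norm (norm_cent (h.xq i).Rn) hu (h.po3_cQ hj e) _ (h.fm i).aW).symm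
  · exact Ty.cjc (y := a l) (by rw [← h.RQ i l n hu _ (h.fm l).aW, mul_inv_cancel_right]) (ja l)

theorem po3_wN : zpowers w ≤ 𝒩(Qs 1 ⊔ Qs 2) :=
  norm_sup (zpowers_le.2 (Ty.nrm h.toB2 h.fm (Ty.J_St h.wJ 1)).2) (zpowers_le.2 (Ty.nrm h.toB2 h.fm (Ty.J_St h.wJ 2)).2)

theorem po3_Z {g : G} (hg : g ∈ 𝒞[r 0]) (e : g * z * g⁻¹ ∈ 𝒞(Qs 0)) :
    g * z * g⁻¹ ∈ zpowers z := by
  have k : ∀ x ∈ Qs 0, r 0 * x * (r 0)⁻¹ = x⁻¹ → g⁻¹ * x * g⁻¹⁻¹ ∈ Q := fun x hx ex => by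
    refine h.le 0 (h.inv_mem 0 (mem_cent1.2 (Ty.cjc (y := g * z * g⁻¹) (by group) (e x hx))) (by
      rw [conj_pow, h.exp x (h.le 0 hx)]; group) ?_)
    have c1 : r 0 * g⁻¹ = g⁻¹ * r 0 := (mem_cent1.1 (Subgroup.inv_mem _ hg)).symm
    calc _ = r 0 * g⁻¹ * x * (r 0 * g⁻¹)⁻¹ := by group
      _ = g⁻¹ * (r 0 * x * (r 0)⁻¹) * g := by rw [c1]; group
      _ = _ := by rw [ex]; group
  have := h.comm _ (k _ (h.fm 0).bW (h.fm 0).ρb) _ (k _ (h.fm 0).aW (h.fm 0).ρa)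
  rw [conj_inv, conj_inv, conj_mul, conj_mul, conj_mul, (h.fm 0).ba,
    mem_cent1.1 (h.Qc (h.le 0 (h.fm 0).aW)), mul_inv_cancel_right] at this
  have n : g⁻¹ ∈ 𝒩(zpowers z) := mem_norm_of_cj_le (by rwa [cj_zpowers, zpowers_le])
  exact conj_mem_of_norm le_rfl (inv_mem_iff.1 n) (mem_zpowers z)

theorem po3_St {y : G} (hz : y ∈ 𝒞[z]) (hr : y ∈ 𝒞[r 0]) (y3 : y ^ 3 = 1) :
    ∃ u ∈ 𝒞[z] ⊓ 𝒞[r 0], ∀ i, u * y * u⁻¹ ∈ T3.St z (a i) := by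
  obtain ⟨σ, -, s2⟩ := h.permHom
  have aQ := (h.fm 0).aW
  have s0 := (s2 ⟨y, hz⟩ 0).1 (h.norm_of hz aQ (h.aZ (h.fm 0)) (F3.Bas2.mem_of_inv h.toB2
    (conj_mem_of_norm h.nQ (T3.c1_le_norm z hz) (h.le 0 aQ)) (by
      have c1 : r 0 * y = y * r 0 := (mem_cent1.1 hr).symm
      rw [show r 0 * (y * a 0 * y⁻¹) * (r 0)⁻¹ = r 0 * y * a 0 * (r 0 * y)⁻¹ by group, c1,
        show y * r 0 * a 0 * (y * r 0)⁻¹ = y * (r 0 * a 0 * (r 0)⁻¹) * y⁻¹ by group, (h.fm 0).ρa, conj_mul]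
      simp)))
  have s3 : σ ⟨y, hz⟩ ^ 3 = 1 := by rw [← map_pow, show (⟨y, hz⟩ : 𝒞[z]) ^ 3 = 1 from Subtype.ext y3, map_one]
  have dc : ∀ p : Equiv.Perm (Fin 3), p 0 = 0 → p ^ 3 = 1 → ∀ i, p i = i := by decide
  choose a' b' f e using fun i => h.fixl (i := i) ⟨hz, (s2 ⟨y, hz⟩ i).2 (dc _ s0 s3 i)⟩ (y3 ▸ one_mem _)
  choose u hu k using fun i => (h.xq i).tr _ (f i).aW _ (h.fm i).aW (h.aZ (f i)) (h.aZ (h.fm i))
  have uR : u 0 * u 1 * u 2 ∈ R :=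
    mul_mem (mul_mem (h.po3_RR 0 (hu 0)) (h.po3_RR 1 (hu 1))) (h.po3_RR 2 (hu 2))
  have uz := h.Rc uR
  have cu : ∀ i j, i ≠ j → ∀ x ∈ Qs j, u i * x * (u i)⁻¹ = x := fun i j n x hx => by
    rw [← h.RQ i j n (hu i) x hx, mul_inv_cancel_right]
  have nu : ∀ i, u i * a' i * (u i)⁻¹ ∈ Qs i := fun i => conj_mem_of_norm (h.xq i).Rn (hu i) (f i).aW
  have ea : ∀ i, u 0 * u 1 * u 2 * a' i * (u 0 * u 1 * u 2)⁻¹ = u i * a' i * (u i)⁻¹ := fun i => by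
    rw [show u 0 * u 1 * u 2 * a' i * (u 0 * u 1 * u 2)⁻¹ =
      u 0 * (u 1 * (u 2 * a' i * (u 2)⁻¹) * (u 1)⁻¹) * (u 0)⁻¹ by group]
    obtain rfl | rfl | rfl : i = 0 ∨ i = 1 ∨ i = 2 := by revert i; decide
    · rw [cu 2 0 (by decide) _ (f 0).aW, cu 1 0 (by decide) _ (f 0).aW]
    · rw [cu 2 1 (by decide) _ (f 1).aW, cu 0 1 (by decide) _ (nu 1)]
    · rw [cu 1 2 (by decide) _ (nu 2), cu 0 2 (by decide) _ (nu 2)]
  refine ⟨_, ⟨uz, h.Rr 0 uR⟩, fun i => ?_⟩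
  have k1 := k i
  rw [← ea] at k1
  generalize u 0 * u 1 * u 2 = U at *
  have yz := mul_mem (mul_mem uz hz) (Subgroup.inv_mem _ uz)
  refine T3.mem_St.2 ⟨yz, ?_⟩
  have := mul_mem (mul_mem (Subgroup.inv_mem _ (conj_mem_of_norm (T3.c1_le_norm z) yz k1))
    (conj_mem_of_norm (T3.c1_le_norm z) uz (e i))) k1
  convert this using 1
  group

end HC

theorem HC.o3a (h : HC z Q Qs r R Rs a b w c s t) {y : G} (hy : y ∈ Qs 1 ⊔ Qs 2 ⊔ zpowers w) (y3 : y ^ 3 = 1) :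
    ∃ m ∈ KK (a 0) (r 0), ∃ v : V5, v 1 = 0 ∧ m * y * m⁻¹ = ph z a w v := by
  obtain ⟨q, hq, e, he, rfl⟩ := (mem_sup_of_norm_left h.po3_wN).1 hy
  have mz : z ∈ E0 z a w := subset_closure (by simp)
  have m1 : a 1 ∈ E0 z a w := subset_closure (by simp)
  have m2 : a 2 ∈ E0 z a w := subset_closure (by simp)
  have bN : ∀ x ∈ W0 b r t, x ∈ 𝒩(E0 z a w) := fun x hx => h.nE0 ⟨(h.W0_le hx).1, (h.W0_le hx).2.2⟩
  obtain ⟨m, n, e', he', k⟩ := h.po3_nf (bN _ (subset_closure (by simp))) (bN _ (subset_closure (by simp))) mz m1 m2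
    hq (zpowers_le.2 (subset_closure (by simp)) he : e ∈ E0 z a w)
  obtain ⟨v, v1, rfl⟩ := h.mem_E0.1 he'
  rw [k] at y3 ⊢
  by_cases v4 : v 4 = 0
  · have : b 1 ^ m.val * b 2 ^ n.val * ph z a w v ∈ Qs 1 ⊔ Qs 2 := by
      rw [ph, v1, v4, ZMod.val_zero, pow_zero, pow_zero, mul_one, mul_one]
      exact mul_mem (mul_mem_sup (pow_mem (h.fm 1).bW _) (pow_mem (h.fm 2).bW _))
        (mul_mem_sup (mul_mem (pow_mem (h.zs 1) _) (pow_mem (h.fm 1).aW _)) (pow_mem (h.fm 2).aW _))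
    obtain ⟨p, hp, p', hp', k'⟩ := (mem_sup_of_norm_right ((h.le 1).trans (h.QN 2))).1 this
    obtain ⟨u, hu, k1⟩ := h.po3_tr 1 hp mz m1
    obtain ⟨u', hu', k2⟩ := h.po3_tr 2 hp' mz m2
    have RK : ∀ l, l ≠ 0 → Rs l ≤ KK (a 0) (r 0) := fun l n =>
      le_inf ((h.RQ l 0 n).trans (cent_le_cent1 (h.fm 0).aW)) ((h.po3_RR l).trans (h.Rr 0))
    refine ⟨u * u', mul_mem (RK 1 (by decide) hu) (RK 2 (by decide) hu'), h.mem_E0.1 ?_⟩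
    have c1 : u' * p = p * u' := (h.RQ 2 1 (by decide) hu' p hp).symm
    have c2 : u' * p' * u'⁻¹ * u = u * (u' * p' * u'⁻¹) :=
      h.RQ 1 2 (by decide) hu _ (conj_mem_of_norm (h.xq 2).Rn hu' hp')
    rw [k', show u * u' * (p * p') * (u * u')⁻¹ = u * (u' * p) * u'⁻¹ * u⁻¹ * (u * (u' * p' * u'⁻¹) * u⁻¹) by group,
      c1, ← c2, mul_inv_cancel_right, show u * (p * u') * u'⁻¹ = u * p by group]
    exact mul_mem k1 k2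
  · rcases h.po3_cube (k := 0) (.inl rfl) (by rwa [pow_zero, mul_one]) v4 with ⟨rfl, rfl⟩ | ⟨-, e⟩ | ⟨-, e⟩
    · exact ⟨1, one_mem _, v, v1, by simp⟩
    · exact absurd (by simpa using e) v4
    · exact absurd (by simpa using e) v4

theorem HC.sez (h : HC z Q Qs r R Rs a b w c s t) {g : G} (hg : g ∈ 𝒞[r 0]) (hz : g * z * g⁻¹ ∈ 𝒞[z]) :
    ∃ m ∈ 𝒞[z] ⊓ 𝒞[r 0], ∃ v : V5, v 1 = 0 ∧ m * (g * z * g⁻¹) * m⁻¹ = ph z a w v := by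
  have zr : z ∈ 𝒞[r 0] := mem_cent1_comm.1 (h.rz 0)
  have r1 : ∀ v, ph z a w v ∈ 𝒞[r 0] → v 1 = 0 := fun v e => (po3_fix 0 v).2.2.2 (h.inj (by
    rw [← h.act_r, ← mem_cent1.1 e, mul_inv_cancel_right]))
  suffices H : ∃ m ∈ 𝒞[z] ⊓ 𝒞[r 0], m * (g * z * g⁻¹) * m⁻¹ ∈ JJ z a by
    obtain ⟨m, hm, e⟩ := H
    obtain ⟨v, -, -, k⟩ := (h.om _ e).1 (isConj_iff.2 ⟨m * g, by group⟩)
    exact ⟨m, hm, v, r1 v (k ▸ mul_mem (mul_mem hm.2 (mul_mem (mul_mem hg zr) (Subgroup.inv_mem _ hg))) (Subgroup.inv_mem _ hm.2)), k⟩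
  have z3 : (g * z * g⁻¹) ^ 3 = 1 := by rw [conj_pow, h.exp z h.zQ]; group
  obtain ⟨u, hu, st⟩ := h.po3_St hz (mul_mem (mul_mem hg zr) (Subgroup.inv_mem _ hg)) z3
  suffices H : ∃ m ∈ 𝒞[z] ⊓ 𝒞[r 0], m * (u * (g * z * g⁻¹) * u⁻¹) * m⁻¹ ∈ JJ z a by
    obtain ⟨m, hm, e⟩ := H
    exact ⟨m * u, mul_mem hm hu, by convert e using 1; group⟩
  have yr := mul_mem (mul_mem hu.2 (mul_mem (mul_mem hg zr) (Subgroup.inv_mem _ hg))) (Subgroup.inv_mem _ hu.2)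
  have y3 : (u * (g * z * g⁻¹) * u⁻¹) ^ 3 = 1 := by rw [conj_pow, z3]; group
  have yZ : u * (g * z * g⁻¹) * u⁻¹ ∈ 𝒞(Qs 0) → u * (g * z * g⁻¹) * u⁻¹ ∈ zpowers z := by
    have := h.po3_Z (mul_mem hu.2 hg)
    rwa [show u * g * z * (u * g)⁻¹ = u * (g * z * g⁻¹) * u⁻¹ by group] at this
  obtain ⟨q, hq, j, hj, e⟩ := QJ h.toB2 h.fm st
  generalize u * (g * z * g⁻¹) * u⁻¹ = y at *
  obtain ⟨p, hp, rfl⟩ := h.toB2.dec hq
  have p12 := mul_mem_sup (hp 1) (hp 2)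
  have Q12 := h.Qr (i := 0) (j := 1) (k := 2) (by decide) (by decide) (by decide)
  have c0 : p 1 * p 2 * p 0 = p 0 * (p 1 * p 2) :=
    (sup_le (h.QQ 1 0 (by decide)) (h.QQ 2 0 (by decide)) p12 _ (hp 0)).symm
  rw [mul_assoc (p 0), ← c0, mul_assoc] at e
  have jr : p 0 * j ∈ 𝒞[r 0] := (Subgroup.mul_mem_cancel_left _ (Q12.ge p12).2).1 (e ▸ yr)
  have pJ : p 0 ∈ JJ z a := by
    have k1 := mul_mem (conj_mem_of_norm le_rfl (h.r_N 0) hj) (Subgroup.inv_mem _ hj)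
    have k2 := h.po3_zJ (h.inv 0 _ (hp 0))
    have k3 : r 0 * (p 0 * j) * (r 0)⁻¹ = p 0 * j := by rw [← mem_cent1.1 jr, mul_inv_cancel_right]
    rw [← inv_mem_iff, ← eq_inv_of_mul_eq_one_left ((pow_three' _).symm.trans (h.exp _ (h.le 0 (hp 0))))]
    rw [show r 0 * p 0 * (r 0)⁻¹ = p 0 * j * (r 0 * j * (r 0)⁻¹)⁻¹ by rw [← k3]; group] at k2
    convert mul_mem (conj_mem_of_norm h.Q_N (h.le 0 (hp 0)) k1) k2 using 1
    group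
  have aJ : ∀ i, a i ∈ JJ z a := fun i => h.ph_a i ▸ h.ph_mem _
  obtain ⟨m, n, j', hj', k⟩ := h.po3_nf (h.Q_N (h.le 1 (h.fm 1).bW)) (h.Q_N (h.le 2 (h.fm 2).bW))
    (h.po3_zJ (mem_zpowers z)) (aJ 1) (aJ 2) p12 (mul_mem pJ hj)
  rw [k] at e
  have β12 := mul_mem_sup (pow_mem (h.fm 1).bW m.val) (pow_mem (h.fm 2).bW n.val)
  obtain ⟨v, l, hl, rfl⟩ := h.po3_memJ hj'
  have v1 := r1 v ((mul_mem_cancel_right (pow_mem (mem_cent1.2 (h.cr 0)) l)).1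
    ((Subgroup.mul_mem_cancel_left _ (Q12.ge β12).2).1 (e ▸ yr)))
  have cb : ∀ i v, po3N i l v = v → Commute (ph z a w v * c ^ l) (b i) := fun i v k =>
    (mul_inv_eq_iff_eq_mul.1 (by rw [h.po3_act hl, k])).symm
  have sp : ∀ i (x : ZMod 3), ph z a w v = a i ^ x.val * ph z a w (v - x • Pi.single (ix i) 1) := fun i x => by
    rw [← h.ph_a i, ← h.po3_smul, ZMod.natCast_zmod_val, ← h.add, add_sub_cancel]
  by_cases v4 : v 4 = 0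
  · refine ⟨1, one_mem _, ?_⟩
    rw [one_mul, inv_one, mul_one]
    exact h.po3_zJ (yZ (e ▸ mul_mem (sup_le (h.QQ 1 0 (by decide)) (h.QQ 2 0 (by decide)) β12)
      (h.po3_cQ hj' (cb 0 v ((po3_fix l v).1 v1 v4)))))
  · rcases h.po3_cube hl (e ▸ y3) v4 with ⟨rfl, rfl⟩ | ⟨rfl, k'⟩ | ⟨rfl, k'⟩
    · exact ⟨1, one_mem _, by simpa [e] using hj'⟩
    · have := h.po3_fin 1 (mul_mem (pow_mem (h.fm 1).bW m.val) (pow_mem (h.fm 1).aW (v 2).val))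
        (mul_mem (h.ph_mem _) (pow_mem h.cJ l)) (cb 1 _ ((po3_fix l v).2.1 k'))
      rw [e, sp 1 (v 2)]
      simpa [mul_assoc] using this
    · have := h.po3_fin 2 (mul_mem (pow_mem (h.fm 2).bW n.val) (pow_mem (h.fm 2).aW (v 3).val))
        (mul_mem (h.ph_mem _) (pow_mem h.cJ l)) (cb 2 _ ((po3_fix l v).2.2.1 k'))
      rw [e, sp 2 (v 3)]
      simpa [mul_assoc] using this

theorem HC.T0 (h : HC z Q Qs r R Rs a b w c s t) : Nat.card ↥(Qs 1 ⊔ Qs 2 ⊔ zpowers w) = 3 ^ 6 ∧ Qs 1 ⊔ Qs 2 ⊔ zpowers w ≤ 𝒞[z] := by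
  have QQ := sup_le (h.le 1) (h.le 2)
  refine ⟨?_, sup_le (QQ.trans h.Qc) (zpowers_le.2 h.wJ.1.1.1)⟩
  have wQ : w ∉ Q := fun e => by
    have := h.comm _ (h.le 0 (h.fm 0).bW) _ e
    rw [h.bw, mul_assoc w, ((Ty.memJ.1 h.wJ).2 0).inv_right.mul_right (mem_cent1.1 h.wJ.1.1.1), mul_inv_cancel_right,
      mul_mem_cancel_right (mem_zpowers z), inv_mem_iff] at this
    exact h.aZ (h.fm 0) this
  have : Fact (Nat.Prime 3) := ⟨Nat.prime_three⟩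
  have w3 : Nat.card (zpowers w) = 3 := (Nat.card_zpowers w).trans
    (orderOf_eq_prime (h.Jexp w h.wJ) fun e => wQ (e ▸ one_mem _))
  have c := card_sup_mul_card_inf (.inl ((h.le 1).trans (h.QN 2)))
  rw [le_antisymm (h.inter (i := 1) (j := 2) (by decide)) (zpowers_le.2 ⟨h.zs 1, h.zs 2⟩), Nat.card_zpowers, h.z3,
    h.cards, h.cards] at c
  rw [card_sup_of_disjoint (.inr h.po3_wN) (by
    rw [inf_comm]
    exact (inf_eq_bot_or_le_of_prime_card (w3 ▸ Nat.prime_three) _).resolve_right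
      fun e => wQ (QQ (e (mem_zpowers w)))), w3]
  omega

end Cfsg.Agent.TE6
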