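/-
Project TE6: port of the project E62 to the case in which the centraliser induces any group of
automorphisms on its simple section.  Definitions.
-/
import Cfsg.Agent.E62.Defs

set_option autoImplicit false

namespace Cfsg.Agent.E6S

open Matrix Subgroup Cfsg.Agent.H10 Cfsg.Agent.H29 Cfsg.Agent.H29.F4 Cfsg.Agent.H22.U6 Cfsg.Agent.CO1
  Cfsg.Agent.H97 Cfsg.Agent.E62

/-! ### The groups -/

variable {G : Type*} [Group G]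

/-- the second commutator subgroup of the centraliser -/
def Hz (z : G) : Subgroup G := ⁅⁅Cz z, Cz z⁆, ⁅Cz z, Cz z⁆⁆

/-- coordinates at the involution `z` -/
structure SD (z : G) (π : G → L6) (ι : G → V0) : Prop where
  lx : LX (Oz z) z
  card : Nat.card (Oz z) = 2 ^ 21
  le : Oz z ≤ Hz z
  idx : Nat.card (Cz z) ∣ 6 * Nat.card (Hz z)
  mul : ∀ a ∈ Hz z, ∀ b ∈ Hz z, π (a * b) = π a * π b
  surj : ∀ l, ∃ a ∈ Hz z, π a = l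
  ker : ∀ a ∈ Hz z, π a = 1 ↔ a ∈ Oz z
  out : ∀ c ∈ Cz z, (∀ a ∈ Hz z, c * a * c⁻¹ * a⁻¹ ∈ Oz z) → c ∈ Oz z
  add : ∀ a ∈ Oz z, ∀ b ∈ Oz z, ι (a * b) = ι a + ι b
  zero : ∀ a ∈ Oz z, ι a = 0 ↔ a = 1 ∨ a = z
  onto : ∀ x, ∃ a ∈ Oz z, ι a = x
  conj : ∀ h ∈ Hz z, ∀ a ∈ Oz z, ι (h * a * h⁻¹) = π h • ι a
  nw : ∃ a, IsConj z a ∧ a ∈ Oz z ∧ a ≠ z

/-- coordinates at `z` in which the conjugate `a` is the standard plane -/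
structure PD (z a : G) (π : G → L6) (ι : G → V0) : Prop extends SD z π ι where
  icj : IsConj z a
  mem : a ∈ Oz z
  lab : ι a = v0
  inJ : ∀ r ∈ Oz a, r ∈ Cz z → r ∈ Hz z ∧ π r ∈ Tr.range
  onJ : ∀ K, ∃ r ∈ Oz a, r ∈ Cz z ∧ π r = Tr K
  n1 : ∀ q ∈ Oz z, q ∈ Cz a ↔ ι q ∈ N1
  n2 : ∀ q ∈ Oz z, q ∈ Oz a ↔ ι q ∈ N2

/-- commuting conjugates at distance two -/
def Th (z u : G) : Prop :=
  IsConj z u ∧ u ∈ Cz z ∧ u ∉ Oz z ∧ ∃ a, IsConj z a ∧ a ∈ Oz z ∧ a ∈ Oz u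

/-- an opposite conjugate `e`, whose centraliser in `Hz z` is a complement -/
structure OD (z e : G) (π : G → L6) (ι : G → V0) : Prop extends SD z π ι where
  icj : IsConj z e
  ne : e ≠ z
  three : (z * e) ^ 3 = 1
  cen : ∀ q ∈ Oz z, q ∈ Cz e → q = 1
  lf : ∀ l, ∃ h ∈ Hz z, h ∈ Cz e ∧ π h = l
  th : ∀ s ∈ E6, ∃ t, Th z t ∧ Th e t ∧ π t = s
  gen : ∃ a b, IsConj z a ∧ a ∈ Oz z ∧ a ≠ z ∧ IsConj z b ∧ b ∈ Oz a ∧ b ≠ a ∧ e ∈ Oz a ⊔ Oz b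

end Cfsg.Agent.E6S
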