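import Cfsg.Agent.E62.FactB
import Cfsg.Agent.E62.LGeo
import Cfsg.Agent.E62.LAut
import Cfsg.Agent.TE6.RDefs

/-! Project TE6 (port of E62 to index dividing six): basic properties of the coordinates; the conjugates
of `z` in `Oz z`. -/

set_option autoImplicit false

namespace Cfsg.Agent.E6S

open Matrix Subgroup Cfsg.Agent.H10 Cfsg.Agent.H29 Cfsg.Agent.H29.F4 Cfsg.Agent.H22.U6 Cfsg.Agent.CO1
  Cfsg.Agent.H97 Cfsg.Agent.MON.Cox Cfsg.Agent.E62 Cfsg.Agent.H15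

variable {G : Type*} [Group G] {z a : G} {π : G → L6} {ι : G → V0}

theorem cm_le {A : Subgroup G} : ⁅A, A⁆ ≤ A := commutator_le.2 fun _ ha _ hb =>
  mul_mem (mul_mem (mul_mem ha hb) (inv_mem ha)) (inv_mem hb)

theorem Hz_le (z : G) : Hz z ≤ Cz z := cm_le.trans cm_le

theorem card_inf_rel (H K : Subgroup G) : Nat.card ↥(K ⊓ H) * H.relIndex K = Nat.card K := by
  rw [← (H.subgroupOf K).card_mul_index, ← inf_subgroupOf_right, inf_comm K,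
    Nat.card_congr (subgroupOfEquivOfLe (inf_le_right : H ⊓ K ≤ K)).toEquiv, inf_subgroupOf_right]
  rfl

theorem mem_Cz_conj (g : G) {h : G} : g * h * g⁻¹ ∈ Cz (g * z * g⁻¹) ↔ h ∈ Cz z := by
  rw [mem_Cz, mem_Cz, conj_mul, conj_mul, mul_left_inj, mul_right_inj]

theorem Cz_conj (g z : G) : Cz (g * z * g⁻¹) = cjs g (Cz z) := by
  ext x
  rw [mem_cjs, ← mem_Cz_conj (z := z) g]
  simp [mul_assoc]

theorem Hz_conj (g z : G) : Hz (g * z * g⁻¹) = cjs g (Hz z) := by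
  rw [Hz, Cz_conj, ← map_commutator, ← map_commutator]; rfl

theorem mem_Hz_conj (g : G) {h : G} : g * h * g⁻¹ ∈ Hz (g * z * g⁻¹) ↔ h ∈ Hz z := by
  rw [Hz_conj]; exact conj_mem_cjs

theorem Hz_norm {c h : G} (hc : c ∈ Cz z) (hh : h ∈ Hz z) : c * h * c⁻¹ ∈ Hz z := by
  have := (mem_Hz_conj c).2 hh
  rwa [conj_eq_of_Cz hc] at this

theorem mem_Oz_conj [Finite G] (g : G) {h : G} : g * h * g⁻¹ ∈ Oz (g * z * g⁻¹) ↔ h ∈ Oz z := by
  rw [Oz_conj]; exact conj_mem_cjs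

theorem add_eq_zero_V0 {x y : V0} : x + y = 0 ↔ x = y :=
  ⟨fun h => by rw [← add_zero x, ← add_self y, ← add_assoc, h, zero_add], fun h => h ▸ add_self x⟩

namespace SD

variable (M : SD z π ι)
include M

theorem norm {c q : G} (hc : c ∈ Cz z) (hq : q ∈ Oz z) : c * q * c⁻¹ ∈ Oz z := M.lx.norm c (mem_Cz.1 hc) q hq

theorem leC : Oz z ≤ Cz z := M.le.trans (Hz_le z)

theorem zQ : z ∈ Oz z := M.lx.mem

theorem sq : z * z = 1 := M.lx.sq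

theorem one : π 1 = 1 := (M.ker 1 (one_mem _)).2 (one_mem _)

theorem ker' {q : G} (hq : q ∈ Oz z) : π q = 1 := (M.ker q (M.le hq)).2 hq

/-- the projection as a homomorphism -/
def hom : Hz z →* L6 := MonoidHom.mk' (fun h => π h) fun a b => M.mul a a.2 b b.2

theorem inv {h : G} (hh : h ∈ Hz z) : π h⁻¹ = (π h)⁻¹ := map_inv M.hom ⟨h, hh⟩

theorem cj {h k : G} (hh : h ∈ Hz z) (hk : k ∈ Hz z) : π (h * k * h⁻¹) = π h * π k * (π h)⁻¹ := by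
  rw [M.mul _ (mul_mem hh hk) _ (inv_mem hh), M.mul _ hh _ hk, M.inv hh]

theorem of_eq {h k : G} (hh : h ∈ Hz z) (hk : k ∈ Hz z) (e : π h = π k) : h * k⁻¹ ∈ Oz z :=
  (M.ker _ (mul_mem hh (inv_mem hk))).1 (by rw [M.mul _ hh _ (inv_mem hk), M.inv hk, e, mul_inv_cancel])

theorem i_one : ι 1 = 0 := (M.zero 1 (one_mem _)).2 (Or.inl rfl)

theorem i_z : ι z = 0 := (M.zero z M.zQ).2 (Or.inr rfl)

theorem inv' {q : G} (hq : q ∈ Oz z) : ι q⁻¹ = ι q :=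
  add_eq_zero_V0.1 (by rw [← M.add _ (inv_mem hq) _ hq, inv_mul_cancel, M.i_one])

theorem uniq {q r : G} (hq : q ∈ Oz z) (hr : r ∈ Oz z) (e : ι q = ι r) : q = r ∨ q = z * r := by
  have := (M.zero _ (mul_mem hq (inv_mem hr))).1 (by rw [M.add _ hq _ (inv_mem hr), M.inv' hr, e, add_self])
  exact this.imp mul_inv_eq_one.1 mul_inv_eq_iff_eq_mul.1

theorem zmul {q : G} (hq : q ∈ Oz z) : ι (z * q) = ι q := by rw [M.add _ M.zQ _ hq, M.i_z, zero_add]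

theorem comm' {h q : G} (hh : h ∈ Hz z) (hq : q ∈ Oz z) : ι (h * q * h⁻¹ * q⁻¹) = π h • ι q + ι q := by
  rw [M.add _ (M.norm (Hz_le z hh) hq) _ (inv_mem hq), M.conj h hh q hq, M.inv' hq]

theorem twist (l : L6) : SD z (fun y => l * π y * l⁻¹) fun y => l • ι y where
  lx := M.lx
  card := M.card
  le := M.le
  idx := M.idx
  mul a ha b hb := by rw [M.mul a ha b hb, conj_mul]
  surj k := let ⟨a, ha, e⟩ := M.surj (l⁻¹ * k * l); ⟨a, ha, by rw [e]; group⟩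
  ker a ha := by rw [conj_eq_one_iff]; exact M.ker a ha
  out := M.out
  add a ha b hb := by rw [M.add a ha b hb, smul_add]
  zero a ha := by rw [smul_eq_zero_iff_eq]; exact M.zero a ha
  onto x := let ⟨a, ha, e⟩ := M.onto (l⁻¹ • x); ⟨a, ha, by rw [e, smul_inv_smul]⟩
  conj h hh a ha := by rw [M.conj h hh a ha, mul_smul, mul_smul, inv_smul_smul]
  nw := M.nw

/-- the image in `L6` -/
def im (A : Subgroup G) : Subgroup L6 := (A.subgroupOf (Hz z)).map M.hom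

theorem mem_im {A : Subgroup G} {l : L6} : l ∈ M.im A ↔ ∃ h ∈ A, h ∈ Hz z ∧ π h = l :=
  ⟨fun ⟨h, a, e⟩ => ⟨h, a, h.2, e⟩, fun ⟨h, a, b, e⟩ => ⟨⟨h, b⟩, a, e⟩⟩

theorem card_im {A : Subgroup G} (hA : A ≤ Hz z) :
    Nat.card A = Nat.card (A ⊓ Oz z : Subgroup G) * Nat.card (M.im A) := by
  let f : A →* L6 := M.hom.comp (inclusion hA)
  have h1 : f.range = M.im A := by
    ext l; rw [M.mem_im]
    exact ⟨fun ⟨h, e⟩ => ⟨h, h.2, hA h.2, e⟩, fun ⟨h, a, _, e⟩ => ⟨⟨h, a⟩, e⟩⟩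
  have h2 : f.ker = (A ⊓ Oz z).subgroupOf A := by
    ext h
    rw [MonoidHom.mem_ker, mem_subgroupOf, mem_inf]
    exact (M.ker h (hA h.2)).trans ⟨fun e => ⟨h.2, e⟩, fun e => e.2⟩
  rw [← h1, ← index_ker, ← Nat.card_congr (subgroupOfEquivOfLe inf_le_left).toEquiv, ← h2, card_mul_index]

theorem rel6 [Finite G] {A : Subgroup G} (hA : A ≤ Cz z) : (Hz z).relIndex A ∣ 6 := by
  have hn : ((Hz z).subgroupOf (Cz z)).Normal := ⟨fun a ha c => Hz_norm c.2 ha⟩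
  have h := M.idx
  rw [← card_inf_rel (Hz z) (Cz z), inf_of_le_right (Hz_le z), mul_comm 6] at h
  rw [← relIndex_subgroupOf hA]
  exact (relIndex_dvd_index_of_normal _ _).trans (Nat.dvd_of_mul_dvd_mul_left Nat.card_pos h)

theorem card_six [Finite G] {A : Subgroup G} (hA : A ≤ Cz z) :
    Nat.card A ∣ 6 * Nat.card (A ⊓ Hz z : Subgroup G) := by
  rw [← card_inf_rel (Hz z) A, mul_comm 6]
  exact Nat.mul_dvd_mul_left _ (M.rel6 hA)

theorem idx2 [Finite G] {A : Subgroup G} (hA : A ≤ Cz z) (h2 : IsPGroup 2 A) {a b : G} (ha : a ∈ A) (hb : b ∈ A)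
    (h1 : a ∉ Hz z) (h1' : b ∉ Hz z) : a * b ∈ Hz z := by
  have : Fact (Nat.Prime 2) := ⟨Nat.prime_two⟩
  obtain ⟨n, hn⟩ := h2.index ((Hz z).subgroupOf A)
  have h6 : 2 ^ n ∣ 2 * 3 := hn ▸ M.rel6 hA
  rcases (Nat.dvd_prime Nat.prime_two).1 ((Nat.Coprime.pow_left n (by norm_num)).dvd_of_dvd_mul_right h6) with e | e
  · exact absurd ((index_eq_one.1 (hn.trans e)).ge (mem_top (⟨a, ha⟩ : A))) h1
  · exact (mul_mem_iff_of_index_two (hn.trans e) (a := ⟨a, ha⟩) (b := ⟨b, hb⟩)).2 (iff_of_false h1 h1')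

theorem card_H [Finite G] : Nat.card (Hz z) = 2 ^ 21 * 9196830720 := by
  have : M.im (Hz z) = ⊤ := eq_top_iff.2 fun l _ => M.mem_im.2 (let ⟨h, a, e⟩ := M.surj l; ⟨h, a, a, e⟩)
  rw [M.card_im le_rfl, inf_of_le_right M.le, M.card, this, card_top, card_L6]

theorem card_C [Finite G] : Nat.card (Cz z) ∣ 6 * (2 ^ 21 * 9196830720) := M.card_H ▸ M.idx

/-- the preimage of a subgroup of `V0` -/
def pre (W : AddSubgroup V0) : Subgroup G where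
  carrier := {q | q ∈ Oz z ∧ ι q ∈ W}
  one_mem' := ⟨one_mem _, M.i_one ▸ W.zero_mem⟩
  mul_mem' ha hb := ⟨mul_mem ha.1 hb.1, M.add _ ha.1 _ hb.1 ▸ W.add_mem ha.2 hb.2⟩
  inv_mem' ha := ⟨inv_mem ha.1, M.inv' ha.1 ▸ ha.2⟩

theorem mem_pre {W : AddSubgroup V0} {q : G} : q ∈ M.pre W ↔ q ∈ Oz z ∧ ι q ∈ W := Iff.rfl

/-- the image in `V0` -/
def img (A : Subgroup G) : AddSubgroup V0 where
  carrier := {x | ∃ q ∈ A, q ∈ Oz z ∧ ι q = x}
  zero_mem' := ⟨1, one_mem _, one_mem _, M.i_one⟩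
  add_mem' := by
    rintro _ _ ⟨a, a1, a2, rfl⟩ ⟨b, b1, b2, rfl⟩
    exact ⟨a * b, mul_mem a1 b1, mul_mem a2 b2, M.add _ a2 _ b2⟩
  neg_mem' := by
    rintro _ ⟨a, a1, a2, rfl⟩
    exact ⟨a, a1, a2, (neg_eq_of_add_eq_zero_left (add_self _)).symm⟩

theorem mem_img {A : Subgroup G} {x : V0} : x ∈ M.img A ↔ ∃ q ∈ A, q ∈ Oz z ∧ ι q = x := Iff.rfl

theorem of_img {A : Subgroup G} (hz : z ∈ A) {q : G} (hq : q ∈ Oz z) (h : ι q ∈ M.img A) : q ∈ A := by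
  obtain ⟨r, r1, r2, e⟩ := h
  rcases M.uniq hq r2 e.symm with rfl | rfl
  exacts [r1, mul_mem hz r1]

theorem card_pre (W : AddSubgroup V0) : Nat.card (M.pre W) = 2 * Nat.card W := by
  let f : M.pre W →* Multiplicative W := MonoidHom.mk' (fun q => Multiplicative.ofAdd ⟨ι q, q.2.2⟩)
    fun a b => congrArg Multiplicative.ofAdd (Subtype.ext (M.add _ a.2.1 _ b.2.1))
  have hz : z ∈ M.pre W := ⟨M.zQ, M.i_z ▸ W.zero_mem⟩
  have h1 : f.range = ⊤ := eq_top_iff.2 fun x _ => by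
    obtain ⟨q, hq, e⟩ := M.onto x.toAdd
    exact ⟨⟨q, hq, e ▸ x.toAdd.2⟩, congrArg Multiplicative.ofAdd (Subtype.ext e)⟩
  have h2 : f.ker = (zpowers z).subgroupOf (M.pre W) := by
    ext q
    rw [MonoidHom.mem_ker, mem_subgroupOf, mem_zpowers_two M.sq, ← M.zero q q.2.1]
    exact ⟨fun e => congrArg (fun x : Multiplicative W => (x.toAdd : V0)) e,
      fun e => congrArg Multiplicative.ofAdd (Subtype.ext e)⟩
  rw [← f.ker.card_mul_index, index_ker, h1, card_top, h2,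
    Nat.card_congr (subgroupOfEquivOfLe ((zpowers_le).2 hz)).toEquiv, Nat.card_zpowers,
    orderOf_two M.lx.ne M.sq]
  rfl

variable [Finite G]

theorem cjg (g : G) : SD (g * z * g⁻¹) (fun y => π (g⁻¹ * y * g)) fun y => ι (g⁻¹ * y * g) := by
  have hO : ∀ {y}, y ∈ Oz (g * z * g⁻¹) ↔ g⁻¹ * y * g ∈ Oz z := fun {y} => by
    rw [← mem_Oz_conj (z := z) g]; simp [mul_assoc]
  have hH : ∀ {y}, y ∈ Hz (g * z * g⁻¹) ↔ g⁻¹ * y * g ∈ Hz z := fun {y} => by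
    rw [← mem_Hz_conj (z := z) g]; simp [mul_assoc]
  have hC : ∀ {y}, y ∈ Cz (g * z * g⁻¹) ↔ g⁻¹ * y * g ∈ Cz z := fun {y} => by
    rw [← mem_Cz_conj (z := z) g]; simp [mul_assoc]
  have hm : ∀ a b : G, g⁻¹ * (a * b) * g = g⁻¹ * a * g * (g⁻¹ * b * g) := fun a b => by group
  have hi : ∀ a : G, g⁻¹ * a⁻¹ * g = (g⁻¹ * a * g)⁻¹ := fun a => by group
  have hc : ∀ a : G, g⁻¹ * (g * a * g⁻¹) * g = a := fun a => by group
  refine ⟨Oz_conj g z ▸ lx_cjs M.lx g, by rw [Oz_conj, card_cjs, M.card], fun a ha => hH.2 (M.le (hO.1 ha)),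
    by rw [Cz_conj, Hz_conj, card_cjs, card_cjs]; exact M.idx,
    fun a ha b hb => by rw [hm, M.mul _ (hH.1 ha) _ (hH.1 hb)],
    fun l => let ⟨a, ha, e⟩ := M.surj l; ⟨g * a * g⁻¹, (mem_Hz_conj g).2 ha, by rw [hc, e]⟩,
    fun a ha => (M.ker _ (hH.1 ha)).trans hO.symm,
    fun c h1 h2 => hO.2 (M.out _ (hC.1 h1) fun a ha => ?_),
    fun a ha b hb => by rw [hm, M.add _ (hO.1 ha) _ (hO.1 hb)],
    fun a ha => (M.zero _ (hO.1 ha)).trans (or_congr ?_ ?_),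
    fun x => let ⟨a, ha, e⟩ := M.onto x; ⟨g * a * g⁻¹, (mem_Oz_conj g).2 ha, by rw [hc, e]⟩,
    fun h hh a ha => by rw [hm, hm, hi, M.conj _ (hH.1 hh) _ (hO.1 ha)], ?_⟩
  · have := hO.1 (h2 _ ((mem_Hz_conj g).2 ha))
    rwa [hm, hm, hm, hi, hi, hc] at this
  · exact ⟨fun e => by rw [show a = g * (g⁻¹ * a * g) * g⁻¹ by group, e]; group, fun e => by rw [e]; group⟩
  · exact ⟨fun e => by rw [← e]; group, fun e => by rw [e, hc]⟩
  · obtain ⟨a, h1, h2, h3⟩ := M.nw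
    exact ⟨g * a * g⁻¹, ((isConj_iff.2 ⟨g, rfl⟩ : IsConj z _).symm.trans h1).trans (isConj_iff.2 ⟨g, rfl⟩),
      (mem_Oz_conj g).2 h2, fun e => h3 (by simpa using e)⟩

theorem of_isConj (h : IsConj z a) : ∃ π' ι', SD a π' ι' := by
  obtain ⟨g, rfl⟩ := isConj_iff.1 h
  exact ⟨_, _, M.cjg g⟩

theorem sym (h : IsConj z a) (ha : a ∈ Oz z) (hne : a ≠ z) : z ∈ Oz a := by
  by_contra hz
  obtain ⟨π', ι', Ms⟩ := M.of_isConj h
  have h1 := (ex_of_lx M.lx).card_cent1 ha Ms.lx.ne hne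
  have h2 := Ms.card_im (A := Oz z ⊓ Cz a ⊓ Hz a) inf_le_right
  have h3 : Oz z ⊓ Cz a ⊓ Hz a ⊓ Oz a ≤ zpowers a := by
    rintro x ⟨⟨⟨hx, -⟩, -⟩, hx'⟩
    rw [mem_zpowers_two Ms.lx.sq]
    by_contra hc
    push Not at hc
    obtain ⟨c, hcQ, e1, e2⟩ := lx_sep M.lx ha hx hc.1 (fun e => hz (e ▸ hx')) hc.2 (fun e => hz (by
      have := (Oz a).mul_mem hx' ((Oz a).inv_mem Ms.lx.mem)
      rwa [e, mul_inv_cancel_right] at this))
    have := (Oz a).mul_mem (Ms.lx.norm c e1 x hx') ((Oz a).inv_mem hx')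
    rw [e2, mul_inv_cancel_right] at this
    exact hz this
  have h4 := card_dvd_of_le h3
  rw [Nat.card_zpowers, orderOf_two Ms.lx.ne Ms.lx.sq] at h4
  have h5 := (Ms.im (Oz z ⊓ Cz a ⊓ Hz a)).card_subgroup_dvd_card
  have h6 := (Ms.card_six (A := Oz z ⊓ Cz a) inf_le_right).trans
    (Nat.mul_dvd_mul_left 6 (h2 ▸ Nat.mul_dvd_mul h4 h5))
  rw [M.card] at h1
  change 2 * Nat.card (Oz z ⊓ Cz a : Subgroup G) = _ at h1
  rw [show Nat.card (Oz z ⊓ Cz a : Subgroup G) = 2 ^ 20 by omega, card_L6] at h6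
  norm_num at h6

end SD

theorem isConj_cj (g x : G) : IsConj x (g * x * g⁻¹) := isConj_iff.2 ⟨g, rfl⟩

theorem Lv_N1 (g : S3) {x : V0} (hx : x ∈ N1) : Lv g • x ∈ N1 :=
  (AddSubgroup.closure_le (N1.comap (DistribSMul.toAddMonoidHom V0 (Lv g)))).2 (by
    rintro _ ⟨K, y, rfl⟩
    refine AddSubgroup.subset_closure ⟨act g K, Lv g • y, ?_⟩
    rw [← mul_smul, ← Lv_Tr', mul_smul, ← smul_add]; rfl) hx

theorem Lv_N2 (g : S3) {x : V0} (hx : x ∈ N2) : Lv g • x ∈ N2 :=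
  (AddSubgroup.closure_le (N2.comap (DistribSMul.toAddMonoidHom V0 (Lv g)))).2 (by
    rintro _ ⟨K, y, hy, rfl⟩
    refine AddSubgroup.subset_closure ⟨act g K, Lv g • y, Lv_N1 g hy, ?_⟩
    rw [← mul_smul, ← Lv_Tr', mul_smul, ← smul_add]; rfl) hx

theorem PD.twist (M : PD z a π ι) (g : S3) : PD z a (fun y => Lv g * π y * (Lv g)⁻¹) fun y => Lv g • ι y where
  toSD := M.toSD.twist _
  icj := M.icj
  mem := M.mem
  lab := by rw [M.lab, Lv_v0]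
  inJ r h1 h2 := let ⟨h, K, e⟩ := M.inJ r h1 h2; ⟨h, act g K, by rw [← e, Lv_Tr]⟩
  onJ K := let ⟨r, h1, h2, e⟩ := M.onJ (act g⁻¹ K); ⟨r, h1, h2, by rw [e, ← Lv_Tr, map_inv]; group⟩
  n1 q hq := (M.n1 q hq).trans ⟨Lv_N1 g, fun h => by simpa using Lv_N1 g⁻¹ h⟩
  n2 q hq := (M.n2 q hq).trans ⟨Lv_N2 g, fun h => by simpa using Lv_N2 g⁻¹ h⟩

theorem PD.ne (M : PD z a π ι) : a ≠ z ∧ a ≠ 1 :=
  ⟨fun e => v0_ne (M.lab ▸ (M.zero a M.mem).2 (Or.inr e)), fun e => v0_ne (M.lab ▸ (M.zero a M.mem).2 (Or.inl e))⟩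

namespace SD

variable (M : SD z π ι)
include M

/-- the automorphism of `L6` induced by an element of the centraliser -/
theorem aut {x : G} (hx : x ∈ Cz z) (h2 : x * x ∈ Oz z) :
    ∃ α : MulAut L6, α * α = 1 ∧ ∀ h ∈ Hz z, α (π h) = π (x * h * x⁻¹) := by
  choose s hs es using M.surj
  have key : ∀ h ∈ Hz z, π (x * s (π h) * x⁻¹) = π (x * h * x⁻¹) := fun h hh => by
    have := M.ker' (M.norm hx (M.of_eq (hs (π h)) hh (es _)))
    rw [← conj_mul, M.mul _ (Hz_norm hx (hs _)) _ (Hz_norm hx (inv_mem hh)), ← conj_inv,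
      M.inv (Hz_norm hx hh)] at this
    exact mul_inv_eq_one.1 this
  have k2 : ∀ l, π (x * s (π (x * s l * x⁻¹)) * x⁻¹) = l := fun l => by
    rw [key _ (Hz_norm hx (hs l)), show x * (x * s l * x⁻¹) * x⁻¹ = x * x * s l * (x * x)⁻¹ by group,
      M.cj (M.le h2) (hs l), M.ker' h2, es]; simp
  refine ⟨⟨⟨fun l => π (x * s l * x⁻¹), fun l => π (x * s l * x⁻¹), k2, k2⟩, fun l m => ?_⟩,
    MulEquiv.ext k2, key⟩
  have := key _ (mul_mem (hs l) (hs m))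
  rw [M.mul _ (hs l) _ (hs m), es, es, ← conj_mul (b := x) (a := s l), M.mul _ (Hz_norm hx (hs l)) _
    (Hz_norm hx (hs m))] at this
  exact this

/-- the additive map induced by an element of the centraliser -/
theorem autV {x : G} (hx : x ∈ Cz z) : ∃ φ : V0 →+ V0, ∀ q ∈ Oz z, φ (ι q) = ι (x * q * x⁻¹) := by
  choose s hs es using M.onto
  have key : ∀ q ∈ Oz z, ι (x * s (ι q) * x⁻¹) = ι (x * q * x⁻¹) := fun q hq => by
    rcases M.uniq (hs (ι q)) hq (es _) with e | e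
    · rw [e]
    · rw [e, ← conj_mul, conj_eq_of_Cz hx, M.zmul (M.norm hx hq)]
  refine ⟨AddMonoidHom.mk' (fun v => ι (x * s v * x⁻¹)) fun v v' => ?_, key⟩
  have := key _ (mul_mem (hs v) (hs v'))
  rw [M.add _ (hs v) _ (hs v'), es, es, ← conj_mul (b := x) (a := s v), M.add _ (M.norm hx (hs v)) _
    (M.norm hx (hs v'))] at this
  exact this

theorem of_aut {x : G} (hx : x ∈ Cz z) {g : L6} (h : ∀ k ∈ Hz z, π (x * k * x⁻¹) = g * π k * g⁻¹) : x ∈ Hz z := by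
  obtain ⟨k, hk, rfl⟩ := M.surj g
  have := M.out (k⁻¹ * x) (mul_mem (inv_mem (Hz_le z hk)) hx) fun b hb => by
    refine M.of_eq (Hz_norm (mul_mem (inv_mem (Hz_le z hk)) hx) hb) hb ?_
    rw [show k⁻¹ * x * b * (k⁻¹ * x)⁻¹ = k⁻¹ * (x * b * x⁻¹) * k⁻¹⁻¹ by group,
      M.cj (inv_mem hk) (Hz_norm hx hb), h b hb, M.inv hk]; group
  simpa using mul_mem hk (M.le this)

variable [Finite G]

theorem card_cent (ha : a ∈ Oz z) (h1 : a ≠ 1) (hne : a ≠ z) : Nat.card (Oz z ⊓ Cz a : Subgroup G) = 2 ^ 20 := by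
  have h := (ex_of_lx M.lx).card_cent1 ha h1 hne
  rw [M.card] at h
  change 2 * Nat.card (Oz z ⊓ Cz a : Subgroup G) = _ at h
  omega

theorem comm_of (h : IsConj z a) (hne : a ≠ z) {x y : G} (hx : x ∈ Oz z ⊓ Oz a) (hy : y ∈ Oz z ⊓ Oz a) :
    x * y = y * x := by
  obtain ⟨π', ι', Ma⟩ := M.of_isConj h
  rcases M.lx.comm x hx.1 y hy.1 with e | e
  · exact mul_inv_eq_iff_eq_mul.1 e
  rcases Ma.lx.comm x hx.2 y hy.2 with e' | e'
  · exact mul_inv_eq_iff_eq_mul.1 e'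
  exact (hne (mul_right_cancel (e'.symm.trans e))).elim

theorem card_inf (h : IsConj z a) (hne : a ≠ z) (hz : z ∈ Oz a) :
    Nat.card (Oz z ⊓ Oz a : Subgroup G) ≤ 2 ^ 11 := by
  have := (ex_of_lx M.lx).card_abelian (M := Oz z ⊓ Oz a) inf_le_left ⟨M.zQ, hz⟩
    fun x hx y hy => M.comm_of h hne hx hy
  rw [M.card] at this
  exact Nat.mul_self_le_mul_self_iff.1 (this.trans (by norm_num))

theorem exists_pd (h : IsConj z a) (ha : a ∈ Oz z) (hne : a ≠ z) :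
    ∃ l : L6, PD z a (fun y => l * π y * l⁻¹) fun y => l • ι y := by
  have hz := M.sym h ha hne
  obtain ⟨π', ι', Ma⟩ := M.of_isConj h
  have cR := Ma.card_cent hz M.lx.ne hne.symm
  have cE := M.card_inf h hne hz
  have sq : ∀ r ∈ Oz a, r * r ∈ Oz z := fun r hr => by
    rcases Ma.lx.sqr r hr with e | e <;> rw [e]
    exacts [one_mem _, ha]
  have sq' : ∀ A ≤ Oz a, ∀ l ∈ M.im A, l * l = 1 := fun A hA l hl => by
    obtain ⟨r, h1, h2, rfl⟩ := M.mem_im.1 hl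
    rw [← M.mul r h2 r h2, M.ker' (sq r (hA h1))]
  have big : ∀ A ≤ Oz a, A ≤ Hz z → Nat.card A ≤ 2 ^ 11 * Nat.card (M.im A) := fun A h1 h2 => by
    rw [M.card_im h2]
    exact Nat.mul_le_mul_right _ ((card_le_of_le (le_inf inf_le_right (inf_le_left.trans h1))).trans cE)
  have RH : Oz a ⊓ Cz z ≤ Hz z := fun x hx => by
    obtain ⟨α, h1, h2⟩ := M.aut hx.2 (sq x hx.1)
    have h3 : 2 ^ 19 ≤ Nat.card (Oz a ⊓ Cz z ⊓ Hz z : Subgroup G) := by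
      have := M.card_six (A := Oz a ⊓ Cz z) inf_le_right
      rw [cR, pow_succ', show 6 = 2 * 3 from rfl, mul_assoc] at this
      exact Nat.le_of_dvd Nat.card_pos ((Nat.Coprime.pow_left 19 (by norm_num)).dvd_of_dvd_mul_left
        (Nat.dvd_of_mul_dvd_mul_left two_pos this))
    have h4 := big (Oz a ⊓ Cz z ⊓ Hz z) (inf_le_left.trans inf_le_left) inf_le_right
    obtain ⟨g, rfl⟩ := aut_inner α ⟨1, by rw [h1, map_one]⟩ (sq' (Oz a ⊓ Cz z ⊓ Hz z)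
      (inf_le_left.trans inf_le_left)) (by omega) fun l hl => by
        obtain ⟨r, r1, r2, rfl⟩ := M.mem_im.1 hl
        rw [h2 r r2]
        rcases Ma.lx.comm x hx.1 r r1.1.1 with e | e <;> rw [e]
        rw [M.mul _ (M.le ha) _ r2, M.ker' ha, one_mul]
    exact M.of_aut hx.2 fun k hk => (h2 k hk).symm
  have h4 := big (Oz a ⊓ Cz z) inf_le_left RH
  obtain ⟨g, hg⟩ := ea9 (sq' (Oz a ⊓ Cz z) inf_le_left) (by omega)
  have M' := M.twist g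
  have onJ : ∀ K, ∃ r ∈ Oz a, r ∈ Cz z ∧ g * π r * g⁻¹ = Tr K := fun K => by
    obtain ⟨r, r1, -, e⟩ := M.mem_im.1 ((hg (g⁻¹ * Tr K * g)).2 ⟨K, by group⟩)
    exact ⟨r, r1.1, r1.2, by rw [e]; group⟩
  have n1 : Oz z ⊓ Cz a = M'.pre N1 := by
    refine (eq_of_le_of_card_ge (H := M'.pre N1) (fun q hq => M'.of_img (A := Oz z ⊓ Cz a)
      ⟨M.zQ, Ma.leC hz⟩ hq.1 ((AddSubgroup.closure_le _).2 ?_ hq.2)) ?_).symm
    · rintro _ ⟨K, y, rfl⟩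
      obtain ⟨r, r1, r2, e⟩ := onJ K
      obtain ⟨q, hq, rfl⟩ := M'.onto y
      have hc := mul_mem (M.norm r2 hq) (inv_mem hq)
      refine ⟨_, ⟨hc, Cz_of_conj ?_⟩, hc, e ▸ M'.comm' (RH ⟨r1, r2⟩) hq⟩
      have e1 : r⁻¹ * (q⁻¹ * a * q⁻¹⁻¹) * r⁻¹⁻¹ = q⁻¹ * a * q⁻¹⁻¹ := by
        have ea := conj_eq_of_Cz (inv_mem (Ma.leC r1))
        rcases M.lx.comm _ (inv_mem hq) a ha with e | e <;> rw [e]
        · exact ea
        · rw [← conj_mul, ea, conj_eq_of_Cz (inv_mem r2)]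
      calc _ = r * (q * (r⁻¹ * (q⁻¹ * a * q⁻¹⁻¹) * r⁻¹⁻¹) * q⁻¹) * r⁻¹ := by group
        _ = r * a * r⁻¹ := by rw [e1]; group
        _ = a := conj_eq_of_Cz (Ma.leC r1)
    · rw [M'.card_pre, card_N1, M.card_cent ha Ma.lx.ne hne]; norm_num
  have n2 : Oz z ⊓ Oz a = M'.pre N2 := by
    refine (eq_of_le_of_card_ge (H := M'.pre N2) (fun q hq => M'.of_img (A := Oz z ⊓ Oz a)
      ⟨M.zQ, hz⟩ hq.1 ((AddSubgroup.closure_le _).2 ?_ hq.2)) ?_).symm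
    · rintro _ ⟨K, y, hy, rfl⟩
      obtain ⟨r, r1, r2, e⟩ := onJ K
      obtain ⟨q, hq, rfl⟩ := M'.onto y
      have hc := mul_mem (M.norm r2 hq) (inv_mem hq)
      have hqa : q ∈ Oz z ⊓ Cz a := n1 ▸ ⟨hq, hy⟩
      refine ⟨_, ⟨hc, ?_⟩, hc, e ▸ M'.comm' (RH ⟨r1, r2⟩) hq⟩
      have := mul_mem r1 (Ma.norm hqa.2 (inv_mem r1))
      rwa [← mul_assoc, ← mul_assoc] at this
    · rw [M'.card_pre, card_N2]; omega
  refine ⟨g, M', h, ha, ((fixJ _).1 fun K => ?_).resolve_left fun e => ?_,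
    fun r r1 r2 => ⟨RH ⟨r1, r2⟩, (hg _).1 (M.mem_im.2 ⟨r, ⟨r1, r2⟩, RH ⟨r1, r2⟩, rfl⟩)⟩, onJ,
    fun q hq => ⟨fun e => (n1.le ⟨hq, e⟩).2, fun e => (n1.ge ⟨hq, e⟩).2⟩,
    fun q hq => ⟨fun e => (n2.le ⟨hq, e⟩).2, fun e => (n2.ge ⟨hq, e⟩).2⟩⟩
  · obtain ⟨r, r1, r2, e⟩ := onJ K
    have := M'.conj r (RH ⟨r1, r2⟩) a ha
    rw [conj_eq_of_Cz (Ma.leC r1)] at this
    rw [← e]; exact this.symm
  · exact ((M'.zero a ha).1 e).elim Ma.lx.ne hne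

theorem mem_Pl (h : IsConj z a) (ha : a ∈ Oz z) (hne : a ≠ z) : ι a ∈ Pl :=
  let ⟨l, P⟩ := M.exists_pd h ha hne
  ⟨l⁻¹, by rw [← P.lab, inv_smul_smul]⟩

omit [Finite G] in
/-- elements with conjugate labels are conjugate -/
theorem conj_of {b : G} (ha : a ∈ Oz z) (hb : b ∈ Oz z) (h0 : ι a ≠ 0) {l : L6} (e : ι b = l • ι a) :
    ∃ k ∈ Hz z, π k = l ∧ k * a * k⁻¹ = b := by
  obtain ⟨k, hk, rfl⟩ := M.surj l
  rcases M.uniq hb (M.norm (Hz_le z hk) ha) (e.trans (M.conj k hk a ha).symm) with e | e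
  · exact ⟨k, hk, rfl, e.symm⟩
  · obtain ⟨q, hq, e'⟩ := M.lx.exists_conj ha (fun e => h0 (e ▸ M.i_one)) fun e => h0 (e ▸ M.i_z)
    refine ⟨k * q, mul_mem hk (M.le hq), by rw [M.mul k hk q (M.le hq), M.ker' hq, mul_one], ?_⟩
    rw [e, show k * q * a * (k * q)⁻¹ = k * (q * a * q⁻¹) * k⁻¹ by group, e', ← conj_mul,
      conj_eq_of_Cz (Hz_le z hk)]

omit [Finite G] in
theorem trans' {b : G} (ha : a ∈ Oz z) (h : ι a ∈ Pl) (hb : b ∈ Oz z) (h' : ι b ∈ Pl) :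
    ∃ k ∈ Hz z, k * a * k⁻¹ = b := by
  have h0 : ι a ≠ 0 := fun e => zero_not_Pl (e ▸ h)
  obtain ⟨g, e⟩ := h
  obtain ⟨g', e'⟩ := h'
  obtain ⟨k, h1, -, h2⟩ := M.conj_of ha hb h0 (l := g' * g⁻¹) (by rw [e, e', mul_smul, inv_smul_smul])
  exact ⟨k, h1, h2⟩

theorem isConj_of_Pl (ha : a ∈ Oz z) (h : ι a ∈ Pl) : IsConj z a := by
  obtain ⟨b, h1, h2, h3⟩ := M.nw
  obtain ⟨k, -, rfl⟩ := M.trans' h2 (M.mem_Pl h1 h2 h3) ha h
  exact h1.trans (isConj_cj k b)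

theorem trans {b : G} (h : IsConj z a) (ha : a ∈ Oz z) (hne : a ≠ z) (h' : IsConj z b) (hb : b ∈ Oz z)
    (hne' : b ≠ z) : ∃ k ∈ Hz z, k * a * k⁻¹ = b :=
  M.trans' ha (M.mem_Pl h ha hne) hb (M.mem_Pl h' hb hne')

omit [Finite G] in
theorem ne_of_Pl (h : ι a ∈ Pl) : a ≠ z := fun e => zero_not_Pl (M.i_z ▸ e ▸ h)

/-- an involution commuting with `z` centralises another conjugate in `Oz z` -/
theorem fix_nb {y : G} (hy : y ∈ Cz z) (h2 : y * y = 1) : ∃ a, IsConj z a ∧ a ∈ Oz z ∧ a ≠ z ∧ a ∈ Cz y := by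
  obtain ⟨φ, hφ⟩ := M.autV hy
  obtain ⟨p, hp, p', hp', hs, e, e'⟩ := fix_line φ (fun x => by
    obtain ⟨q, hq, rfl⟩ := M.onto x
    rw [hφ q hq, hφ _ (M.norm hy hq), show y * (y * q * y⁻¹) * y⁻¹ = y * y * q * (y * y)⁻¹ by group, h2]
    simp) fun p hp => by
    obtain ⟨q, hq, rfl⟩ := M.onto p
    rw [hφ q hq]
    exact M.mem_Pl ((M.isConj_of_Pl hq hp).trans (isConj_cj y q)) (M.norm hy hq) fun e =>
      M.ne_of_Pl hp (by simpa using e.trans (conj_eq_of_Cz hy).symm)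
  obtain ⟨q, hq, rfl⟩ := M.onto p
  obtain ⟨q', hq', rfl⟩ := M.onto p'
  rw [hφ q hq] at e
  rw [hφ q' hq'] at e'
  rw [← M.add q hq q' hq'] at hs
  have fin : ∀ q ∈ Oz z, ι q ∈ Pl → y * q * y⁻¹ = q → ∃ a, IsConj z a ∧ a ∈ Oz z ∧ a ≠ z ∧ a ∈ Cz y :=
    fun q hq hp e => ⟨q, M.isConj_of_Pl hq hp, hq, M.ne_of_Pl hp, Cz_symm (Cz_of_conj e)⟩
  rcases M.uniq (M.norm hy hq) hq e with e | e
  · exact fin q hq hp e
  rcases M.uniq (M.norm hy hq') hq' e' with e' | e'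
  · exact fin q' hq' hp' e'
  refine fin _ (mul_mem hq hq') hs ?_
  rw [← conj_mul, e, e', mul_assoc, ← mul_assoc q, M.lx.cen q hq, ← mul_assoc, ← mul_assoc, M.sq, one_mul]

end SD

end Cfsg.Agent.E6S
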