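import Cfsg.Agent.E62.Entry
import Cfsg.Agent.TE6.RNW
import Mathlib.GroupTheory.SpecificGroups.ZGroup

/-! Project TE6 (port of E62 to index dividing six): the coordinates exist. -/

set_option autoImplicit false

namespace Cfsg.Agent.E6S

open Matrix Subgroup Cfsg.Agent.H10 Cfsg.Agent.H29 Cfsg.Agent.H29.F4 Cfsg.Agent.H22.U6 Cfsg.Agent.CO1
  Cfsg.Agent.H97 Cfsg.Agent.MON.Cox Cfsg.Agent.E62
open scoped commutatorElement

/-- a group whose order divides six is metabelian -/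
theorem cm2_le {C : Type*} [Group C] [Finite C] (H : Subgroup C) [H.Normal] (hH : H.index ∣ 6) :
    ⁅commutator C, commutator C⁆ ≤ H := by
  have : IsZGroup (C ⧸ H) := IsZGroup.of_squarefree (Squarefree.squarefree_of_dvd hH (by decide +kernel))
  have hc := IsZGroup.isCyclic_commutator (C ⧸ H)
  have m : ∀ a ∈ commutator C, QuotientGroup.mk' H a ∈ commutator (C ⧸ H) := fun a ha => by
    have := mem_map_of_mem (QuotientGroup.mk' H) ha
    rw [map_commutator_eq] at this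
    exact commutator_mono le_top le_top this
  refine commutator_le.2 fun a ha b hb => (QuotientGroup.eq_one_iff _).1 ?_
  change QuotientGroup.mk' H _ = 1
  rw [map_commutatorElement, commutatorElement_eq_one_iff_mul_comm]
  exact congrArg Subtype.val (mul_comm' (⟨_, m a ha⟩ : commutator (C ⧸ H)) ⟨_, m b hb⟩)

/-- coordinates from the structure of the centraliser -/
theorem entry6 {G : Type*} [Group G] [Finite G] {z : G} {P : Subgroup (Cz z)} [P.Normal]
    (hset : IsExtraspecialCentralizerSetting z P 10) (H : Subgroup (Cz z)) [H.Normal] (hH : H.index ∣ 6)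
    (p : H →* L6) (hs : Function.Surjective p) (kp : ∀ x : H, p x = 1 ↔ (x : G) ∈ Oz z)
    (out : ∀ c ∈ Cz z, (∀ a : H, c * a * c⁻¹ * (a : G)⁻¹ ∈ Oz z) → c ∈ Oz z) : ∃ π ι, SD z π ι := by
  classical
  have : Fact (Nat.Prime 2) := ⟨Nat.prime_two⟩
  obtain ⟨V, _, _, _, Q, π0, ρ, -, hr, h⟩ := exists_co0 hset
  have hnw := h.fus
  obtain ⟨σ, hσ⟩ : ∃ σ : L6 →* H11.OG Q, ∀ x : H, σ (p x) = ρ x :=
    ⟨p.liftOfSurjective hs ⟨h.hom.comp H.subtype, fun x hx => (h.ρ_eq_one x.1.2).2 ((kp x).1 hx)⟩, fun x =>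
      p.liftOfRightInverse_comp_apply _ _ _ x⟩
  letI : DistribMulAction L6 V :=
    { smul := fun l v => H11.ap (σ l) v
      one_smul := fun v => by change H11.ap (σ 1) v = v; rw [map_one, H11.ap_one]
      mul_smul := fun a b v => by change H11.ap (σ (a * b)) v = _; rw [map_mul]; rfl
      smul_zero := fun a => map_zero (σ a : V ≃ₗ[ZMod 2] V)
      smul_add := fun a => H11.ap_add _ }
  have hn : ∃ (g : L6) (x : V), g • x ≠ x := by
    by_contra! k
    obtain ⟨x, hx⟩ := hs (tp e0)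
    refine tv_ne_one (herm_io e0 e0) (io_ne_zero (by decide)) (hx.symm.trans ((kp x).2 ((h.ρ_eq_one x.1.2).1 ?_)))
    exact h.ρ_ext fun a _ => hσ x ▸ k (p x) (π0 a)
  obtain ⟨e, he⟩ := mod_iso (V := V) (fun x => by rw [← two_smul (ZMod 2), show (2 : ZMod 2) = 0 from rfl, zero_smul])
    (by rw [Module.natCard_eq_pow_finrank (K := ZMod 2), Nat.card_zmod, hr]) hn
  have cj : ∀ x : H, ∀ a ∈ Oz z, e (π0 (x * a * (x : G)⁻¹)) = p x • e (π0 a) := fun x a ha => by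
    rw [h.act _ x.1.2 a ha, ← he, ← hσ]; rfl
  have le1 : Hz z ≤ H.map (Cz z).subtype := by
    refine le_trans (le_of_eq ?_) (map_mono (cm2_le H hH))
    rw [map_commutator, commutator_def, map_commutator, ← MonoidHom.range_eq_map, range_subtype, Hz]
  have key : ∀ D : Subgroup G, Oz z ≤ D → (∀ l, ∃ x : H, (x : G) ∈ D ∧ p x = l) →
      Oz z ≤ ⁅D, D⁆ ∧ ∀ l, ∃ x : H, (x : G) ∈ ⁅D, D⁆ ∧ p x = l := fun D d1 d2 => by
    have cm : ∀ {a b}, a ∈ D → b ∈ D → a * b * a⁻¹ * b⁻¹ ∈ ⁅D, D⁆ := fun ha hb => commutator_mem_commutator ha hb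
    have zH : z ∈ ⁅D, D⁆ := by
      obtain ⟨g, h1, h2⟩ := hnw
      obtain ⟨b, hb, e⟩ := h.lx.exists_conj h1 (fun e => h.lx.ne (by simpa using e)) h2
      simpa only [e, mul_inv_cancel_right] using cm (d1 hb) (d1 h1)
    refine ⟨?_, fun l => ?_⟩
    · let W : AddSubgroup V0 :=
        { carrier := {x | ∃ a ∈ Oz z, a ∈ ⁅D, D⁆ ∧ e (π0 a) = x}
          zero_mem' := ⟨1, one_mem _, one_mem _, by rw [h.π_one, map_zero]⟩
          add_mem' := by
            rintro _ _ ⟨a, h1, h2, rfl⟩ ⟨b, h3, h4, rfl⟩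
            exact ⟨a * b, mul_mem h1 h3, mul_mem h2 h4, by rw [h.add a h1 b h3, map_add]⟩
          neg_mem' := by
            rintro _ ⟨a, h1, h2, rfl⟩
            exact ⟨a, h1, h2, eq_neg_of_add_eq_zero_left (add_self _)⟩ }
      have hW : ∀ l : L6, ∀ x ∈ W, l • x ∈ W := by
        rintro l _ ⟨a, h1, h2, rfl⟩
        obtain ⟨x, hx, rfl⟩ := d2 l
        exact ⟨_, h.norm x.1.2 h1, by simpa using mul_mem (cm hx (d1 h1)) h2, cj x a h1⟩
      obtain ⟨l, x, hx⟩ := hn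
      obtain ⟨y, hy, rfl⟩ := d2 l
      obtain ⟨a, ha, rfl⟩ := h.surj x
      have h0 : v0 ∈ W := v0_mem (fun K => hW _) ⟨_, mul_mem (h.norm y.1.2 ha) (inv_mem ha), cm hy (d1 ha), rfl⟩
        fun k => by
          rw [h.add _ (h.norm y.1.2 ha) _ (inv_mem ha), h.π_inv ha, map_add, cj y a ha, ← he,
            ← add_self (e (π0 a)), add_left_inj] at k
          exact hx (e.injective k)
      have hT : W = ⊤ := span_Pl (by rintro _ ⟨g, rfl⟩; exact hW g _ h0)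
      intro a ha
      obtain ⟨b, h1, h2, k⟩ : e (π0 a) ∈ W := hT ▸ AddSubgroup.mem_top _
      rcases h.eq_or h1 ha (e.injective k) with rfl | rfl
      exacts [h2, mul_mem zH h2]
    · let D' := D.comap ((Cz z).subtype.comp H.subtype)
      have t : D'.map p = ⊤ := eq_top_iff.2 fun l _ => let ⟨x, a, b⟩ := d2 l; ⟨x, a, b⟩
      have : l ∈ ⁅D', D'⁆.map p := by
        rw [map_commutator, t]
        exact en_perfect.ge (mem_top l)
      obtain ⟨x, hx, rfl⟩ := this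
      exact ⟨x, (commutator_le (H₃ := ⁅D, D⁆.comap ((Cz z).subtype.comp H.subtype))).2
        (fun a ha b hb => cm ha hb) hx, rfl⟩
  obtain ⟨k1, k2⟩ := key (Cz z) h.le fun l => let ⟨x, hx⟩ := hs l; ⟨x, x.1.2, hx⟩
  obtain ⟨QH, lift⟩ := key _ k1 k2
  have eH : Hz z = H.map (Cz z).subtype := le_antisymm le1 (by
    rintro _ ⟨x, hx, rfl⟩
    obtain ⟨y, hy, k⟩ := lift (p ⟨x, hx⟩)
    simpa [Hz] using mul_mem hy (QH ((kp (y⁻¹ * ⟨x, hx⟩)).1 (by rw [map_mul, map_inv, k, inv_mul_cancel]))))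
  have ex : ∀ {a}, a ∈ Hz z → ∃ x : H, a = x := fun ha => by
    obtain ⟨x, hx, rfl⟩ := le1 ha
    exact ⟨⟨x, hx⟩, rfl⟩
  obtain ⟨π, hπ⟩ : ∃ π : G → L6, ∀ x : H, π x = p x :=
    ⟨Function.extend (fun x : H => (x : G)) p 1, fun x =>
      (Subtype.val_injective.comp Subtype.val_injective).extend_apply _ _ x⟩
  refine ⟨π, fun a => e (π0 a), h.lx, by rw [Oz_eq hset, card_subtype, hset.2.2.2.1], QH, ?_,
    fun a ha b hb => ?_, fun l => ?_, fun a ha => ?_, fun c hc k => out c hc fun a => k a (eH ▸ ⟨a, a.2, rfl⟩),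
    fun a ha b hb => by rw [h.add a ha b hb, map_add],
    fun a ha => by rw [← h.ker a ha, map_eq_zero_iff _ e.injective], fun x => ?_, fun x hx a ha => ?_, ?_⟩
  · rw [eH, card_subtype, ← H.index_mul_card]
    exact Nat.mul_dvd_mul_right hH _
  · obtain ⟨x, rfl⟩ := ex ha
    obtain ⟨y, rfl⟩ := ex hb
    rw [hπ, hπ, ← map_mul, ← hπ]; rfl
  · obtain ⟨x, hx, rfl⟩ := lift l
    exact ⟨x, hx, hπ x⟩
  · obtain ⟨x, rfl⟩ := ex ha
    rw [hπ, kp]
  · obtain ⟨a, ha, k⟩ := h.surj (e.symm x)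
    exact ⟨a, ha, by rw [k, e.apply_symm_apply]⟩
  · obtain ⟨x, rfl⟩ := ex hx
    rw [hπ, cj x a ha]
  · obtain ⟨g, h1, h2⟩ := hnw
    exact ⟨_, isConj_iff.2 ⟨g, rfl⟩, h1, h2⟩

end Cfsg.Agent.E6S
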