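/-
Project TE6 (port of E62 to index dividing six).  The radical of the translation subgroup acts trivially.
-/
import Cfsg.Agent.E62.CoxR
import Cfsg.Agent.TE6.RDefs

set_option autoImplicit false

namespace Cfsg.Agent.E6S

open Subgroup Cfsg.Agent.CO1 Cfsg.Agent.MON.Cox Cfsg.Agent.E62 Cfsg.Agent.E62.CX
open scoped commutatorElement

variable {G : Type*} [Group G]

theorem three_mem {H B : Subgroup G} {t x : G} (ht : t ∈ H) (hx : x ∈ B) (h3 : x ^ 3 = 1)
    (e : t * x * t⁻¹ * x = 1) : x ∈ ⁅H, B⁆ := by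
  have : ⁅t, x⁆ = x := by
    rw [commutatorElement_def, eq_inv_of_mul_eq_one_left e, ← mul_inv_rev, inv_eq_iff_mul_eq_one, ← h3,
      pow_three']
  exact this ▸ commutator_mem_commutator ht hx

/-- a third element of order three -/
def lu : List (Fin 6) := [2, 3]

/-- the projection to the orthogonal complement of the first root -/
def pr (n : R3) : R3 := ![n 0, 2 * n 0, n 2, n 3, n 4, n 5]

theorem pr_add (n m : R3) : pr (n + m) = pr n + pr m := by
  funext i
  fin_cases i <;> simp [pr, mul_add]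

theorem c_pr : ∀ n : R3, ip 0 n = 0 → pr n = n := by decide +kernel

/-- preimages -/
def ga : Fin 6 → R3 := ![![0, 0, 0, 0, 2, 0], 0, 0, 0, ![0, 0, 0, 0, 1, 0], 0]

/-- preimages -/
def gb : Fin 6 → R3 := ![![0, 0, 0, 0, 0, 2], 0, 0, 0, 0, ![0, 0, 1, 0, 0, 0]]

/-- preimages -/
def gu : Fin 6 → R3 := ![0, 0, ![0, 0, 0, 0, 0, 1], ![0, 0, 0, 0, 1, 2], ![0, 0, 0, 0, 1, 2], 0]

theorem c_gen : ∀ i, ip 0 (ga i) = 0 ∧ ip 0 (gb i) = 0 ∧ ip 0 (gu i) = 0 ∧ pr (ev i) =
    rfw la (ga i) + -ga i + (rfw lb (gb i) + -gb i) + (rfw lu (gu i) + -gu i) := by decide +kernel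

theorem c_six : ok adjE PE ([8, 6] ++ (la.map nd ++ ([8, 6].reverse ++ la.map nd))) = true ∧
    ok adjE PE ([8, 6] ++ (lb.map nd ++ ([8, 6].reverse ++ lb.map nd))) = true ∧
    ok adjE PE ([8, 6].reverse ++ ([4, 8, 5, 4, 6, 5] ++ [6] ++ [4, 8, 5, 4, 6, 5].reverse ++ [6].reverse)) = true ∧
    ok adjE PE (rep (lu.map nd) 3) = true ∧
    ok adjE PE ([4] ++ (lu.map nd ++ ([4].reverse ++ lu.map nd))) = true := by decide +kernel

theorem rho_six [Finite G] {s : ℕ → G} (S : Sys adjE PE s) (h3 : (wp s rT * s 9) ^ 3 = 1)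
    (h7 : ¬ 3 ^ 7 ∣ Nat.card (Hz (s 2))) : wp s rho = 1 := by
  have all : ∀ {l : List ℕ}, l.all PE = true → ∀ y ∈ l, PE y = true := fun h => List.all_eq_true.1 h
  have hu : ∀ i, wp s (tw i) = wp s (uw i) * (wp s rT * s 9) * (wp s (uw i))⁻¹ := fun i => by
    rw [S.eq _ _ (c_uw i), wp_append, wp_append, wp_append, S.wp_reverse _ (all (c_P i).2.1)]
    simp [mul_assoc]
  have hc : ∀ i j, wp s (tw i) * wp s (tw j) = wp s (tw j) * wp s (tw i) := fun i j => by
    rw [← wp_append, S.eq _ _ (c_tw i j), wp_append]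
  have ht3 : ∀ i, wp s (tw i) ^ 3 = 1 := fun i => by rw [hu, conj_pow, h3, mul_one, mul_inv_cancel]
  have hinv : ∀ i, (wp s (tw i))⁻¹ = wp s (tw i) * wp s (tw i) := fun i => by
    rw [inv_eq_iff_mul_eq_one, ← ht3 i, pow_three]
  obtain ⟨φ, hadd, hev⟩ := exists_phi _ hc ht3
  have h0 : φ 0 = 1 := by
    have := hadd 0 0
    rw [add_zero] at this
    exact left_eq_mul.1 this
  have hcm : ∀ n m, φ n * φ m = φ m * φ n := fun n m => by rw [← hadd, ← hadd, add_comm]
  have hsq : ∀ j, s (nd j) * s (nd j) = 1 := fun j => S.sq _ (c_P j).2.2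
  have heq : ∀ j n, s (nd j) * φ n * (s (nd j))⁻¹ = φ (rf j n) := fun j => by
    refine ind ?_ (fun n m hn hm => ?_) fun i => ?_
    · rw [show rf j 0 = 0 by revert j; decide, h0, mul_one, mul_inv_cancel]
    · rw [rf_add, hadd, hadd, ← hn, ← hm, conj_mul]
    · have e : s (nd j) * φ (ev i) * (s (nd j))⁻¹ = wp s (nd j :: (tw i ++ [nd j])) := by
        rw [hev, inv_eq_of_mul_eq_one_right (hsq j)]
        simp [mul_assoc]
      rw [e]
      rcases c_rf j i with ⟨a, b⟩ | ⟨a, b⟩ | ⟨a, b⟩ <;> rw [S.eq _ _ a, b]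
      · rw [hev]
      · rw [hadd, hev, S.wp_reverse _ (all (c_P i).1), hinv]
      · rw [hadd, hev, hev, wp_append]
  have hw : ∀ l n, wp s (l.map nd) * φ n * (wp s (l.map nd))⁻¹ = φ (rfw l n) := fun l n => by
    induction l with
    | nil => simp [rfw]
    | cons j l ih => rw [rfw, ← heq, ← ih, List.map_cons, wp_cons]; group
  have hr : wp s rho = φ rad := by
    rw [S.eq _ _ c_rho, c_rad]
    simp only [wp_append, hadd, hev, S.wp_reverse _ (all (c_P _).1), hinv]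
  rw [hr]
  by_contra hne
  have hk : ∀ n, φ n = 1 → n = 0 := fun n hn => by
    have hrf : ∀ j, φ (rf j n) = 1 := fun j => by rw [← heq, hn, mul_one, mul_inv_cancel]
    have key : ∀ j, φ (ev j) ≠ 1 := fun j hj => by
      have hτ : wp s rT * s 9 = 1 := by
        rw [hev, hu] at hj
        exact conj_eq_one_iff.1 hj
      refine hne (ind (P := fun n => φ n = 1) h0 (fun n m a b => by rw [hadd, a, b, mul_one]) (fun i => ?_) rad)
      rw [hev, hu, hτ, mul_one, mul_inv_cancel]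
    rcases c_ker n with h | h | h | ⟨j, h | h⟩
    · exact h
    · exact absurd (h ▸ hn) hne
    · exact absurd (by rw [← h, hadd, hn, mul_one]) hne
    · exact absurd (by rw [← h, hadd, hadd, hn, hrf, mul_one, mul_one]) (key j)
    · exact absurd (by rw [← h, hadd, hadd, hn, hrf, mul_one, mul_one]) (key j)
  have hneg : ∀ n, φ (-n) = (φ n)⁻¹ := fun n =>
    eq_inv_of_mul_eq_one_left (by rw [← hadd, neg_add_cancel, h0])
  have hinj : ∀ n m, φ n = φ m → n = m := fun n m h =>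
    add_neg_eq_zero.1 (hk _ (by rw [hadd, hneg, h, mul_inv_cancel]))
  let A : Subgroup G :=
    { carrier := {g | ∃ n, ip 0 n = 0 ∧ φ n = g}
      one_mem' := ⟨0, by decide, h0⟩
      mul_mem' := by
        rintro _ _ ⟨n, hn, rfl⟩ ⟨m, hm, rfl⟩
        refine ⟨n + m, ?_, hadd n m⟩
        simp only [ip, Pi.add_apply, Matrix.cons_val_zero] at hn hm ⊢
        linear_combination hn + hm
      inv_mem' := by
        rintro _ ⟨n, hn, rfl⟩
        refine ⟨-n, ?_, hneg n⟩
        simp only [ip, Pi.neg_apply, Matrix.cons_val_zero] at hn ⊢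
        linear_combination -hn }
  obtain ⟨a, ha⟩ : ∃ a, a = wp s (la.map nd) := ⟨_, rfl⟩
  obtain ⟨b, hb⟩ : ∃ b, b = wp s (lb.map nd) := ⟨_, rfl⟩
  have a3 : a ^ 3 = 1 := by rw [ha, ← wp_rep, S.one c_ab.1]
  have b3 : b ^ 3 = 1 := by rw [hb, ← wp_rep, S.one c_ab.2.1]
  have ab : a * b = b * a := by rw [ha, hb, ← wp_append, S.eq _ _ c_ab.2.2.1, wp_append]
  have a2 : a * s 2 = s 2 * a := by simpa [ha] using S.eq _ _ c_ab.2.2.2.1
  have b2 : b * s 2 = s 2 * b := by simpa [hb] using S.eq _ _ c_ab.2.2.2.2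
  have pz : ∀ x : G, x ^ 3 = 1 → IsPGroup 3 (zpowers x) := by
    rintro x hx ⟨_, k, rfl⟩
    refine ⟨1, Subtype.ext ?_⟩
    change (x ^ k) ^ 3 ^ 1 = 1
    rw [pow_one, ← zpow_natCast, ← zpow_mul, mul_comm, zpow_mul, zpow_natCast, hx, one_zpow]
  have pA : IsPGroup 3 A := by
    rintro ⟨_, n, hn, rfl⟩
    refine ⟨1, Subtype.ext ?_⟩
    change φ n ^ 3 ^ 1 = 1
    rw [pow_one, pow_three, ← hadd, ← hadd, show n + (n + n) = 0 from funext fun i =>
      (by decide : ∀ c : ZMod 3, c + (c + c) = 0) (n i), h0]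
  have nA : ∀ l, (∀ n, ip 0 n = 0 → ip 0 (rfw l n) = 0) → wp s (l.map nd) ∈ normalizer (A : Set G) :=
    fun l hl => mem_normalizer_fintype (by
      rintro _ ⟨n, hn, rfl⟩
      exact ⟨_, hl n hn, (hw l n).symm⟩)
  have na : a ∈ normalizer (A : Set G) := ha ▸ nA _ fun n hn => (c_ip n hn).2.1
  have nb : b ∈ normalizer (A : Set G) := hb ▸ nA _ fun n hn => (c_ip n hn).2.2
  have nab : b ∈ normalizer (zpowers a : Set G) := mem_normalizer_fintype (by
    rintro _ ⟨k, rfl⟩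
    refine ⟨k, ?_⟩
    have : Commute (a ^ k) b := (show Commute a b from ab).zpow_left k
    simp only
    rw [← this.eq, mul_inv_cancel_right])
  have pP : IsPGroup 3 (A ⊔ (zpowers a ⊔ zpowers b) : Subgroup G) :=
    pA.to_sup_of_normal_left' ((pz a a3).to_sup_of_normal_left' (pz b b3) ((zpowers_le).2 nab))
      (sup_le ((zpowers_le).2 na) ((zpowers_le).2 nb))
  have hle : A ⊔ (zpowers a ⊔ zpowers b) ≤ Cz (s 2) := by
    refine sup_le ?_ (sup_le ((zpowers_le).2 ?_) ((zpowers_le).2 ?_))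
    · rintro _ ⟨n, hn, rfl⟩
      rw [mem_centralizer_singleton_iff]
      have := heq 0 n
      rw [(c_ip n hn).1, mul_inv_eq_iff_eq_mul] at this
      exact this.symm
    · exact mem_centralizer_singleton_iff.2 a2
    · exact mem_centralizer_singleton_iff.2 b2
  have aC : a ∈ Cz (s 2) := mem_centralizer_singleton_iff.2 a2
  have bC : b ∈ Cz (s 2) := mem_centralizer_singleton_iff.2 b2
  have wC : ∀ l : List ℕ, (l.all fun k => [4, 5, 6, 8].contains k) = true → wp s l ∈ Cz (s 2) :=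
    fun l h => wp_mem s fun x hx => by
      have := List.contains_iff_mem.1 (List.all_eq_true.1 h x hx)
      simp only [List.mem_cons, List.not_mem_nil, or_false] at this
      rcases this with rfl | rfl | rfl | rfl <;>
        exact mem_centralizer_singleton_iff.2 (S.comm _ 2 rfl rfl (by decide) rfl)
  have iv : ∀ t x : List ℕ, t.all PE = true → ok adjE PE (t ++ (x ++ (t.reverse ++ x))) = true →
      wp s t * wp s x * (wp s t)⁻¹ * wp s x = 1 := fun t x h1 h2 => by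
    have := S.one h2
    rwa [wp_append, wp_append, wp_append, S.wp_reverse _ (all h1), ← mul_assoc, ← mul_assoc] at this
  have ta := ha ▸ iv [8, 6] _ rfl c_six.1
  have tb := hb ▸ iv [8, 6] _ rfl c_six.2.1
  have tD : wp s [8, 6] ∈ ⁅Cz (s 2), Cz (s 2)⁆ := by
    have := commutator_mem_commutator (wC [4, 8, 5, 4, 6, 5] rfl) (wC [6] rfl)
    rwa [commutatorElement_def, ← S.wp_reverse _ (all rfl), ← S.wp_reverse _ (all rfl), ← wp_append, ← wp_append,
      ← wp_append, ← S.eq _ _ c_six.2.2.1] at this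
  have uC := wC (lu.map nd) rfl
  have uD := three_mem (wC [4] rfl) uC (by rw [← wp_rep, S.one c_six.2.2.2.1]) (iv [4] _ rfl c_six.2.2.2.2)
  have aD := three_mem (wC [8, 6] rfl) aC a3 ta
  have bD := three_mem (wC [8, 6] rfl) bC b3 tb
  have gen : ∀ H B : Subgroup G, a ∈ H → b ∈ H → wp s (lu.map nd) ∈ H → A ≤ B → A ≤ ⁅H, B⁆ :=
    fun H B h1 h2 h3 hA => by
      have k : ∀ l n, wp s (l.map nd) ∈ H → ip 0 n = 0 → φ (rfw l n + -n) ∈ ⁅H, B⁆ := fun l n h1 h2 => by
        rw [hadd, hneg, ← hw]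
        exact commutator_mem_commutator h1 (hA ⟨n, h2, rfl⟩)
      rintro _ ⟨n, hn, rfl⟩
      rw [← c_pr n hn]
      refine ind (P := fun n => φ (pr n) ∈ ⁅H, B⁆) ?_ (fun n m hn hm => ?_) (fun i => ?_) n
      · rw [show pr 0 = 0 by decide, h0]; exact one_mem _
      · rw [pr_add, hadd]; exact mul_mem hn hm
      · obtain ⟨e1, e2, e3, e4⟩ := c_gen i
        rw [e4, hadd, hadd]
        exact mul_mem (mul_mem (k _ _ (ha ▸ h1) e1) (k _ _ (hb ▸ h2) e2)) (k _ _ h3 e3)
  have hle' : A ⊔ (zpowers a ⊔ zpowers b) ≤ Hz (s 2) :=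
    sup_le (gen _ _ aD bD uD (gen _ _ aC bC uC (le_sup_left.trans hle)))
      (sup_le ((zpowers_le).2 (three_mem tD aD a3 ta)) ((zpowers_le).2 (three_mem tD bD b3 tb)))
  let f : (Fin 5 → ZMod 3) × Fin 3 × Fin 3 → (A ⊔ (zpowers a ⊔ zpowers b) : Subgroup G) := fun x =>
    ⟨φ ![x.1 0, 2 * x.1 0, x.1 1, x.1 2, x.1 3, x.1 4] * (a ^ x.2.1.val * b ^ x.2.2.val),
      mul_mem (mem_sup_left ⟨_, by simp [ip], rfl⟩) (mem_sup_right (mul_mem
        (mem_sup_left (npow_mem_zpowers _ _)) (mem_sup_right (npow_mem_zpowers _ _))))⟩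
  have hf : Function.Injective f := by
    rintro ⟨n, i, j⟩ ⟨m, k, l⟩ h
    have h1 : φ ![n 0, 2 * n 0, n 1, n 2, n 3, n 4] * (a ^ i.val * b ^ j.val) =
      φ ![m 0, 2 * m 0, m 1, m 2, m 3, m 4] * (a ^ k.val * b ^ l.val) := congrArg Subtype.val h
    have hc : ∀ (i j : ℕ) (n x : R3), φ n * (a ^ i * b ^ j) * φ x * (φ n * (a ^ i * b ^ j))⁻¹ =
        φ (rfw (rep la i ++ rep lb j) x) := fun i j n x => by
      have := hw (rep la i ++ rep lb j) x
      rw [List.map_append, wp_append, map_rep, map_rep, wp_rep, wp_rep, ← ha, ← hb] at this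
      calc _ = φ n * (a ^ i * b ^ j * φ x * (a ^ i * b ^ j)⁻¹) * (φ n)⁻¹ := by group
        _ = _ := by rw [this, hcm, mul_inv_cancel_right]
    obtain ⟨rfl, rfl⟩ := c_inj i j k l (hinj _ _ ((hc _ _ _ _).symm.trans
      ((congrArg (fun g => g * φ (ev 3 + ev 5) * g⁻¹) h1).trans (hc _ _ _ _))))
    have h2 := hinj _ _ (mul_right_cancel h1)
    have e : n = m := by
      funext r
      fin_cases r
      exacts [congrFun h2 0, congrFun h2 2, congrFun h2 3, congrFun h2 4, congrFun h2 5]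
    rw [e]
  haveI : Fact (Nat.Prime 3) := ⟨by norm_num⟩
  obtain ⟨k, hk⟩ := IsPGroup.iff_card.1 pP
  have h8 := Nat.card_le_card_of_injective f hf
  rw [hk, show Nat.card ((Fin 5 → ZMod 3) × Fin 3 × Fin 3) = 3 ^ 7 by simp] at h8
  exact h7 ((pow_dvd_pow 3 ((Nat.pow_le_pow_iff_right (by norm_num)).1 h8)).trans
    (hk ▸ card_dvd_of_le hle'))

/-- the spider relation and the six relations of type E7 -/
theorem rule_six [Finite G] {s : ℕ → G} (S : Sys adjE PE s)
    (h3 : (wp s rT * s 9) ^ 3 = 1) (h7 : ¬ 3 ^ 7 ∣ Nat.card (Hz (s 2))) {N : Subgroup G}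
    (hN : ∀ c ∈ Cz (s 11), ∀ a ∈ N, c * a * c⁻¹ ∈ N) (hs : ∀ k ∈ [1, 2, 3, 4, 5, 6, 7, 8, 11], s k ∈ N)
    (hc : ∀ f ∈ N, (∀ k, PE k = true → f * s k = s k * f) → f = 1) :
    H58.RuleOK (cut s) H17.BmE.rels H17.BmE.iv := by
  have hr := rho_six S h3 h7
  have mem : ∀ l : List ℕ, (l.all fun k => [1, 2, 3, 4, 5, 6, 7, 8, 11].contains k) = true → wp s l ∈ N :=
    fun l h => wp_mem s fun x hx => hs x (List.contains_iff_mem.1 (List.all_eq_true.1 h x hx))
  have e1 := dl_eq S hr d1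
  have e2 := dl_eq S hr d2
  have e3 := dl_eq S hr d3
  have f1 : wp s (rep [1, 2, 3, 4, 8, 9, 5] 9) = 1 :=
    hc _ (e1 ▸ mem _ (by decide +kernel)) (two S (l := [1, 2, 3, 4, 5, 7, 8, 9]) (m := [6, 11]) e1
      (by decide +kernel) (by decide +kernel) (by decide))
  have f3 : wp s (rep [2, 3, 4, 5, 6, 7, 8] 9) = 1 :=
    hc _ (mem _ (by decide +kernel)) (two S (l := [2, 3, 4, 5, 6, 7, 8, 11]) (m := [1, 9]) e3
      (by decide +kernel) (by decide +kernel) (by decide))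
  have hg : wp s rg ∈ N := by
    rw [S.eq _ _ c_rg.2.1, wp_append, wp_append, S.wp_reverse _ (List.all_eq_true.1 (by decide)), ← mul_assoc]
    exact hN _ (mem_centralizer_singleton_iff.2 (cm_eq S c_rg.1 (by simp))) _ (mem _ (by decide))
  have f2 : wp s (rep [2, 3, 4, 8, 9, 11, 5] 9) = 1 := by
    refine hc _ ?_ (two S (l := [2, 3, 4, 5, 7, 8, 9, 11]) (m := [1, 6]) e2
      (by decide +kernel) (by decide +kernel) (by decide))
    rw [S.eq _ _ c_rg.2.2, wp_append, wp_append, wp_append, wp_append]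
    exact mul_mem (mem _ (by decide)) (mul_mem hg (mul_mem (mem _ (by decide)) (mul_mem hg (mem _ (by decide)))))
  refine ⟨rfl, fun x hx => ?_, fun r hr' => ?_, by decide +kernel⟩
  · have : ∀ x < 64, PE (H58.ivf H17.BmE.iv x) = PE x ∧ (PE x = true → H58.ivf H17.BmE.iv x = x) := by
      decide +kernel
    cases h : PE x
    · rw [cut, cut, (this x hx).1, h, cond_false, cond_false, inv_one]
    · rw [(this x hx).2 h, cut, h, cond_true, inv_eq_of_mul_eq_one_right (S.sq x h)]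
  · rw [wp_cut r (List.all_eq_true.1 c_rels.2.2 r hr')]
    rw [c_rels.1] at hr'
    rcases List.mem_append.1 hr' with m | m
    · exact S.one (List.all_eq_true.1 c_rels.2.1 r m)
    · simp only [List.mem_cons, List.not_mem_nil, or_false] at m
      rcases m with rfl | rfl | rfl | rfl | rfl | rfl | rfl | rfl
      exacts [dl_eq S hr ds, e1 ▸ f1, f3, dl_eq S hr dt, e2 ▸ f2, e3 ▸ f3, f1, f2]

end Cfsg.Agent.E6S
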