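import Cfsg.Agent.TE6.RTheta
import Cfsg.Agent.TE6.RCox

set_option autoImplicit false

namespace Cfsg.Agent.E6S

open Matrix Subgroup Cfsg.Agent.H10 Cfsg.Agent.H29 Cfsg.Agent.H29.F4 Cfsg.Agent.H22.U6 Cfsg.Agent.CO1
  Cfsg.Agent.H97 Cfsg.Agent.MON.Cox Cfsg.Agent.E62

namespace Nod

variable {G : Type*} [Group G] {z e : G} {π : G → L6} {ι : G → V0}

theorem adj_symm (x y : ℕ) : adjE x y = adjE y x := by
  unfold adjE
  congr 1
  funext p
  rw [Bool.or_comm, Bool.and_comm, Bool.and_comm (Nat.beq x p.1)]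

theorem pe_cases {x : ℕ} (h : PE x = true) : (1 ≤ x ∧ x ≤ 7) ∨ x = 8 ∨ x = 9 ∨ x = 11 := by
  simp only [PE, Bool.or_eq_true, Bool.and_eq_true, Nat.ble_eq, Nat.beq_eq] at h
  omega

theorem sys_of {s : ℕ → G} (h1 : ∀ x, PE x = true → s x * s x = 1)
    (h2 : ∀ x y, PE x = true → PE y = true → x < y → adjE x y = false → s x * s y = s y * s x)
    (h3 : ∀ x y, PE x = true → PE y = true → x < y → adjE x y = true →
      s x * s y * s x = s y * s x * s y) : Sys adjE PE s :=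
  ⟨h1, fun x y a b c d => (lt_or_gt_of_ne c).elim (fun e => h2 x y a b e d)
    fun e => (h2 y x b a e (adj_symm x y ▸ d)).symm, fun x y a b c d => (lt_or_gt_of_ne c).elim
    (fun e => h3 x y a b e d) fun e => (h3 y x b a e (adj_symm x y ▸ d)).symm⟩

theorem braid_of {a b : G} (ha : a * a = 1) (hb : b * b = 1) (h : (a * b) ^ 3 = 1) :
    a * b * a = b * a * b := by
  have e : a * b * a * (b * a * b) = 1 := by rw [← h, pow_succ, pow_two]; group
  rw [eq_inv_of_mul_eq_one_left e, _root_.mul_inv_rev, _root_.mul_inv_rev,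
    inv_eq_of_mul_eq_one_right ha, inv_eq_of_mul_eq_one_right hb, mul_assoc]

theorem sq_of (M : SD z π ι) {u : G} (h : IsConj z u) : u * u = 1 := by
  obtain ⟨g, rfl⟩ := isConj_iff.1 h
  rw [show g * z * g⁻¹ * (g * z * g⁻¹) = g * (z * z) * g⁻¹ by group, M.lx.sq, mul_one, mul_inv_cancel]

theorem ext (M : OD z e π ι) {h k : G} (hh : h ∈ Hz z ⊓ Cz e) (hk : k ∈ Hz z ⊓ Cz e) (p : π h = π k) :
    h = k :=
  mul_inv_eq_one.1 (M.cen _ (M.toSD.of_eq hh.1 hk.1 p) (mul_mem hh.2 (inv_mem hk.2)))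

theorem pi_wp (M : SD z π ι) {s : ℕ → G} {l : List ℕ} (h : ∀ k ∈ l, s k ∈ Hz z ∧ π (s k) = nt k) :
    π (wp s l) = wp nt l := by
  induction l with
  | nil => rw [wp_nil, wp_nil, M.one]
  | cons a l ih =>
    rw [wp_cons, wp_cons, M.mul _ (h a List.mem_cons_self).1 _
      (wp_mem s fun x hx => (h x (List.mem_cons_of_mem _ hx)).1), (h a List.mem_cons_self).2,
      ih fun x hx => h x (List.mem_cons_of_mem _ hx)]

theorem norm (M : SD z π ι) {h q : G} (hh : h ∈ Hz z) (hq : q ∈ Oz z) : h * q * h⁻¹ ∈ Oz z :=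
  M.lx.norm h (mem_Cz.1 (Hz_le z hh)) q hq

theorem comm (M : SD z π ι) {u q : G} (hu : u ∈ Hz z) (hq : q ∈ Oz z) :
    q * u * q⁻¹ * u⁻¹ ∈ Oz z ∧ ι (q * u * q⁻¹ * u⁻¹) = π u • ι q + ι q := by
  have a := norm M hu (inv_mem hq)
  rw [show q * u * q⁻¹ * u⁻¹ = q * (u * q⁻¹ * u⁻¹) by group]
  exact ⟨mul_mem hq a, by rw [M.add _ hq _ a, M.conj _ hu _ (inv_mem hq), M.inv' hq, add_comm]⟩

theorem pi_q (M : SD z π ι) {u q : G} (hu : u ∈ Hz z) (hq : q ∈ Oz z) : π (q * u * q⁻¹) = π u := by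
  rw [M.cj (M.le hq) hu, (M.ker q (M.le hq)).2 hq, one_mul, inv_one, mul_one]

end Nod

open Nod

theorem OD.nodes {G : Type*} [Group G] [Finite G] {z e : G} {π : G → L6} {ι : G → V0} (M : OD z e π ι) :
    ∃ s : ℕ → G, H58.RuleOK s H17.BmE.rels H17.BmE.iv ∧ s 11 = z ∧ s 9 = e ∧
      (∀ k ∈ [1, 2, 3, 4, 5, 6, 7, 8], Th z (s k) ∧ π (s k) = nt k) ∧ s 1 * s 7 = s 7 * s 1 := by
  have D := M.toSD
  have mem8 : ∀ k, 1 ≤ k → k ≤ 8 → k ∈ [1, 2, 3, 4, 5, 6, 7, 8] := fun k a b => by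
    simp only [List.mem_cons, List.not_mem_nil, or_false]; omega
  have ex : ∀ k : ℕ, ∃ t, 1 ≤ k → k ≤ 8 → Th z t ∧ Th e t ∧ π t = nt k := fun k => by
    by_cases h : 1 ≤ k ∧ k ≤ 8
    · exact (M.th _ (nt_mem k (mem8 k h.1 h.2))).imp fun t ht _ _ => ht
    · exact ⟨1, fun a b => absurd ⟨a, b⟩ h⟩
  choose t ht using ex
  have tH : ∀ k, 1 ≤ k → k ≤ 8 → t k ∈ Hz z ⊓ Cz e := fun k a b =>
    ⟨(D.th_mem (ht k a b).1).1, (ht k a b).2.1.2.1⟩
  have P8 : ∀ k, 1 ≤ k → k ≤ 8 → (Nat.ble 1 k && Nat.ble k 8) = true := fun k a b => by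
    simp only [Bool.and_eq_true, Nat.ble_eq]; exact ⟨a, b⟩
  have tc : ∀ x y, 1 ≤ x → x < y → y ≤ 8 → adjE x y = false → t x * t y = t y * t x :=
    fun x y a b c d => by
      have hx := tH x a (by omega)
      have hy := tH y (by omega) c
      refine ext M (mul_mem hx hy) (mul_mem hy hx) ?_
      rw [D.mul _ hx.1 _ hy.1, D.mul _ hy.1 _ hx.1, (ht x a (by omega)).2.2, (ht y (by omega) c).2.2]
      exact nt_sys.comm x y (P8 x a (by omega)) (P8 y (by omega) c) b.ne d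
  have tb : ∀ x y, 1 ≤ x → x < y → y ≤ 8 → adjE x y = true → t x * t y * t x = t y * t x * t y :=
    fun x y a b c d => by
      have hx := tH x a (by omega)
      have hy := tH y (by omega) c
      refine ext M (mul_mem (mul_mem hx hy) hx) (mul_mem (mul_mem hy hx) hy) ?_
      rw [D.mul _ (mul_mem hx hy).1 _ hx.1, D.mul _ (mul_mem hy hx).1 _ hy.1, D.mul _ hx.1 _ hy.1,
        D.mul _ hy.1 _ hx.1, (ht x a (by omega)).2.2, (ht y (by omega) c).2.2]
      exact nt_sys.braid x y (P8 x a (by omega)) (P8 y (by omega) c) b.ne d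
  obtain ⟨x0, hx0⟩ := w0_comm
  obtain ⟨q, hq, iq⟩ := D.onto x0
  obtain ⟨u, hu⟩ : ∃ u, u = t 8 := ⟨_, rfl⟩
  obtain ⟨u1, u2, u3⟩ := hu ▸ ht 8 (by omega) le_rfl
  have uH : u ∈ Hz z ⊓ Cz e := hu ▸ tH 8 (by omega) le_rfl
  have qC : q ∈ Cz z := Hz_le z (D.le hq)
  obtain ⟨w1, w2⟩ := comm D uH.1 hq
  rw [u3, iq, ← hx0] at w2
  obtain ⟨w, hw⟩ : ∃ w, w = q * u * q⁻¹ * u⁻¹ := ⟨_, rfl⟩
  rw [← hw] at w1 w2
  have ew : q * u * q⁻¹ = w * u := by rw [hw, inv_mul_cancel_right]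
  obtain ⟨s, s11, s9, s8, s7⟩ : ∃ s : ℕ → G, s 11 = z ∧ s 9 = e ∧ s 8 = q * u * q⁻¹ ∧
      ∀ k ≤ 7, s k = t k :=
    ⟨fun k => if k = 11 then z else if k = 9 then e else if k = 8 then q * u * q⁻¹ else t k,
      rfl, rfl, rfl, fun k hk => by
        simp only [if_neg (by omega : k ≠ 11), if_neg (by omega : k ≠ 9), if_neg (by omega : k ≠ 8)]⟩
  have sT : ∀ k, 1 ≤ k → k ≤ 8 → Th z (s k) ∧ π (s k) = nt k := fun k a b => by
    rcases b.lt_or_eq with c | rfl
    · rw [s7 k (by omega)]; exact ⟨(ht k a b).1, (ht k a b).2.2⟩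
    · rw [s8]; exact ⟨u1.cj' qC, (pi_q D uH.1 hq).trans u3⟩
  have sH : ∀ k, 1 ≤ k → k ≤ 8 → s k ∈ Hz z := fun k a b => (D.th_mem (sT k a b).1).1
  have sq : ∀ x, PE x = true → s x * s x = 1 := fun x hx => by
    rcases pe_cases hx with a | rfl | rfl | rfl
    · exact sq_of D (sT x a.1 (by omega)).1.1
    · exact sq_of D (sT 8 (by omega) le_rfl).1.1
    · rw [s9]; exact sq_of D M.icj
    · rw [s11]; exact D.lx.sq
  have S : Sys adjE PE s := by
    refine sys_of sq (fun x y hx hy c d => ?_) fun x y hx hy c d => ?_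
    · have a : 1 ≤ x := by have := pe_cases hx; omega
      rcases pe_cases hy with b | rfl | rfl | rfl
      · rw [s7 x (by omega), s7 y b.2]; exact tc x y a c (by omega) d
      · have k1 : x ∈ [1, 2, 3, 5, 6, 7] := by
          have : x ≠ 4 := fun e => absurd (e ▸ d) (by decide)
          simp only [List.mem_cons, List.not_mem_nil, or_false]; omega
        have k2 := tH x a c.le
        have k3 : t x * u * (t x)⁻¹ = u := mul_inv_eq_iff_eq_mul.2 (hu ▸ tc x 8 a c le_rfl d)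
        have k4 : t x * (w * u) * (t x)⁻¹ = t x * w * (t x)⁻¹ * u := by
          conv_rhs => rw [← k3]
          group
        rw [s7 x (by omega), s8, ew, ← mul_inv_eq_iff_eq_mul, k4]
        rcases D.uniq (norm D k2.1 w1) w1 (by
          rw [D.conj _ k2.1 _ w1, (ht x a c.le).2.2, w2, w0_fix x k1]) with k | k
        · rw [k]
        · refine absurd ?_ (D.th_not (u1.cj' qC))
          rw [ew, ← mul_assoc, ← k, ← k4, ← ew]
          exact ((u1.cj' qC).cj' (Hz_le z k2.1)).1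
      · have : x ≠ 8 := fun e => absurd (e ▸ d) (by decide)
        rw [s7 x (by omega), s9]
        exact mem_Cz.1 (tH x a (by omega)).2
      · have : x ≠ 9 := fun e => absurd (e ▸ d) (by decide)
        have := pe_cases hx
        rw [s11]
        exact mem_Cz.1 (sT x a (by omega)).1.2.1
    · have a : 1 ≤ x := by have := pe_cases hx; omega
      rcases pe_cases hy with b | rfl | rfl | rfl
      · rw [s7 x (by omega), s7 y b.2]; exact tb x y a c (by omega) d
      · obtain rfl : x = 4 := by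
          revert d
          interval_cases x <;> decide
        refine braid_of (sq 4 hx) (sq 8 hy) (D.th_three (sT 4 a c.le).1 (sT 8 (by omega) le_rfl).1 ?_)
        rw [(sT 4 a c.le).2, (sT 8 (by omega) le_rfl).2]
        exact nt_nc
      · obtain rfl : x = 8 := by
          revert d
          interval_cases x <;> decide
        refine braid_of (sq 8 hx) (sq 9 hy) ?_
        rw [s8, s9]
        refine D.th_far u1 u2 M.icj M.ne M.three hq ?_ ?_ <;> rw [u3, iq, ← hx0]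
        · exact w0_not.2
        · exact w0_not.1
      · obtain rfl : x = 9 := by
          revert d
          interval_cases x <;> decide
        refine (braid_of (sq 11 hy) (sq 9 hx) ?_).symm
        rw [s11, s9]
        exact M.three
  have gm : ∀ k ∈ gB, 1 ≤ k ∧ k ≤ 7 := by decide
  obtain ⟨g, hg⟩ : ∃ g, g = wp s gB := ⟨_, rfl⟩
  have gH : g ∈ Hz z ⊓ Cz e := hg ▸ wp_mem s fun k hk => by
    rw [s7 k (gm k hk).2]; exact tH k (gm k hk).1 ((gm k hk).2.trans (by omega))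
  have gp : π g = wp nt gB := hg ▸ pi_wp D fun k hk =>
    ⟨sH k (gm k hk).1 ((gm k hk).2.trans (by omega)), (sT k (gm k hk).1 ((gm k hk).2.trans (by omega))).2⟩
  have h3 : (wp s rT * s 9) ^ 3 = 1 := by
    have i8 : (s 8)⁻¹ = s 8 := inv_eq_of_mul_eq_one_right (sq 8 rfl)
    have e1 : wp s rT = s 8 * g * s 8 * (s 8 * g)⁻¹ := by
      rw [rT, wp_append, wp_cons, wp_append, wp_cons, wp_cons, wp_nil, S.wp_reverse gB (by decide), ← hg,
        _root_.mul_inv_rev, i8]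
      group
    have h8 := sH 8 (by omega) le_rfl
    have y1 : Th z (wp s rT) := e1 ▸ (sT 8 (by omega) le_rfl).1.cj' (Hz_le z (mul_mem h8 gH.1))
    have ug := mul_mem uH gH
    have v1 : Th z (u * g * u * (u * g)⁻¹) := u1.cj' (Hz_le z ug.1)
    have v2 : Th e (u * g * u * (u * g)⁻¹) := u2.cj' ug.2
    obtain ⟨q', hq', e2⟩ := D.th_fib v1 y1 (by
      rw [e1, D.cj ug.1 uH.1, D.cj (mul_mem h8 gH.1) h8, D.mul _ uH.1 _ gH.1, D.mul _ h8 _ gH.1,
        (sT 8 (by omega) le_rfl).2, u3])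
    have k1 := (comm D (D.th_mem v1).1 hq').2
    have ugu : u * (g * u * g⁻¹) ∈ Hz z := mul_mem uH.1 (mul_mem (mul_mem gH.1 uH.1) (inv_mem gH.1))
    have e3 : wp s rT * (u * g * u * (u * g)⁻¹)⁻¹ = w * (u * g * w * (u * g)⁻¹) *
        (u * (g * u * g⁻¹) * w * (u * (g * u * g⁻¹))⁻¹) := by
      rw [e1, _root_.mul_inv_rev (s 8), i8, s8, ew]
      calc _ = w * u * g * w * u * g⁻¹ * w * (u * u) * (g * u⁻¹ * g⁻¹ * u⁻¹) := by group
        _ = _ := by rw [sq_of D u1.1]; group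
    rw [← e2, e3, D.add _ (mul_mem w1 (norm D ug.1 w1)) _ (norm D ugu w1), D.add _ w1 _ (norm D ug.1 w1),
      D.conj _ ug.1 _ w1, D.conj _ ugu _ w1, D.mul _ uH.1 _ gH.1,
      D.mul _ uH.1 _ (mul_mem (mul_mem gH.1 uH.1) (inv_mem gH.1)), D.cj gH.1 uH.1, w2, u3, gp, mul_smul,
      add_comm, add_comm w0, ← add_assoc] at k1
    rw [e2, s9]
    exact D.th_far v1 v2 M.icj M.ne M.three hq' (k1 ▸ wT_not.2) (k1 ▸ wT_not.1)
  have R := rule_six S h3 (N := Hz z) (fun h7 => by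
      obtain ⟨π', ι', D'⟩ := D.of_isConj (sT 2 (by omega) (by omega)).1.1
      exact absurd (D'.card_H ▸ h7) (by norm_num))
    (fun c hc a ha => Hz_norm (s11 ▸ hc) ha) (fun k hk => by
      simp only [List.mem_cons, List.not_mem_nil, or_false] at hk
      by_cases e : k = 11
      · rw [e, s11]; exact D.le D.lx.mem
      · exact sH k (by omega) (by omega))
    fun f hf hc => M.cen f ((D.ker f hf).1 (cent6 fun k hk => by
      simp only [List.mem_cons, List.not_mem_nil, or_false] at hk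
      have a : 1 ≤ k := by omega
      have b : k ≤ 8 := by omega
      rw [← (sT k a b).2, Commute, SemiconjBy, ← D.mul _ hf _ (sH k a b), ← D.mul _ (sH k a b) _ hf,
        hc k (by simp only [PE, Bool.or_eq_true, Bool.and_eq_true, Nat.ble_eq]; omega)]))
      (mem_Cz.2 (s9 ▸ hc 9 rfl))
  refine ⟨cut s, R, s11, s9, fun k hk => ?_, S.comm 1 7 rfl rfl (by decide) rfl⟩
  have : cut s k = s k := by
    simp only [List.mem_cons, List.not_mem_nil, or_false] at hk
    rcases hk with rfl | rfl | rfl | rfl | rfl | rfl | rfl | rfl <;> rfl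
  rw [this]
  simp only [List.mem_cons, List.not_mem_nil, or_false] at hk
  exact sT k (by omega) (by omega)

end Cfsg.Agent.E6S
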