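import Cfsg.Agent.TE6.ROpp
import Cfsg.Agent.TE6.RNodes
import Cfsg.Agent.E62.Cls
import Cfsg.Agent.H70.Syl
import Cfsg.Agent.H21.Thompson

/-! The subgroup generated by the ten nodes contains `Hz z` and is normalised by `Cz z`. -/

set_option autoImplicit false

namespace Cfsg.Agent.E6S

open Matrix Subgroup Cfsg.Agent.H10 Cfsg.Agent.H29 Cfsg.Agent.H29.F4 Cfsg.Agent.H22.U6 Cfsg.Agent.CO1
  Cfsg.Agent.H97 Cfsg.Agent.MON.Cox Cfsg.Agent.E62

variable {G : Type*} [Group G]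

/-- conjugate to `z` in `K` -/
def InK (K : Subgroup G) (z x : G) : Prop := ∃ k ∈ K, k * z * k⁻¹ = x

/-- the subgroup generated by the nodes -/
structure KD (z e : G) (π : G → L6) (ι : G → V0) (s : ℕ → G) (K : Subgroup G) : Prop
    extends OD z e π ι where
  nd : ∀ k ∈ [1, 2, 3, 4, 5, 6, 7, 8], Th z (s k) ∧ π (s k) = nt k
  c17 : s 1 * s 7 = s 7 * s 1
  b89 : (s 8 * e) ^ 3 = 1
  lo : ∀ X : Subgroup G, z ∈ X → e ∈ X → (∀ k ∈ [1, 2, 3, 4, 5, 6, 7, 8], s k ∈ X) → K ≤ X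
  zK : z ∈ K
  eK : e ∈ K
  sK : ∀ k ∈ [1, 2, 3, 4, 5, 6, 7, 8], s k ∈ K
  cK : Nat.card K = 76532479683774853939200
  cls : ∀ x ∈ K, x * x = 1 → x = 1 ∨ InK K z x ∨ IsConj (z * s 1) x ∨ IsConj (z * s 1 * s 7) x
  fi : ∃ W : Subgroup G, W ≤ K ∧ W ≤ Cz z ∧ z ∈ W ∧ s 7 ∉ W ∧ Nat.card W = 2 * 9196830720 ∧
    ∀ N : Subgroup G, N ≤ W → z ∈ N → (∀ g ∈ W, ∀ a ∈ N, g * a * g⁻¹ ∈ N) → N = W ∨ N = zpowers z

variable [Finite G] {z e : G} {π : G → L6} {ι : G → V0} {s : ℕ → G} {K : Subgroup G}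

theorem SD.exists_kd (M : SD z π ι) {F : Type*} [Field F] [Fintype F] (hF : Fintype.card F = 4) :
    ∃ e s K, KD z e π ι s K ∧ Nonempty (K ≃* Cfsg.Lie.twistedE6 F 2) := by
  obtain ⟨e, O⟩ := M.exists_od
  obtain ⟨s, R, s11, s9, nd, c17⟩ := O.nodes
  have R' := H17.ruleOK_subEl (gens := H17.BmE.ga) R (by decide +kernel)
  have hg := H17.subEl_top s H17.BmE.ga
  have m := H58.el_mem_closure s H17.BmE.ga
  have v : ∀ k ∈ H17.BmE.ga, ((H17.subEl s H17.BmE.ga k : H58.clL s H17.BmE.ga) : G) = s k :=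
    fun k hk => if_pos hk
  have v11 := (v 11 (by decide)).trans s11
  have v1 := v 1 (by decide)
  have v7 := v 7 (by decide)
  haveI : Nontrivial (H58.clL s H17.BmE.ga) :=
    ⟨_, 1, fun h => M.lx.ne (v11.symm.trans (congrArg Subtype.val h))⟩
  obtain ⟨j⟩ := H31.E6Y.exists_iso hF R' hg
  refine ⟨e, s, _, ⟨O, nd, c17, ?_, fun X a b c => H58.clL_le fun k hk => ?_, s11 ▸ m 11 (by decide),
    s9 ▸ m 9 (by decide), fun k hk => m k (by revert k; decide),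
    (Nat.card_congr j.toEquiv).trans (H31.E6Y.card_T hF), fun x hx h2 => ?_, ?_⟩, ⟨j⟩⟩
  · have := R.hrel [8, 9, 8, 9, 8, 9] (by decide +kernel)
    simp only [List.map_cons, List.map_nil, List.prod_cons, List.prod_nil, mul_one, s9] at this
    rw [← this, pow_succ, pow_two]
    group
  · by_cases h9 : k = 9
    · rw [h9, s9]; exact b
    by_cases h11 : k = 11
    · rw [h11, s11]; exact a
    refine c k ?_
    simp only [H17.BmE.ga, List.mem_cons, List.not_mem_nil, or_false] at hk ⊢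
    omega
  · have f := (H58.clL s H17.BmE.ga).subtype
    rcases cls R' hg (x := ⟨x, hx⟩) (Subtype.ext h2) with h | h | h | h
    · exact .inl (congrArg Subtype.val h)
    · obtain ⟨k, hk⟩ := isConj_iff.1 h
      exact .inr (.inl ⟨k, k.2, v11 ▸ congrArg Subtype.val hk⟩)
    · exact .inr (.inr (.inl (v11 ▸ v1 ▸ (H58.clL s H17.BmE.ga).subtype.map_isConj h)))
    · exact .inr (.inr (.inr (v11 ▸ v1 ▸ v7 ▸ (H58.clL s H17.BmE.ga).subtype.map_isConj h)))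
  · obtain ⟨W, w1, w2, w3, w4, w5⟩ := fi R' hg
    have i := (H58.clL s H17.BmE.ga).subtype_injective
    refine ⟨W.map (H58.clL s H17.BmE.ga).subtype, map_subtype_le W, ?_, ⟨_, w2, v11⟩,
      fun h => w3 ((mem_map_iff_mem i).1 (by rw [← v7] at h; exact h)),
      (H21.card_map_of_injective' W i).trans w4, fun N n1 n2 n3 => ?_⟩
    · rintro _ ⟨x, hx, rfl⟩
      exact mem_Cz.2 (v11 ▸ congrArg Subtype.val (mem_Cz.1 (w1 hx)))
    · have n4 := n1.trans (map_subtype_le W)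
      rcases w5 (N.subgroupOf _) (fun x hx => (mem_map_iff_mem i).1 (n1 hx))
        (mem_subgroupOf.2 (v11.symm ▸ n2)) (fun g hg a ha => n3 _ ⟨g, hg, rfl⟩ _ ha) with h | h
      · exact .inl (by rw [← h, map_subgroupOf_eq_of_le n4])
      · exact .inr (by rw [← map_subgroupOf_eq_of_le n4, h, MonoidHom.map_zpowers, ← v11]; rfl)

namespace KD

variable (M : KD z e π ι s K)
include M

theorem H_le : Hz z ≤ K := by
  have D := M.toSD
  obtain ⟨W, w1, w2, w3, w4, w5, w6⟩ := M.fi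
  have cz : Nat.card (zpowers z) = 2 := by rw [Nat.card_zpowers, H15.orderOf_two D.lx.ne D.lx.sq]
  have nQ : ∀ g ∈ Cz z, ∀ a ∈ Oz z, g * a * g⁻¹ ∈ Oz z := fun g hg => D.lx.norm g (mem_Cz.1 hg)
  have a1 : W ≤ Hz z := by
    have h := D.card_six w2
    rcases w6 (W ⊓ Hz z) inf_le_left ⟨w3, D.le D.lx.mem⟩ (fun g hg a ha =>
      ⟨W.mul_mem (W.mul_mem hg ha.1) (W.inv_mem hg), Hz_norm (w2 hg) ha.2⟩) with k | k
    · exact inf_eq_left.1 k
    · rw [k, cz, w5] at h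
      exact absurd h (by norm_num)
  have a2 : W ⊓ Oz z = zpowers z := by
    refine (w6 _ inf_le_left ⟨w3, D.lx.mem⟩ fun g hg a ha =>
      ⟨W.mul_mem (W.mul_mem hg ha.1) (W.inv_mem hg), nQ g (w2 hg) a ha.2⟩).resolve_left fun h => ?_
    have := card_le_of_le (inf_eq_left.1 h)
    rw [w5, D.card] at this
    omega
  have n1 : W ≤ normalizer (Oz z : Set G) := w2.trans (le_normalizer_iff.2 nQ)
  have a3 : W ⊔ Oz z = Hz z := by
    refine eq_of_le_of_card_ge (sup_le a1 D.le) ?_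
    have := H21.card_sup_mul_card_inf' n1
    rw [a2, cz, w5, D.card] at this
    rw [D.card_H]
    omega
  have a4 : ∀ h ∈ Hz z, ∃ w ∈ W, ∃ q ∈ Oz z, w * q = h := fun h hh =>
    (H70.mem_sup_of_norm n1).1 (a3 ▸ hh)
  let X : AddSubgroup V0 :=
    { carrier := {x | ∃ q ∈ Oz z, q ∈ K ∧ ι q = x}
      add_mem' := by
        rintro _ _ ⟨x, x1, x2, rfl⟩ ⟨y, y1, y2, rfl⟩
        exact ⟨_, mul_mem x1 y1, mul_mem x2 y2, D.add _ x1 _ y1⟩
      zero_mem' := ⟨1, one_mem _, one_mem _, (D.zero 1 (one_mem _)).2 (.inl rfl)⟩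
      neg_mem' := by
        rintro _ ⟨x, x1, x2, rfl⟩
        exact ⟨x, x1, x2, eq_neg_of_add_eq_zero_left (add_self _)⟩ }
  have x1 : ∀ l : L6, ∀ x ∈ X, l • x ∈ X := by
    rintro l _ ⟨x, x1, x2, rfl⟩
    obtain ⟨h, hh, rfl⟩ := D.surj l
    obtain ⟨w, hw, q, hq, rfl⟩ := a4 h hh
    refine ⟨_, nQ w (w2 hw) x x1, mul_mem (mul_mem (w1 hw) x2) (inv_mem (w1 hw)), ?_⟩
    rw [D.conj _ (a1 hw) _ x1, D.mul _ (a1 hw) _ (D.le hq), (D.ker q (D.le hq)).2 hq, mul_one]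
  obtain ⟨w, hw, q, hq, e7⟩ := a4 _ (D.th_mem (M.nd 7 (by decide)).1).1
  have x2 : v0 ∈ X := v0_mem (fun k => x1 _) ⟨q, hq, (K.mul_mem_cancel_left (w1 hw)).1
    (e7 ▸ M.sK 7 (by decide)), rfl⟩ fun h => w4 (e7 ▸ mul_mem hw (by
      rcases (D.zero q hq).1 h with k | k <;> rw [k]
      · exact one_mem _
      · exact w3))
  have x3 : X = ⊤ := span_Pl fun p ⟨g, hg⟩ => hg ▸ x1 g _ x2
  rw [← a3]
  refine sup_le w1 fun q hq => ?_
  obtain ⟨r, r1, r2, r3⟩ := x3.ge (AddSubgroup.mem_top (ι q))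
  rcases D.uniq hq r1 r3.symm with k | k <;> rw [k]
  · exact r2
  · exact mul_mem M.zK r2

omit M [Finite G] in
theorem InK.cj {x k : G} (h : InK K z x) (hk : k ∈ K) : InK K z (k * x * k⁻¹) := by
  obtain ⟨l, hl, rfl⟩ := h
  exact ⟨k * l, mul_mem hk hl, by group⟩

omit M [Finite G] in
theorem conj_of_three {a b : G} (ha : a * a = 1) (hb : b * b = 1) (h : (a * b) ^ 3 = 1) :
    a * b * a * (a * b)⁻¹ = b := by
  rw [Nod.braid_of ha hb h]; group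

theorem th_in {u : G} (h : Th z u) : InK K z u := by
  have D := M.toSD
  obtain ⟨t8, p8⟩ := M.nd 8 (by decide)
  have k8 := M.sK 8 (by decide)
  have ee := Nod.sq_of D M.icj
  have a1 : InK K z e := ⟨_, mul_mem M.zK M.eK, conj_of_three D.lx.sq ee M.three⟩
  have a2 : InK K z (s 8) := by
    have := InK.cj a1 (inv_mem (mul_mem k8 M.eK))
    nth_rewrite 2 [← conj_of_three (Nod.sq_of D t8.1) ee M.b89] at this
    rwa [show (s 8 * e)⁻¹ * (s 8 * e * s 8 * (s 8 * e)⁻¹) * (s 8 * e)⁻¹⁻¹ = s 8 by group] at this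
  obtain ⟨l, hl⟩ := isConj_iff.1 ((isConj_E6 (D.th_mem t8).2).symm.trans (isConj_E6 (D.th_mem h).2))
  obtain ⟨k, hk, rfl⟩ := D.surj l
  obtain ⟨q, hq, rfl⟩ := D.th_fib (t8.cj' (Hz_le z hk)) h ((D.cj hk (D.th_mem t8).1).trans hl)
  exact InK.cj (InK.cj a2 (M.H_le hk)) (M.H_le (D.le hq))

theorem Oz_le {x : G} (h : InK K z x) : Oz x ≤ K := by
  obtain ⟨k, hk, rfl⟩ := h
  intro q hq
  have := M.H_le (M.le ((mem_Oz_conj k).1 (show k * (k⁻¹ * q * k) * k⁻¹ ∈ _ by simpa [mul_assoc] using hq)))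
  simpa [mul_assoc] using mul_mem (mul_mem hk this) (inv_mem hk)

theorem nb_in {a : G} (h : IsConj z a) (ha : a ∈ Oz z) (ne : a ≠ z) : InK K z a := by
  have D := M.toSD
  obtain ⟨t, pt⟩ := M.nd 1 (by decide)
  obtain ⟨p, p1, -, -, -, ⟨x, hx⟩, -⟩ := line17
  obtain ⟨f, f1, f2, f3⟩ := D.th_F t x
  obtain ⟨q, hq, rfl⟩ := D.onto x
  have tH := (D.th_mem t).1
  obtain ⟨c1, c2⟩ := Nod.comm D tH hq
  obtain ⟨_, _, U⟩ := D.of_isConj t.1
  have fc : IsConj z f := D.isConj_of_Pl f1 (by rw [f3, pt, ← hx]; exact p1)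
  have f0 : f ≠ 1 := fun k => D.lx.ne (isConj_one_left.1 (k ▸ fc))
  have tq := t.cj' (Hz_le z (D.le hq))
  have e1 : q * s 1 * q⁻¹ = f * s 1 := by
    rcases D.uniq f1 c1 (f3.trans c2.symm) with k | k
    · rw [k, inv_mul_cancel_right]
    · refine absurd ?_ (D.th_not tq)
      obtain ⟨b, -, hb⟩ := U.lx.exists_conj f2 f0 fun k => t.2.2.1 (k ▸ f1)
      rw [show z * (q * s 1 * q⁻¹) = f * s 1 by rw [k]; group, U.lx.cen f f2, ← hb]
      exact fc.trans (Opp.icj b f)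
  obtain ⟨k, hk, e2⟩ := M.th_in t
  have a1 : k⁻¹ * (f * s 1) * k⁻¹⁻¹ ∈ Oz z :=
    Opp.mem_cj k⁻¹ (mul_mem f2 U.lx.mem) (by rw [← e2]; group)
  have a2 := InK.cj (e1 ▸ M.th_in tq) (inv_mem hk)
  obtain ⟨l, hl, rfl⟩ := D.trans (let ⟨l, _, e⟩ := a2; isConj_iff.2 ⟨l, e⟩) a1 (fun e3 => f0 (by
    have : f * s 1 = k * z * k⁻¹ := by rw [← e3]; group
    rw [e2] at this
    exact mul_eq_right.1 this)) h ha ne
  exact InK.cj a2 (M.H_le hl)

theorem le_of {X : Subgroup G} (h1 : Hz z ≤ X) (h2 : ∀ a, IsConj z a → a ∈ Oz z → a ≠ z → Oz a ≤ X) :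
    K ≤ X := by
  have D := M.toSD
  refine M.lo X (h1 (D.le D.lx.mem)) ?_ fun k hk => h1 (D.th_mem (M.nd k hk).1).1
  obtain ⟨a, b, a1, a2, a3, b1, b2, b3, h⟩ := M.gen
  obtain ⟨_, _, A⟩ := D.of_isConj a1
  obtain ⟨q, hq, e1⟩ := D.lx.exists_conj a2 A.lx.ne a3
  obtain ⟨r, hr, e2⟩ := A.lx.exists_conj (D.sym a1 a2 a3) D.lx.ne a3.symm
  have x1 : r⁻¹ * q ∈ X := mul_mem (inv_mem (h2 a a1 a2 a3 hr)) (h1 (D.le hq))
  have e3 : r⁻¹ * q * a * (r⁻¹ * q)⁻¹ = z := by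
    calc _ = r⁻¹ * (q * a * q⁻¹) * r := by group
      _ = z := by rw [e1, ← D.lx.cen a a2, ← e2]; group
  refine sup_le (h2 a a1 a2 a3) (fun y hy => ?_) h
  have := h2 _ (b1.trans (Opp.icj (r⁻¹ * q) b)) (Opp.mem_cj _ b2 e3)
    (fun k => b3 (mul_left_cancel (mul_right_cancel (k.trans e3.symm)))) (Opp.mem_cj _ hy rfl)
  exact (X.mul_mem_cancel_left x1).1 ((X.mul_mem_cancel_right (inv_mem x1)).1 this)

theorem norm : Cz z ≤ normalizer (K : Set G) := by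
  refine le_normalizer_iff.2 fun c hc k hk => ?_
  refine M.le_of (X := K.comap (MulAut.conj c).toMonoidHom) (fun h hh => M.H_le (Hz_norm hc hh))
    (fun a a1 a2 a3 y hy => M.Oz_le (M.nb_in (a1.trans (Opp.icj c a))
      (Opp.mem_cj c a2 (conj_eq_of_Cz hc)) fun k => a3 (mul_left_cancel (mul_right_cancel
        (k.trans (conj_eq_of_Cz hc).symm)))) (Opp.mem_cj c hy rfl)) hk

end KD

end Cfsg.Agent.E6S
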