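import Cfsg.Agent.TE6.ROpp
import Cfsg.Agent.TE6.RNodes
import Cfsg.Agent.E62.Cls
import Cfsg.Agent.TE6.RMainA
import Cfsg.Agent.S5426
import Cfsg.Agent.S2901

set_option autoImplicit false

namespace Cfsg.Agent.E6S

open Matrix Subgroup Cfsg.Agent.H10 Cfsg.Agent.H29 Cfsg.Agent.H29.F4 Cfsg.Agent.H22.U6 Cfsg.Agent.CO1
  Cfsg.Agent.H97 Cfsg.Agent.MON.Cox Cfsg.Agent.E62

namespace KD

variable {G : Type*} [Group G] [Finite G] {z e : G} {π : G → L6} {ι : G → V0} {s : ℕ → G}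
  {K : Subgroup G} (M : KD z e π ι s K)
include M

theorem ex17 : ∃ x ∈ Oz z, x ∈ Oz (s 1) ∧ x ∈ Oz (s 7) ∧ ι x ∈ Pl := by
  have D := M.toSD
  obtain ⟨t1, p1⟩ := M.nd 1 (by decide)
  obtain ⟨t7, p7⟩ := M.nd 7 (by decide)
  obtain ⟨p, hp, p', hp', hs, ⟨x, hx⟩, ⟨x', hx'⟩, ⟨y, hy⟩, y', hy'⟩ := line17
  obtain ⟨f, f1, f2, f3⟩ := D.th_F t1 x
  obtain ⟨f', f1', f2', f3'⟩ := D.th_F t1 x'
  obtain ⟨g, g1, g2, g3⟩ := D.th_F t7 y
  obtain ⟨g', g1', g2', g3'⟩ := D.th_F t7 y'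
  rw [p1, ← hx] at f3
  rw [p1, ← hx'] at f3'
  rw [p7, ← hy] at g3
  rw [p7, ← hy'] at g3'
  rcases D.uniq g1 f1 (g3.trans f3.symm) with k | k
  · exact ⟨f, f1, f2, k ▸ g2, f3 ▸ hp⟩
  rcases D.uniq g1' f1' (g3'.trans f3'.symm) with k' | k'
  · exact ⟨f', f1', f2', k' ▸ g2', f3' ▸ hp'⟩
  refine ⟨f * f', mul_mem f1 f1', mul_mem f2 f2', ?_, by rw [D.add _ f1 _ f1', f3, f3']; exact hs⟩
  have := mul_mem g2 g2'
  rwa [k, k', ← D.lx.cen f f1, mul_assoc, ← mul_assoc z, D.lx.sq, one_mul] at this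

theorem not17 : ¬ IsConj z (z * s 1 * s 7) := fun h => by
  have D := M.toSD
  obtain ⟨t1, p1⟩ := M.nd 1 (by decide)
  obtain ⟨t7, p7⟩ := M.nd 7 (by decide)
  obtain ⟨x, x1, x2, x3, x4⟩ := M.ex17
  have cx := D.isConj_of_Pl x1 x4
  obtain ⟨_, _, A⟩ := D.of_isConj t1.1
  obtain ⟨_, _, B⟩ := D.of_isConj t7.1
  obtain ⟨_, _, X⟩ := D.of_isConj cx
  have h1 := D.th_mem t1
  have h7 := D.th_mem t7
  have zH := D.le D.lx.mem
  have e : π (z * s 1 * s 7) = π (s 1) * π (s 7) := by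
    rw [mul_assoc, Opp.pi_q D (mul_mem h1.1 h7.1) D.lx.mem, D.mul _ h1.1 _ h7.1]
  have y1 : z * s 1 * s 7 ∈ Oz x := mul_mem (mul_mem
    (D.sym cx x1 fun k => zero_not_Pl ((D.zero x x1).2 (.inr k) ▸ x4))
    (A.sym (t1.1.symm.trans cx) x2 fun k => t1.2.2.1 (k ▸ x1)))
    (B.sym (t7.1.symm.trans cx) x3 fun k => t7.2.2.1 (k ▸ x1))
  have y2 := mul_mem (mul_mem zH h1.1) h7.1
  have y3 : z * s 1 * s 7 ∉ Oz z := fun k => nt_ne (by
    have := (D.ker _ y2).2 k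
    rw [e, p1, p7] at this
    exact (eq_inv_of_mul_eq_one_left this).trans (inv_eq_of_mul_eq_one_right (tv_sq _)))
  refine mul_not_E6 h1.2 h7.2 (p1 ▸ p7 ▸ nt_ne) ?_ (e ▸ (D.th_mem ⟨h, Hz_le z y2, y3, x, cx, x1,
    X.sym (cx.symm.trans h) y1 fun k => y3 (k ▸ x1)⟩).2)
  rw [Commute, SemiconjBy, ← D.mul _ h1.1 _ h7.1, ← D.mul _ h7.1 _ h1.1, M.c17]

theorem d_in {x : G} (hx : x ∈ K) (h : IsConj z x) : InK K z x := by
  rcases M.cls x hx (Nod.sq_of M.toSD h) with k | k | k | k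
  · exact absurd (isConj_one_left.1 (k ▸ h)) M.lx.ne
  · exact k
  · exact absurd (h.trans k.symm) (M.toSD.th_not (M.nd 1 (by decide)).1)
  · exact absurd (h.trans k.symm) M.not17

theorem mem_of_C {x : G} (hx : x ∈ Cz z) (h : IsConj z x) : x ∈ K := by
  have D := M.toSD
  by_cases xH : x ∈ Hz z
  · exact M.H_le xH
  obtain ⟨_, _, X⟩ := D.of_isConj h
  obtain ⟨a, a1, a2, a3, a4⟩ := X.fix_nb (Cz_symm hx) D.lx.sq
  have a0 : a ≠ 1 := fun k => X.lx.ne (isConj_one_left.1 (k ▸ a1))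
  have key : ∀ b, IsConj x b → b ∈ Oz x → b ≠ x → b ∈ Hz z → x ∈ K := fun b b1 b2 b3 b4 =>
    M.Oz_le (M.d_in (M.H_le b4) (h.trans b1)) (X.sym b1 b2 b3)
  by_cases aH : a ∈ Hz z
  · exact key a a1 a2 a3 aH
  obtain ⟨b, -, hb⟩ := X.lx.exists_conj a2 a0 a3
  exact key _ (hb ▸ a1.trans (Opp.icj b a)) (mul_mem X.lx.mem a2) (fun k => a0 (mul_eq_left.1 k))
    (D.idx2 (A := Oz x ⊓ Cz z) inf_le_right ((H8.lx_isPGroup (H15.ex_of_lx X.lx)).to_le inf_le_left)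
      ⟨X.lx.mem, hx⟩ ⟨a2, a4⟩ xH aH)

theorem sup_norm : K ⊔ Cz z ≤ normalizer (K : Set G) := sup_le le_normalizer M.norm

theorem card_sup : Nat.card ↥(K ⊔ Cz z) ∣ Nat.card (Cz z) * 3968055 := by
  have := H21.card_sup_mul_card_inf' M.norm
  obtain ⟨m, hm⟩ := card_dvd_of_le (le_inf (Hz_le z) M.H_le)
  rw [sup_comm, hm, M.toSD.card_H, M.cK, mul_left_comm] at this
  exact ⟨m, by omega⟩

theorem mem_of_sup {x : G} (hx : x ∈ K ⊔ Cz z) (h : IsConj z x) : x ∈ K := by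
  obtain ⟨T, hT⟩ := H92.exists_sylIn 2 (Cz z)
  have a : (Cz z).relIndex (K ⊔ Cz z) ∣ 3968055 := by
    have := M.card_sup
    rw [← H21.card_inf_mul_relIndex (Cz z) (K ⊔ Cz z), inf_eq_left.2 le_sup_right] at this
    exact Nat.dvd_of_mul_dvd_mul_left Nat.card_pos this
  have hT' : H92.SylIn 2 T (K ⊔ Cz z) := H92.sylIn_of_not_dvd_relIndex (hT.le.trans le_sup_right)
    hT.pgroup fun k => by
      rw [← relIndex_mul_relIndex T (Cz z) _ hT.le le_sup_right] at k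
      exact (Nat.prime_two.dvd_mul.1 k).elim hT.not_dvd_relIndex fun k => absurd (k.trans a) (by norm_num)
  have x2 := Nod.sq_of M.toSD h
  obtain ⟨g, hg, k⟩ := hT'.exists_conj (zpowers_le.2 hx) (H70.isPGroup_iff_mem.2 fun y hy => ⟨1, by
    rcases (H15.mem_zpowers_two x2).1 hy with rfl | rfl
    · exact one_pow _
    · rw [pow_one, pow_two, x2]⟩)
  have := H70.conj_mem_of_mem_norm (inv_mem (M.sup_norm hg))
    (M.mem_of_C (hT.le (k x (mem_zpowers x))) (h.trans (Opp.icj g x)))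
  simpa [mul_assoc] using this

omit [Finite G] in
theorem not_two {S : Subgroup G} (hS : IsPGroup 2 S) (h1 : z ∈ S) (h2 : e ∈ S) : False := by
  obtain ⟨n, hn⟩ := H70.isPGroup_iff_mem.1 hS _ (mul_mem h1 h2)
  have := (pow_eq_one_iff_of_coprime (a := z * e) (m := 3) (n := 2 ^ n)
    (Nat.Coprime.pow_right n (by norm_num))).1 ⟨M.three, hn⟩
  exact M.ne (by rw [eq_inv_of_mul_eq_one_right this, M.lx.inv_eq])

theorem not_alt {P : Type*} [Group P] {m : ℕ} (h4 : 4 ≤ m) (j : P ≃* alternatingGroup (Fin m))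
    (h1 : Nat.card K ∣ Nat.card P) (h2 : Nat.card P ∣ Nat.card ↥(K ⊔ Cz z)) : False := by
  haveI : Nontrivial (Fin m) := Fin.nontrivial_iff_two_le.2 (by omega)
  have a := two_mul_nat_card_alternatingGroup (α := Fin m)
  rw [Nat.card_perm, Nat.card_fin, ← Nat.card_congr j.toEquiv] at a
  rw [M.cK] at h1
  replace h2 := h2.trans M.card_sup
  by_cases h : 23 ≤ m
  · have b := (Nat.dvd_factorial (by norm_num) h).trans (a ▸ Nat.mul_dvd_mul_left 2
      (h2.trans (Nat.mul_dvd_mul_right M.toSD.card_C _)))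
    exact absurd b (by norm_num)
  · have b := (h1.trans (Dvd.intro_left 2 a)).trans (Nat.factorial_dvd_factorial (by omega : m ≤ 22))
    exact absurd b (by norm_num [Nat.factorial])

theorem eq_of_simple {N : Subgroup G} [IsSimpleGroup N] (hN : ¬ IsMulCommutative N) (hK : K ≤ N) :
    N = K := by
  have D := M.toSD
  suffices h : N ≤ K ⊔ Cz z by
    refine le_antisymm (subgroupOf_eq_top.1 ((((normal_subgroupOf_iff_le_normalizer hK).2
      (h.trans M.sup_norm)).eq_bot_or_eq_top).resolve_left fun k => D.lx.ne ?_)) hK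
    exact congrArg Subtype.val (mem_bot.1 (k.le (show (⟨z, hK M.zK⟩ : N) ∈ K.subgroupOf N from M.zK)))
  by_contra hn
  have QN : Oz z ≤ N := (D.le.trans M.H_le).trans hK
  obtain ⟨S, hS⟩ := (H70.isPGroup_subgroupOf (L := N) (H8.lx_isPGroup (H15.ex_of_lx D.lx))).exists_le_sylow
  rcases S2901.result hN ((K ⊔ Cz z).subgroupOf N) (mt subgroupOf_eq_top.1 hn) ⟨z, hK M.zK⟩
    (mem_sup_left M.zK : z ∈ K ⊔ Cz z)
    ⟨H15.orderOf_two (fun k => D.lx.ne (congrArg Subtype.val k)) (Subtype.ext D.lx.sq), S,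
      hS D.lx.mem, fun x hx => Subtype.ext (H8.lx_norm_cent D.lx (S.isPGroup'.map N.subtype)
        (fun q hq => ⟨⟨q, QN hq⟩, hS hq, rfl⟩) (le_normalizer ⟨x, hx, rfl⟩))⟩
    (fun c hc => (mem_sup_right (mem_Cz.2 (congrArg Subtype.val (mem_Cz.1 hc))) : (c : G) ∈ K ⊔ Cz z))
    (fun g hg => by
      obtain ⟨k, hk, ek⟩ := M.d_in (M.mem_of_sup hg (Opp.icj (g : G) z)) (Opp.icj (g : G) z)
      exact ⟨⟨k, hK hk⟩, (mem_sup_left hk : k ∈ K ⊔ Cz z), Subtype.ext ek⟩) with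
    ⟨-, T, hT⟩ | ⟨n, h5, -, ⟨j⟩⟩
  · have key : ∀ x (hx : x ∈ K), x * x = 1 → x ∈ (T : Subgroup N).map N.subtype := fun x hx h2 => by
      have a : (⟨x, hK hx⟩ : N) * ⟨x, hK hx⟩ = 1 := Subtype.ext h2
      refine ⟨⟨x, hK hx⟩, H70.le_sylIn_of_norm' (H92.sylIn_top T) le_top ?_ ?_ (mem_zpowers _), rfl⟩
      · exact H70.isPGroup_iff_mem.2 fun y hy => ⟨1, by
          rcases (H15.mem_zpowers_two a).1 hy with rfl | rfl
          · exact one_pow _
          · rw [pow_one, pow_two, a]⟩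
      · exact zpowers_le.2 (hT ▸ (mem_sup_left hx : x ∈ K ⊔ Cz z))
    exact M.not_two (T.isPGroup'.map N.subtype) (key z M.zK D.lx.sq) (key e M.eK (Nod.sq_of D M.icj))
  · refine M.not_alt (by omega) j ?_ ?_
    · rw [← H21.card_subgroupOf_of_le hK]
      exact card_dvd_of_le (subgroupOf_mono N le_sup_left)
    · rw [← H21.card_map_of_injective' _ N.subtype_injective]
      exact card_dvd_of_le (by rw [subgroupOf_map_subtype]; exact inf_le_left)

omit [Finite G] in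
theorem le_ncl : K ≤ normalClosure ({z} : Set G) := by
  have mem : ∀ x, IsConj z x → x ∈ normalClosure ({z} : Set G) := fun x hx => by
    obtain ⟨c, rfl⟩ := isConj_iff.1 hx
    exact normalClosure_normal.conj_mem z (subset_normalClosure (Set.mem_singleton z)) c
  exact M.lo _ (mem z (IsConj.refl z)) (mem e M.icj) fun k hk => mem (s k) (M.nd k hk).1.1

omit [Finite G] in
theorem not_comm : ¬ IsMulCommutative (normalClosure ({z} : Set G)) := fun h => by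
  have c : z * e = e * z :=
    congrArg Subtype.val (h.is_comm.comm ⟨z, M.le_ncl M.zK⟩ ⟨e, M.le_ncl M.eK⟩)
  have a := M.three
  rw [Commute.mul_pow c, pow_succ, pow_two, M.lx.sq, pow_succ, pow_two, Nod.sq_of M.toSD M.icj, one_mul,
    one_mul] at a
  exact M.ne (by rw [eq_inv_of_mul_eq_one_right a, M.lx.inv_eq])

theorem simple : normalClosure ({z} : Set G) = Cfsg.generalizedFittingSubgroup G ∧
    IsSimpleGroup (normalClosure ({z} : Set G)) := by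
  have ex := H15.ex_of_lx M.lx
  obtain ⟨a, a1, a2, a3⟩ := M.nw
  obtain ⟨g, rfl⟩ := isConj_iff.1 a1
  rcases S5426.result (Oz z) (H8.isLarge_of_lx M.lx (ex.isExtraspecial (by rw [M.card]; norm_num))
    (H8.lx_large_of_conj M.lx a2 a3)) z (H8.ex_center_eq ex) _ rfl with h | h | h | h
  · exact absurd (mul_inv_eq_iff_eq_mul.2 (H8.ex_norm_cent ex (by rw [normalizer_eq_top]; trivial))) a3
  · exact absurd h.1 M.not_comm
  · exact ⟨h.1, h.2.1⟩
  · obtain ⟨-, L, u, -, -, -, -, -, -, z₁, -, -, -, k⟩ := h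
    exact absurd rfl k

end KD

/-- the normal subgroup of type `²E₆(2)` -/
theorem SD.main {G : Type*} [Group G] [Finite G] {z : G} {π : G → L6} {ι : G → V0} (M : SD z π ι)
    {F : Type*} [Field F] [Fintype F] (hF : Fintype.card F = 4) :
    Nonempty (Cfsg.generalizedFittingSubgroup G ≃* Cfsg.Lie.twistedE6 F 2) ∧
      Hz z ≤ Cfsg.generalizedFittingSubgroup G ∧ Cfsg.generalizedFittingSubgroup G ⊔ Cz z = ⊤ ∧
      IsSimpleGroup (Cfsg.generalizedFittingSubgroup G) ∧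
      ¬ IsMulCommutative (Cfsg.generalizedFittingSubgroup G) := by
  obtain ⟨e, s, K, D, j⟩ := M.exists_kd hF
  obtain ⟨h1, h2⟩ := D.simple
  have k := D.eq_of_simple D.not_comm D.le_ncl
  have h3 := D.not_comm
  rw [← h1]
  refine ⟨k.symm ▸ j, k.symm ▸ D.H_le, k.symm ▸ eq_top_iff.2 fun c _ => ?_, h2, h3⟩
  obtain ⟨n, hn, e1⟩ := H8.lx_frattini M.lx ((M.le.trans D.H_le).trans D.le_ncl) c
  rw [k] at hn
  exact ((K ⊔ Cz z).mul_mem_cancel_left (mem_sup_left hn)).1 (mem_sup_right (mem_Cz.2 e1))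

end Cfsg.Agent.E6S
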