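import Cfsg.Agent.TE6.Defs
import Cfsg.Agent.F3.P
import Cfsg.Agent.F3.I1

set_option autoImplicit false
set_option linter.unusedVariables false

namespace Cfsg.Agent.TE6

open Subgroup H49 T3.Fr2 F3

variable {G : Type*} [Group G] [Finite G] {z : G} {Q R : Subgroup G} {Qs : Fin 3 → Subgroup G}
  {r : Fin 3 → G}

/-- notes/TE6.md, section BasA -/
theorem perp_card (h : E1 z Q) {X Y : Subgroup G} (hX : X ≤ Q) (hY : Y ≤ Q) (c : Y ≤ 𝒞(X)) :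
    Nat.card X * Nat.card Y ≤ Nat.card ↥(X ⊓ zpowers z) * Nat.card Q := by
  classical
  have := Fintype.ofFinite G
  have cd : ∀ Y : Subgroup G, Nat.card Y = (Finset.univ.filter (· ∈ Y)).card := fun Y => by
    rw [Nat.card_eq_fintype_card, Fintype.card_subtype]
  have sm : ∀ (Y W : Subgroup G) (s t : ℕ), ∑ y ∈ Finset.univ.filter (· ∈ Y), (s + if y ∈ W then t else 0) =
      Nat.card Y * s + Nat.card ↥(Y ⊓ W) * t := fun Y W s t => by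
    rw [Finset.sum_add_distrib, Finset.sum_const, ← Finset.sum_filter, Finset.sum_const,
      Finset.filter_filter, cd, cd]
    simp only [smul_eq_mul, mem_inf]
  have cn : ∀ (Y : Subgroup G) (x : G), ∑ y ∈ Finset.univ.filter (· ∈ Y), (if y * x = x * y then 1 else 0) =
      Nat.card ↥(Y ⊓ 𝒞[x]) := fun Y x => by
    rw [← Finset.card_filter, Finset.filter_filter, cd]
    simp only [mem_inf, mem_cent1]
  have e : ∑ q ∈ Finset.univ.filter (· ∈ Q), Nat.card ↥(X ⊓ 𝒞[q]) =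
      ∑ x ∈ Finset.univ.filter (· ∈ X), Nat.card ↥(Q ⊓ 𝒞[x]) := by
    simp only [← cn]
    rw [Finset.sum_comm]
    simp only [eq_comm]
  have h1 : Nat.card Q * Nat.card X + Nat.card ↥(Q ⊓ Y) * (2 * Nat.card X) ≤
      3 * ∑ q ∈ Finset.univ.filter (· ∈ Q), Nat.card ↥(X ⊓ 𝒞[q]) := by
    rw [← sm, Finset.mul_sum]
    refine Finset.sum_le_sum fun q hq => ?_
    split_ifs with k
    · rw [inf_eq_left.2 ((cent_comm.1 c).trans (cent_le_cent1 k))]; omega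
    · simpa using h.card_le_cent hX (by simpa using hq)
  have h2 : 3 * ∑ x ∈ Finset.univ.filter (· ∈ X), Nat.card ↥(Q ⊓ 𝒞[x]) ≤
      Nat.card X * Nat.card Q + Nat.card ↥(X ⊓ zpowers z) * (2 * Nat.card Q) := by
    rw [← sm, Finset.mul_sum]
    refine Finset.sum_le_sum fun x hx => ?_
    have hx' : x ∈ Q := hX (by simpa using hx)
    have l := card_le_of_le (inf_le_left : Q ⊓ 𝒞[x] ≤ Q)
    split_ifs with k
    · omega
    · have lt : Nat.card ↥(Q ⊓ 𝒞[x]) < Nat.card Q := card_lt_of_lt (lt_of_le_of_ne inf_le_left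
        fun e => k (h.cen x hx' fun w hw => (mem_cent1.1 (inf_eq_left.1 e hw)).symm))
      have : Fact (Nat.Prime 3) := ⟨Nat.prime_three⟩
      obtain ⟨s, hs⟩ := (h.isP.to_le (inf_le_left : Q ⊓ 𝒞[x] ≤ Q)).exists_card_eq
      obtain ⟨t, ht⟩ := h.isP.exists_card_eq
      rw [hs, ht] at lt ⊢
      rw [add_zero, ← pow_succ']
      exact Nat.pow_le_pow_right (by decide) ((Nat.pow_lt_pow_iff_right (by decide)).1 lt)
  rw [inf_eq_right.2 hY, e] at h1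
  nlinarith

theorem BasA.tvQ (h : B2 z Q Qs r R) {q : G} (hq : q ∈ Q) (i : Fin 3) : q ∈ W1.TvS z (Qs i) :=
  ⟨h.Qc hq, fun u hu => h.comm q hq u (h.le i hu)⟩

/-- notes/TE6.md, section BasA -/
theorem tr_tv (h : B2 z Q Qs r R) {s g : G} (hs : s ∈ 𝒞[z]) (sT : Tr Qs s) (hg : g ∈ 𝒞[z]) (bg : Ba Qs g)
    (c : s * g * s⁻¹ * g⁻¹ ∈ Q) {i : Fin 3} (tv : Tv z (Qs i) g) : g ∈ Q := by
  obtain ⟨σ, hσ, hc⟩ := W1.exists_cyc h hs sT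
  have step : ∀ j, g ∈ W1.TvS z (Qs j) → g ∈ W1.TvS z (Qs (σ j)) := fun j t => by
    have := mul_mem (inv_mem (BasA.tvQ h c (σ j))) (hσ j ▸ W1.TvS_conj hs t)
    rwa [show (s * g * s⁻¹ * g⁻¹)⁻¹ * (s * g * s⁻¹) = g by group] at this
  refine h.ker hg fun j => ?_
  rcases hc i j with rfl | rfl | rfl
  exacts [tv, (step _ ⟨hg, tv⟩).2, (step _ (step _ ⟨hg, tv⟩)).2]

/-- notes/TE6.md, section BasA -/
theorem ab9 (h : B2 z Q Qs r R) {T : Subgroup G} (hT : IsPGroup 3 T) (hc : T ≤ 𝒞[z]) {s : G} (hs : s ∈ T)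
    (sT : Tr Qs s) (c : ∀ g ∈ T, s * g * s⁻¹ * g⁻¹ ∈ Q) : Nat.card T ≤ 9 * Nat.card ↥(T ⊓ Q) := by
  obtain ⟨T0, a1, a2, a3⟩ := h.exists_ba hT hc
  obtain ⟨T1, b1, b2, b3⟩ := h.exists_tv (hT.to_le a1) (a1.trans hc) (i := 0) fun g hg => a3 g hg 0
  have : T1 ≤ T ⊓ Q := fun g hg => ⟨a1 (b1 hg),
    tr_tv h (hc hs) sT (hc (a1 (b1 hg))) (a3 g (b1 hg)) (c g (a1 (b1 hg))) (b3 g hg)⟩
  have := card_le_of_le this
  omega

theorem BasA.two (h : B2 z Q Qs r R) {T : Subgroup G} (hT : IsPGroup 3 T) (hc : T ≤ 𝒞[z])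
    (hb : ∀ g ∈ T, Ba Qs g) : ∃ T0 ≤ T, Nat.card T ≤ 9 * Nat.card T0 ∧
      ∀ g ∈ T0, Tv z (Qs 1) g ∧ Tv z (Qs 2) g := by
  obtain ⟨T0, a1, a2, a3⟩ := h.exists_tv hT hc (i := 1) fun g hg => hb g hg 1
  obtain ⟨T1, b1, b2, b3⟩ := h.exists_tv (hT.to_le a1) (a1.trans hc) (i := 2)
    fun g hg => hb g (a1 hg) 2
  exact ⟨T1, b1.trans a1, by omega, fun g hg => ⟨a3 g (b1 hg), b3 g hg⟩⟩

/-- notes/TE6.md, section BasA -/
theorem ab27 (h : B2 z Q Qs r R) {T : Subgroup G} (hT : IsPGroup 3 T) (hc : T ≤ 𝒞[z])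
    (c : ∀ g ∈ T, ∀ k ∈ T, g * k * g⁻¹ * k⁻¹ ∈ Q) (hl : 9 * Nat.card ↥(T ⊓ Q) < Nat.card T) :
    ∃ e ∈ T, e ∉ Q ∧ Ba Qs e ∧ Tv z (Qs 1) e ∧ Tv z (Qs 2) e := by
  rcases W2.all_ba h hT hc with ⟨s, hs, sT⟩ | hb
  · exact absurd (ab9 h hT hc hs sT (c s hs)) (by omega)
  obtain ⟨T0, a1, a2, a3⟩ := BasA.two h hT hc hb
  by_contra! k
  have : T0 ≤ T ⊓ Q := fun g hg => ⟨a1 hg, by_contra fun n =>
    k g (a1 hg) n (hb g (a1 hg)) (a3 g hg).1 (a3 g hg).2⟩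
  have := card_le_of_le this
  omega

theorem BasA.tv3 (h : B2 z Q Qs r R) {g : G} (hg : g ∈ 𝒞[z]) (t0 : Tv z (Qs 0) g)
    (t : Tv z (Qs 1) g ∧ Tv z (Qs 2) g) : g ∈ Q := h.ker hg fun i => by
  fin_cases i
  exacts [t0, t.1, t.2]

/-- notes/TE6.md, section BasA -/
theorem idx27 (h : B2 z Q Qs r R) {T : Subgroup G} (hT : IsPGroup 3 T) (hc : T ≤ 𝒞[z]) {w : G}
    (w3 : w ^ 3 = 1) (c : ∀ g ∈ T, ∀ k ∈ T, g * k * g⁻¹ * k⁻¹ ∈ zpowers w) :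
    Nat.card T ≤ 27 * Nat.card ↥(T ⊓ Q) := by
  rcases W2.all_ba h hT hc with ⟨s, hs, sT⟩ | hb
  · obtain ⟨T0, a1, a2, a3⟩ := h.exists_ba hT hc
    obtain ⟨T1, b1, b2, b3⟩ := BasA.two h (hT.to_le a1) (a1.trans hc) a3
    suffices T1 ≤ T ⊓ Q by
      have := card_le_of_le this
      omega
    intro e he
    have eT := a1 (b1 he)
    refine ⟨eT, BasA.tv3 h (hc eT) (by_contra fun n => ?_) (b3 e he)⟩
    obtain ⟨σ, hσ⟩ := h.perm (hc hs)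
    have nf : ∀ i, σ i ≠ i := fun i k => sT i (mem_norm_iff_cj.2 (by rw [hσ, k]))
    have t0 : ∀ j, j ≠ 0 → e ∈ W1.TvS z (Qs j) := fun j hj => by
      obtain rfl | rfl : j = 1 ∨ j = 2 := by omega
      exacts [⟨hc eT, (b3 e he).1⟩, ⟨hc eT, (b3 e he).2⟩]
    have step : ∀ {g : G} {i : Fin 3}, (∀ j, j ≠ i → g ∈ W1.TvS z (Qs j)) →
        ∀ j, j ≠ σ i → s * g * s⁻¹ ∈ W1.TvS z (Qs j) := fun t j hj => by
      obtain ⟨j, rfl⟩ := σ.surjective j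
      exact hσ j ▸ W1.TvS_conj (hc hs) (t j fun k => hj (by rw [k]))
    have t1 := step t0 0 (nf 0).symm
    have t2 := step (step t0) 0 (P.p_tr σ nf).symm
    have c1 : s * e * s⁻¹ * e⁻¹ ∉ W1.TvS z (Qs 0) := fun k =>
      n (inv_mem_iff.1 ((mul_mem_cancel_left t1).1 k)).2
    have wn : w ∉ W1.TvS z (Qs 0) := fun k => c1 (zpowers_le.2 k (c s hs e eT))
    have := Fact.mk Nat.prime_three
    have c2 := P.eq_one (orderOf_eq_prime w3 fun k => wn (k ▸ one_mem _))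
      (c s hs _ (mul_mem (mul_mem hs eT) (inv_mem hs))) (mul_mem t2 (inv_mem t1)) wn
    refine c1 ?_
    rw [show s * e * s⁻¹ * e⁻¹ = s⁻¹ * (s * (s * e * s⁻¹) * s⁻¹ * (s * e * s⁻¹)⁻¹) * s by group, c2]
    simp
  · obtain ⟨T0, a1, a2, a3⟩ := h.exists_tv hT hc (i := 0) fun g hg => hb g hg 0
    obtain ⟨T1, b1, b2, b3⟩ := BasA.two h (hT.to_le a1) (a1.trans hc) fun g hg => hb g (a1 hg)
    have : T1 ≤ T ⊓ Q := fun g hg =>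
      ⟨a1 (b1 hg), BasA.tv3 h (hc (a1 (b1 hg))) (a3 g (b1 hg)) (b3 g hg)⟩
    have := card_le_of_le this
    omega

/-- notes/TE6.md, section BasA -/
theorem wn (h : B2 z Q Qs r R) {g : G} (hy : g * z * g⁻¹ ∈ 𝒞[z]) (zn : z ∉ cj g Q) :
    Q ⊓ cj g Q ≤ Q ⊓ 𝒞[g * z * g⁻¹] ∧ Q ⊓ cj g Q ≤ 𝒞(Q ⊓ 𝒞[g * z * g⁻¹]) ∧
      Nat.card ↥(Q ⊓ 𝒞[g * z * g⁻¹]) ≤ 27 * Nat.card ↥(Q ⊓ cj g Q) ∧
      Nat.card ↥(Q ⊓ 𝒞[g * z * g⁻¹]) ≤ 243 := by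
  have h' := h.conj g
  have h2 : Q ⊓ cj g Q ≤ 𝒞(Q ⊓ 𝒞[g * z * g⁻¹]) := fun n hn w hw => by
    have e := P.eq_one h.z3 (h.comm w hw.1 n hn.1)
      (mul_mem (Fa.conjQ h'.toE1 hw.2 hn.2) (inv_mem hn.2)) zn
    rwa [mul_inv_eq_one, mul_inv_eq_iff_eq_mul] at e
  have h3 := (idx27 h' (T := Q ⊓ 𝒞[g * z * g⁻¹]) (h.toE1.isP.to_le inf_le_left) inf_le_right
    (Fa.z3' h.toE1) fun a ha b hb => h.comm a ha.1 b hb.1).trans
      (Nat.mul_le_mul_left 27 (card_le_of_le (inf_le_inf_right (cj g Q) inf_le_left)))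
  refine ⟨inf_le_inf_left Q h'.Qc, h2, h3, ?_⟩
  have h4 := perp_card h.toE1 inf_le_left inf_le_left (cent_comm.1 h2)
  rw [show Q ⊓ cj g Q ⊓ zpowers z = ⊥ from eq_bot_iff.2 fun c hc =>
    mem_bot.2 (P.eq_one h.z3 hc.2 hc.1.2 zn), card_bot, h.card] at h4
  by_contra k
  nlinarith

/-- notes/TE6.md, section BasA -/
theorem z_mem (h : B2 z Q Qs r R) {g : G} (hy : g * z * g⁻¹ ∈ Q) : z ∈ cj g Q := by
  by_contra zn
  have h1 := h.toE1.card_le_cent le_rfl hy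
  have h2 := (wn h (h.Qc hy) zn).2.2.2
  rw [h.card] at h1
  omega

/-- notes/TE6.md, section BasA -/
theorem swap (h : B2 z Q Qs r R) {g : G} (hy : g * z * g⁻¹ ∈ Q) (hn : g * z * g⁻¹ ∉ zpowers z) :
    ∃ p : G, p * z * p⁻¹ = g * z * g⁻¹ ∧ p * (g * z * g⁻¹) * p⁻¹ = z⁻¹ ∧ cj p Q = cj g Q := by
  have h' := h.toE1.conj g
  obtain ⟨q, hq, n⟩ := I1.exists_nc h.toE1 hy hn
  obtain ⟨q', hq', n'⟩ := I1.exists_nc h' (z_mem h hy) (I1.not_mem h.z3 h'.z3 hn)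
  obtain ⟨p, -, p1, p2⟩ := I1.sl2E h.toE1 h' hy (z_mem h hy) hq hq' n n'
  refine ⟨p, p1, p2, ?_⟩
  have k : g⁻¹ * p ∈ 𝒞[z] := mem_cent1.2 (by
    calc g⁻¹ * p * z = g⁻¹ * (p * z * p⁻¹) * p := by group
      _ = _ := by rw [p1]; group)
  rw [show p = g * (g⁻¹ * p) by group, cj_mul, cj_eq_of_mem_norm (Fa.cQ h.toE1 k)]

end Cfsg.Agent.TE6
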