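/-
Project TE6: the swap of `z` and `a₀a₁a₂`.
-/
import Cfsg.Agent.TE6.BasA
import Cfsg.Agent.TE6.BasB
import Cfsg.Agent.F3.I2a

set_option autoImplicit false

namespace Cfsg.Agent.TE6

open Subgroup H49 T3.Fr2 F3 F3.I2a

variable {G : Type*} [Group G] [Finite G] {z : G} {Q R : Subgroup G} {Qs : Fin 3 → Subgroup G}
  {r : Fin 3 → G}

/-- the frame adapted to a conjugate of `z` in `Q` -/
theorem frame1 (h : C1 z Q Qs r R) (w : ¬ WC z Q) : ∃ (a b : Fin 3 → G) (g : G),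
    (∀ i, Fm z (Qs i) (r i) (a i) (b i)) ∧ g * z * g⁻¹ = a 0 * a 1 * a 2 := by
  unfold WC at w
  push Not at w
  obtain ⟨g, hy, hn⟩ := w
  obtain ⟨u, hu, e⟩ := h.toB2.dec hy
  have nu : ∀ i, u i ∉ zpowers z := fun i hi => by
    refine h.y3 hy hn i ((h.toB2.cent_r hy i).2 ?_)
    have : ∀ j, u j ∈ 𝒞(Qs i) := fun j => by
      by_cases e : j = i
      · exact mem_centralizer_iff.2 fun q hq => (Z_comm (h.Qc (h.toB2.le i hq)) (e ▸ hi)).symm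
      · exact h.QQ j i e (hu j)
    rw [e]; exact mul_mem (mul_mem (this 0) (this 1)) (this 2)
  choose a b f ha using fun i => h.toB2.basis i (hu i) (nu i)
  have aQ := aQ h.toB2 f
  have hc : a 0 * a 1 * a 2 * (g * z * g⁻¹)⁻¹ ∈ zpowers z := by
    rw [e]
    refine Fa.div_mem_Z h.toE1 (mul_mem (mul_mem (aQ 0) (aQ 1)) (aQ 2)) (e ▸ hy) fun q hq => ?_
    rw [bt3 h.toB2 hq aQ, bt3 h.toB2 hq fun i => h.toB2.le i (hu i)]
    exact Finset.sum_congr rfl fun i _ => Fa.bt_congr_right h.toE1 hq (h.toB2.le i (hu i)) (ha i)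
  obtain ⟨m, hm⟩ := mem_powers_iff_mem_zpowers.2 hc
  have bz : Commute (b 0) z := mem_cent1.1 (h.Qc (bQ h.toB2 f 0))
  have b1 : Commute (b 0) (a 1) := le_cent_iff.1 (h.QQ 1 0 (by decide)) _ (f 1).aW _ (f 0).bW
  have b2 : Commute (b 0) (a 2) := le_cent_iff.1 (h.QQ 2 0 (by decide)) _ (f 2).aW _ (f 0).bW
  have yz : Commute (a 0 * a 1 * a 2) z := mem_cent1.1 (h.Qc (mul_mem (mul_mem (aQ 0) (aQ 1)) (aQ 2)))
  have e1 : b 0 * (a 0 * a 1 * a 2) * (b 0)⁻¹ = z * (a 0 * a 1 * a 2) := by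
    calc b 0 * (a 0 * a 1 * a 2) * (b 0)⁻¹ = b 0 * a 0 * (a 1 * a 2 * (b 0)⁻¹) := by group
      _ = b 0 * a 0 * (b 0)⁻¹ * (a 1 * a 2) := by
        rw [← (b1.mul_right b2).inv_left.eq]; group
      _ = _ := by rw [(f 0).ba, mem_cent1.1 (h.Qc (aQ 0))]; group
  have e2 : ∀ n : ℕ, b 0 ^ n * (a 0 * a 1 * a 2) * (b 0 ^ n)⁻¹ = z ^ n * (a 0 * a 1 * a 2) := by
    intro n
    induction n with
    | zero => simp
    | succ n ih =>
      calc b 0 ^ (n + 1) * (a 0 * a 1 * a 2) * (b 0 ^ (n + 1))⁻¹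
          = b 0 * (b 0 ^ n * (a 0 * a 1 * a 2) * (b 0 ^ n)⁻¹) * (b 0)⁻¹ := by group
        _ = (b 0 * z ^ n) * (a 0 * a 1 * a 2) * (b 0)⁻¹ := by rw [ih]; group
        _ = z ^ n * (b 0 * (a 0 * a 1 * a 2) * (b 0)⁻¹) := by rw [(bz.pow_right n).eq]; group
        _ = _ := by rw [e1]; group
  refine ⟨a, b, b 0 ^ m * g, f, ?_⟩
  have e3 : g * z * g⁻¹ = (z ^ m)⁻¹ * (a 0 * a 1 * a 2) := by
    rw [show z ^ m = _ from hm, mul_inv_rev, inv_inv]; group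
  calc b 0 ^ m * g * z * (b 0 ^ m * g)⁻¹ = b 0 ^ m * (g * z * g⁻¹) * (b 0 ^ m)⁻¹ := by group
    _ = b 0 ^ m * (z ^ m)⁻¹ * (a 0 * a 1 * a 2) * (b 0 ^ m)⁻¹ := by rw [e3]; group
    _ = (z ^ m)⁻¹ * (b 0 ^ m * (a 0 * a 1 * a 2) * (b 0 ^ m)⁻¹) := by
      rw [(bz.pow_pow m m).inv_right.eq]; group
    _ = _ := by rw [e2]; group

theorem C1.ca (h : C1 z Q Qs r R) (w : ¬ WC z Q) : ∃ a b p s, CA z Q Qs r R a b p s := by
  obtain ⟨a, b, g0, f, hy0⟩ := frame1 h w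
  obtain ⟨g, hy, hp, -⟩ := swap h.toB2 (g := g0)
    (hy0 ▸ mul_mem (mul_mem (aQ h.toB2 f 0) (aQ h.toB2 f 1)) (aQ h.toB2 f 2))
    (hy0 ▸ fun e => h.toB2.aZ (f 0) (h.toB2.uniq (fun i => (f i).aW) e 0))
  rw [hy0] at hy hp
  clear hy0 g0
  have h2 := h.toB2
  have h' := h.conj g
  rw [hy] at h'
  set y := a 0 * a 1 * a 2 with hyd
  set Q' := cj g Q with hQ'
  have aQ := aQ h2 f
  have yQ : y ∈ Q := mul_mem (mul_mem (aQ 0) (aQ 1)) (aQ 2)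
  have yZ : y ∉ zpowers z := fun e => h2.aZ (f 0) (h2.uniq (fun i => (f i).aW) e 0)
  have zQ' : z ∈ Q' := z_mem h2 (hy ▸ yQ)
  have ZQ' : zpowers z ≤ Q' := zpowers_le.2 zQ'
  have zy : ∀ {c : G}, c ∈ zpowers z → c ∈ zpowers y → c = 1 := fun {c} h1 h3 => by
    rcases inf_eq_bot_or_le_of_prime_card (K := zpowers y)
      (by rw [Nat.card_zpowers, h'.z3]; exact Nat.prime_three) (zpowers z) with e | e
    · exact mem_bot.1 (e ▸ ⟨h3, h1⟩)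
    · exact absurd (e (mem_zpowers y)) yZ
  have zY : z ∉ zpowers y := fun e => by
    have := h.z3
    rw [zy (mem_zpowers z) e, orderOf_one] at this; omega
  have cc : ∀ {k c : G}, k ∈ Q' → c ∈ Q' → k * c * k⁻¹ * c⁻¹ ∈ zpowers z → k * c = c * k :=
    fun {k c} hk hc e => by
      have := zy e (h'.comm k hk c hc)
      rwa [mul_inv_eq_one, mul_inv_eq_iff_eq_mul] at this
  set K := Q' ⊓ 𝒞[z] with hK
  have Kp : IsPGroup 3 K := h'.toE1.isP.to_le inf_le_left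
  have Kc : K ≤ 𝒞[z] := inf_le_right
  have K7 : 729 ≤ Nat.card K := by
    have := h'.toE1.card_le_cent le_rfl zQ'
    rw [h'.card, ← hK] at this
    omega
  have Ky : ∀ {k : G}, k ∈ K → k ∈ 𝒞[y] := fun hk => h'.Qc hk.1
  have zyz : zpowers z ≤ closure {y, z} := zpowers_le.2 (subset_closure (by simp))
  have yyz : zpowers y ≤ closure {y, z} := zpowers_le.2 (subset_closure (by simp))
  obtain ⟨s, hs, sT⟩ : ∃ s ∈ K, Tr Qs s := by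
    by_contra hn
    push Not at hn
    have fa : ∀ k ∈ K, k * a 0 * k⁻¹ * (a 0)⁻¹ ∈ zpowers z := fun k hk =>
      fix_a h2 f (Ky hk) ((h2.three hk.2 (k := 1)
        (by rw [pow_one, h'.exp k hk.1]; exact Q.one_mem)).resolve_right (hn k hk)) 0
    have ez : g⁻¹ * y * g⁻¹⁻¹ = z := by rw [← hy]; group
    have a0 : a 0 ∈ Q' := h'.toB2.lemX zQ'
      (fun i => by have := h'.y3 (g := g⁻¹) (ez ▸ zQ') (ez ▸ zY) i; rwa [ez] at this)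
      (a_y h2 f 0) fun q hq => zyz (swapZ (fa q hq))
    exact a0_not h2 f (h'.toE1.perp2 zQ' a0 fun k hk => (cc hk.1 a0 (fa k hk)).symm)
  have h9 := ab9 h2 Kp Kc hs sT fun k hk => zpowers_le.2 yQ (h'.comm s hs.1 k hk.1)
  have Uab : K ⊓ Q ≤ 𝒞(K ⊓ Q) := le_cent_iff.2 fun u hu v hv =>
    cc hv.1.1 hu.1.1 (h.comm v hv.2 u hu.2)
  have U81 := h2.ab_le inf_le_right Uab
  obtain ⟨T0, hT0, c0, b0⟩ := h2.exists_ba Kp Kc
  have hn : ¬ T0 ≤ Q := fun hle => by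
    have := card_le_of_le (le_inf hT0 hle); omega
  obtain ⟨x0, hx0, x0Q⟩ := SetLike.not_le_iff_exists.1 hn
  obtain ⟨σ, hσ⟩ := h2.perm hs.2
  have nf : ∀ i, σ i ≠ i := fun i e => sT i (mem_norm_iff_cj.2 (by rw [hσ, e]))
  have sa := perm_a h2 f (Ky hs) hσ
  have sQ' : ∀ i, s * a i * s⁻¹ * (a i)⁻¹ ∈ Q' := fun i => by
    have := Q'.mul_mem hs.1 (Fa.conjQ h'.toE1 (a_y h2 f i) (Q'.inv_mem hs.1))
    convert this using 1; group
  have d1 : ∀ i, a (σ i) * (a i)⁻¹ ∈ Q' := fun i => by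
    have := mul_mem (inv_mem (ZQ' (sa i))) (sQ' i)
    convert this using 1; group
  have d : ∀ j, a j * (a 0)⁻¹ ∈ Q' := fun j => by
    rcases I2b.cyc3 σ nf 0 j with e | e | e
    · rw [e, mul_inv_cancel]; exact one_mem _
    · rw [e]; exact d1 0
    · have := inv_mem (d1 j)
      rwa [e, mul_inv_rev, inv_inv] at this
  have fin : ∀ k ∈ K, (∀ i, k * a i * k⁻¹ * (a i)⁻¹ ∈ zpowers z) → k ∈ 𝒞[a 0] →
      k ∈ 𝒞[z] ⊓ 𝒞[a 0] ⊓ 𝒞[a 1] ⊓ 𝒞[a 2] := fun k hk ha h0 => by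
    have m : ∀ i, a i ∈ Fz z k := fun i => ⟨h.Qc (aQ i), ha i⟩
    have c : ∀ j, k ∈ 𝒞[a j] := fun j => by
      have c1 : Commute k (a j * (a 0)⁻¹) :=
        cc hk.1 (d j) (mul_mem (m j) (inv_mem (m 0))).2
      have := c1.mul_right (mem_cent1.1 h0)
      rw [inv_mul_cancel_right] at this
      exact mem_cent1.2 this
    exact ⟨⟨⟨hk.2, h0⟩, c 1⟩, c 2⟩
  obtain ⟨u, hu, u0⟩ : ∃ u ∈ K ⊓ Q, u ∉ 𝒞[a 0] := by
    by_contra hn
    push Not at hn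
    have hle : K ⊓ Q ≤ Q ⊓ 𝒞[a 0] ⊓ 𝒞[a 1] ⊓ 𝒞[a 2] := fun u hu => by
      have := fin u hu.1 (fun i => h.comm u hu.2 _ (aQ i)) (hn u hu)
      exact ⟨⟨⟨hu.2, this.1.1.2⟩, this.1.2⟩, this.2⟩
    have e := eq_of_le_of_card_eq hle (by rw [h2.card_A f]; omega)
    have a0 : a 0 ∈ K ⊓ Q := e ▸ (h2.mem_A f).2 ⟨0, 1, 0, 0, by simp⟩
    refine aj_not h2 f (nf 0) ?_
    have := mul_mem (inv_mem (zyz (sa 0))) (yyz (h'.comm s hs.1 _ a0.1.1))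
    convert this using 1; group
  have fx := fix_a h2 f (Ky (hT0 hx0)) (b0 x0 hx0)
  have fu : ∀ i, u * a i * u⁻¹ * (a i)⁻¹ ∈ zpowers z := fun i => h.comm u hu.2 _ (aQ i)
  set c := u * a 0 * u⁻¹ * (a 0)⁻¹ with hc
  have c1 : c ≠ 1 := fun e => u0 (mem_cent1.2 (by
    rwa [hc, mul_inv_eq_one, mul_inv_eq_iff_eq_mul] at e))
  have Zc : zpowers z ≤ zpowers c := by
    rcases inf_eq_bot_or_le_of_prime_card (K := zpowers z)
      (by rw [Nat.card_zpowers, h.z3]; exact Nat.prime_three) (zpowers c) with e | e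
    · exact absurd (mem_bot.1 (e ▸ ⟨fu 0, mem_zpowers c⟩)) c1
    · exact e
  obtain ⟨m, hm⟩ := mem_powers_iff_mem_zpowers.2 (Zc (inv_mem (fx 0)))
  have e2 : ∀ n : ℕ, u ^ n * a 0 * (u ^ n)⁻¹ = c ^ n * a 0 := by
    intro n
    induction n with
    | zero => simp
    | succ n ih =>
      calc u ^ (n + 1) * a 0 * (u ^ (n + 1))⁻¹ = u * (u ^ n * a 0 * (u ^ n)⁻¹) * u⁻¹ := by group
        _ = (u * c ^ n * u⁻¹) * (c * a 0) := by rw [ih, hc]; group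
        _ = _ := by rw [Z_conj hu.1.2 (pow_mem (fu 0) n), pow_succ, mul_assoc (c ^ n)]
  have xK : x0 * u ^ m ∈ K := mul_mem (hT0 hx0) (pow_mem hu.1 m)
  refine ⟨a, b, g, s, h, f, hy, hp, hs, sT, ⟨x0 * u ^ m, xK.1, fin _ xK (fun i => ?_) (mem_cent1.2 ?_),
    fun e => x0Q ((Q.mul_mem_cancel_right (pow_mem hu.2 m)).1 e)⟩, fun i j => by
      have := mul_mem (d i) (inv_mem (d j))
      convert this using 1; group, u, ⟨hu.2, hu.1.1⟩, fun e => u0 (mem_cent1.2 e.eq)⟩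
  · have m1 : x0 ∈ Fz z (a i) := ⟨(hT0 hx0).2, swapZ (fx i)⟩
    have m2 : u ∈ Fz z (a i) := ⟨hu.1.2, swapZ (fu i)⟩
    exact swapZ (mul_mem m1 (pow_mem m2 m)).2
  · rw [← mul_inv_eq_iff_eq_mul]
    calc x0 * u ^ m * a 0 * (x0 * u ^ m)⁻¹ = x0 * (u ^ m * a 0 * (u ^ m)⁻¹) * x0⁻¹ := by group
      _ = (x0 * c ^ m * x0⁻¹) * (x0 * a 0 * x0⁻¹ * (a 0)⁻¹) * a 0 := by rw [e2]; group
      _ = a 0 := by
        rw [Z_conj (hT0 hx0).2 (pow_mem (fu 0) m), show c ^ m = _ from hm]; group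

end Cfsg.Agent.TE6
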