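/-
Project TE6: the group `J = C(z, a₀, a₁, a₂)` is elementary abelian and normalised by `p`.
-/
import Cfsg.Agent.TE6.BasA
import Cfsg.Agent.TE6.BasB
import Cfsg.Agent.TE6.Ty

set_option autoImplicit false

namespace Cfsg.Agent.TE6

open Subgroup H49 T3.Fr2 F3

variable {G : Type*} [Group G] [Finite G] {z : G} {Q R : Subgroup G} {Qs : Fin 3 → Subgroup G}
  {r : Fin 3 → G} {a b : Fin 3 → G} {p s x : G} {J : Subgroup G}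

namespace I2b

omit [Finite G] in
theorem fm_conj {W : Subgroup G} {ρ a b : G} (f : Fm z W ρ a b) (g : G) :
    Fm (g * z * g⁻¹) (cj g W) (g * ρ * g⁻¹) (g * a * g⁻¹) (g * b * g⁻¹) where
  aW := conj_mem_cj.2 f.aW
  bW := conj_mem_cj.2 f.bW
  ρa := by rw [conj_inv, conj_mul, conj_mul, f.ρa, conj_inv]
  ρb := by rw [conj_inv, conj_mul, conj_mul, f.ρb, conj_inv]
  ba := by rw [conj_inv, conj_mul, conj_mul, f.ba, conj_mul]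
  nf := fun q hq => by
    obtain ⟨q, hq', rfl⟩ := mem_cj'.1 hq
    obtain ⟨i, j, k, rfl⟩ := f.nf q hq'
    exact ⟨i, j, k, by rw [conj_pow, conj_pow, conj_pow, conj_mul, conj_mul]⟩

theorem btδ (h : B2 z Q Qs r R) (f : ∀ i, Fm z (Qs i) (r i) (a i) (b i)) (k i : Fin 3) :
    bt z (b k) (a i) = if k = i then 1 else 0 := by
  split_ifs with e
  · subst e; exact (h.hp (f k)).ba
  · exact I2a.bt_off h e (f k).bW (f i).aW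

theorem pid : ∀ σ : Equiv.Perm (Fin 3), (∀ k, ((if k = σ 1 then 1 else 0) + -(if k = σ 0 then 1 else 0) : ZMod 3) =
    (if k = 1 then 1 else 0) + -(if k = 0 then 1 else 0)) → ∀ i, σ i = i := by decide

/-- an element centralising `z`, `a₀a₁a₂` and `a₁a₀⁻¹` fixes each `aᵢ` modulo `Z` -/
theorem fix3 (h : B2 z Q Qs r R) (f : ∀ i, Fm z (Qs i) (r i) (a i) (b i)) {g : G} (h1 : g ∈ 𝒞[z])
    (h2 : g ∈ 𝒞[a 0 * a 1 * a 2]) (h3 : g ∈ 𝒞[a 1 * (a 0)⁻¹]) (i : Fin 3) :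
    g * a i * g⁻¹ * (a i)⁻¹ ∈ zpowers z := by
  obtain ⟨σ, hσ⟩ := h.perm h1
  have k := I2a.perm_a h f h2 hσ
  have aQ := I2a.aQ h f
  have bQ := I2a.bQ h f
  have e := pid σ fun l => by
    rw [← btδ h f, ← btδ h f, ← btδ h f, ← btδ h f, ← Fa.bt_congr_right h.toE1 (bQ l) (aQ _) (k 1),
      ← Fa.bt_congr_right h.toE1 (bQ l) (aQ _) (k 0), ← Fa.bt_inv_right h.toE1 (bQ l) (aQ 0),
      ← Fa.bt_inv_right h.toE1 (bQ l) (Fa.conjQ h.toE1 h1 (aQ 0)),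
      ← Fa.bt_mul_right h.toE1 (bQ l) (aQ 1) (inv_mem (aQ 0)),
      ← Fa.bt_mul_right h.toE1 (bQ l) (Fa.conjQ h.toE1 h1 (aQ 1)) (inv_mem (Fa.conjQ h.toE1 h1 (aQ 0))),
      conj_inv, conj_mul, mem_cent1.1 h3, mul_inv_cancel_right]
  have := k i
  rwa [e i] at this

theorem ord_a (h : B2 z Q Qs r R) (f : ∀ i, Fm z (Qs i) (r i) (a i) (b i)) (i : Fin 3) : orderOf (a i) = 3 :=
  haveI : Fact (Nat.Prime 3) := ⟨Nat.prime_three⟩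
  orderOf_eq_prime (h.exp _ (I2a.aQ h f i)) fun e => h.aZ (f i) (e ▸ one_mem _)

/-- `A₀ ∩ H = ⟨z, a₁a₀⁻¹, a₂a₀⁻¹⟩` if `H` contains the three generators but not `a₀` -/
theorem inB (h : B2 z Q Qs r R) (f : ∀ i, Fm z (Qs i) (r i) (a i) (b i)) {H K : Subgroup G}
    (hz : z ∈ H ⊓ K) (h1 : a 1 * (a 0)⁻¹ ∈ H ⊓ K) (h2 : a 2 * (a 0)⁻¹ ∈ H ⊓ K) (n : a 0 ∉ H) :
    Q ⊓ 𝒞[a 0] ⊓ 𝒞[a 1] ⊓ 𝒞[a 2] ⊓ H ≤ K := by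
  intro u hu
  obtain ⟨hu, uH⟩ := mem_inf.1 hu
  obtain ⟨k, l, m, o, rfl⟩ := (h.mem_A f).1 hu
  have aa := I2a.aa h f
  have e : z ^ k * a 0 ^ l * a 1 ^ m * a 2 ^ o =
      z ^ k * (a 1 * (a 0)⁻¹) ^ m * (a 2 * (a 0)⁻¹) ^ o * a 0 ^ (o + m + l) := by
    rw [(aa 1 0).inv_right.mul_pow, (aa 2 0).inv_right.mul_pow, inv_pow, inv_pow, pow_add, pow_add]
    have c1 := ((aa 0 1).pow_pow l m).eq
    have c2 := ((aa 0 2).pow_pow l o).eq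
    have c3 := ((aa 2 0).pow_pow o m).eq
    calc _ = z ^ k * (a 0 ^ l * a 1 ^ m) * a 2 ^ o := by group
      _ = z ^ k * a 1 ^ m * (a 0 ^ l * a 2 ^ o) := by rw [c1]; group
      _ = z ^ k * a 1 ^ m * (a 0 ^ m)⁻¹ * (a 0 ^ m * a 2 ^ o) * a 0 ^ l := by rw [c2]; group
      _ = _ := by rw [← c3]; simp only [mul_assoc, inv_mul_cancel_left]
  have hb := mul_mem (mul_mem (pow_mem hz k) (pow_mem h1 m)) (pow_mem h2 o)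
  rw [e] at uH ⊢
  rw [P.eq_one (ord_a h f 0) (pow_mem (mem_zpowers _) _) ((mul_mem_cancel_left (mem_inf.1 hb).1).1 uH) n, mul_one]
  exact hb.2

variable (h : CA z Q Qs r R a b p s)
include h

theorem QQ : cj p (cj p Q) = Q := by
  rw [cj_cj]
  refine cj_eq_of_mem_norm (h.nQ (mem_norm_iff_cj.2 ?_))
  rw [cj_zpowers, show p * p * z * (p * p)⁻¹ = p * (p * z * p⁻¹) * p⁻¹ by group, h.pz, h.py, zpowers_inv]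

omit [Finite G] in
theorem yQ : p * z * p⁻¹ ∈ Q := by
  rw [h.pz]
  have le : ∀ i, Qs i ≤ Q := fun i => h.sup ▸ by
    fin_cases i
    exacts [le_sup_left.trans le_sup_left, le_sup_right.trans le_sup_left, le_sup_right]
  exact mul_mem (mul_mem (le 0 (h.fm 0).aW) (le 1 (h.fm 1).aW)) (le 2 (h.fm 2).aW)

omit [Finite G] in
theorem zQ' : z ∈ cj p Q := by
  rw [← inv_mem_iff, ← h.py, ← h.pz]
  exact conj_mem_cj.2 (yQ h)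

theorem one_of {c : G} (h1 : c ∈ zpowers z) (h2 : c ∈ zpowers (p * z * p⁻¹)) : c = 1 :=
  P.eq_one (h.toB2.conj p).z3 h2 h1 fun e =>
    h.toB2.aZ (h.fm 0) (h.toB2.uniq (u := a) (fun i => (h.fm i).aW) (h.pz ▸ e) 0)

theorem comm_of {u v : G} (h1 : u * v * u⁻¹ * v⁻¹ ∈ zpowers z)
    (h2 : u * v * u⁻¹ * v⁻¹ ∈ zpowers (p * z * p⁻¹)) : u * v = v * u :=
  commutatorElement_eq_one_iff_mul_comm.1 (one_of h h1 h2)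

theorem Uab {u v : G} (hu : u ∈ Q ⊓ cj p Q) (hv : v ∈ Q ⊓ cj p Q) : u * v = v * u :=
  comm_of h (h.comm u hu.1 v hv.1) ((h.toB2.conj p).comm u hu.2 v hv.2)

theorem a0Q' : a 0 ∉ cj p Q := fun e => by
  obtain ⟨n, hn, c⟩ := h.nex
  exact c (Uab h hn ⟨I2a.aQ h.toB2 h.fm 0, e⟩)

theorem aaU (i j : Fin 3) : a i * (a j)⁻¹ ∈ Q ⊓ cj p Q :=
  mem_inf.2 ⟨mul_mem (I2a.aQ h.toB2 h.fm i) (inv_mem (I2a.aQ h.toB2 h.fm j)), h.aa i j⟩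

theorem inB' {K : Subgroup G} (hz : z ∈ K) (h1 : a 1 * (a 0)⁻¹ ∈ K) (h2 : a 2 * (a 0)⁻¹ ∈ K) :
    Q ⊓ 𝒞[a 0] ⊓ 𝒞[a 1] ⊓ 𝒞[a 2] ⊓ cj p Q ≤ K :=
  inB h.toB2 h.fm ⟨zQ' h, hz⟩ ⟨h.aa 1 0, h1⟩ ⟨h.aa 2 0, h2⟩ (a0Q' h)

theorem cardB : 27 ≤ Nat.card ↥(Q ⊓ 𝒞[a 0] ⊓ 𝒞[a 1] ⊓ 𝒞[a 2] ⊓ cj p Q) := by
  obtain ⟨n, hn, c⟩ := h.nex
  have h1 := h.toE1.card_le_cent (X := Q ⊓ 𝒞[a 0] ⊓ 𝒞[a 1] ⊓ 𝒞[a 2])
    (inf_le_left.trans (inf_le_left.trans inf_le_left)) hn.1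
  rw [h.toB2.card_A h.fm] at h1
  have h2 := card_le_of_le (le_inf inf_le_left (inB h.toB2 h.fm (H := 𝒞[n]) (K := cj p Q)
    ⟨mem_cent1.2 (Uab h ⟨h.zQ, zQ' h⟩ hn), zQ' h⟩ ⟨mem_cent1.2 (Uab h (aaU h 1 0) hn), h.aa 1 0⟩
    ⟨mem_cent1.2 (Uab h (aaU h 2 0) hn), h.aa 2 0⟩ fun e => c (mem_cent1.1 e).symm))
  omega

theorem ay (i : Fin 3) : a i ∈ 𝒞[p * z * p⁻¹] := h.pz ▸ I2a.a_y h.toB2 h.fm i

omit [Finite G] in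
theorem cz' {g : G} (hg : g ∈ 𝒞[z]) :
    g ∈ 𝒞[p * a 0 * p⁻¹ * (p * a 1 * p⁻¹) * (p * a 2 * p⁻¹)] := by
  rw [conj_mul, conj_mul, h.py]
  exact mem_cent1_comm.1 (inv_mem (mem_cent1_comm.1 hg))

theorem a0Ba : Ba (fun i => cj p (Qs i)) (a 0) := by
  have h' := h.toB2.conj p
  refine (h'.three (ay h 0) (k := 1) (by
    rw [pow_one, h.exp _ (I2a.aQ h.toB2 h.fm 0)]; exact one_mem _)).resolve_right fun t => ?_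
  have h1 := h'.cent_tr (ay h 0) t le_rfl
  obtain ⟨x, x1, x2, x3⟩ := h.xe
  have h2 : Q ⊓ 𝒞[a 0] ⊓ 𝒞[a 1] ⊓ 𝒞[a 2] ⊓ cj p Q ≤ cj p Q ⊓ 𝒞[a 0] := fun u hu => ⟨hu.2, hu.1.1.1.2⟩
  exact x3 ((eq_of_le_of_card_ge h2 (h1.trans (cardB h))).ge ⟨x1, x2.1.1.2⟩).1.1.1.1

theorem βB (i : Fin 3) :
    p * (a i * (a 0)⁻¹) * p⁻¹ ∈ Q ⊓ 𝒞[a 0] ⊓ 𝒞[a 1] ⊓ 𝒞[a 2] ⊓ cj p Q := by
  have h' := h.toB2.conj p
  have f' := fun i => fm_conj (h.fm i) p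
  have aQ := I2a.aQ h.toB2 h.fm
  have hU : p * (a i * (a 0)⁻¹) * p⁻¹ ∈ Q ⊓ cj p Q :=
    ⟨(QQ h).le (conj_mem_cj.2 (h.aa i 0)), conj_mem_cj.2 (aaU h i 0).1⟩
  have k : ∀ i, p * a i * p⁻¹ ∈ I2a.Fz (p * z * p⁻¹) (a 0) := fun i =>
    ⟨h'.Qc (conj_mem_cj.2 (aQ i)), I2a.fix_a h' f' (cz' h (h.Qc (aQ 0))) (a0Ba h) i⟩
  have k1 := mul_mem (k i) (inv_mem (k 0))
  rw [conj_inv, conj_mul] at k1
  have c0 : p * (a i * (a 0)⁻¹) * p⁻¹ ∈ 𝒞[a 0] :=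
    mem_cent1.2 (comm_of h (h.comm _ (aQ 0) _ hU.1) k1.2).symm
  have c : ∀ j, p * (a i * (a 0)⁻¹) * p⁻¹ ∈ 𝒞[a j] := fun j => by
    have := mul_mem (mem_cent1.2 (Uab h (aaU h j 0) hU)) (mem_cent1_comm.1 c0)
    rw [inv_mul_cancel_right] at this
    exact mem_cent1_comm.1 this
  exact ⟨⟨⟨⟨hU.1, c 0⟩, c 1⟩, c 2⟩, hU.2⟩

theorem pB : p ∈ 𝒩(Q ⊓ 𝒞[a 0] ⊓ 𝒞[a 1] ⊓ 𝒞[a 2] ⊓ cj p Q) := by
  refine mem_norm_of_cj_le (cj_le_iff.2 (inB' h ?_ ?_ ?_)) <;> rw [mem_cj, inv_inv]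
  · exact ⟨⟨⟨⟨yQ h, mem_cent1_comm.1 (ay h 0)⟩, mem_cent1_comm.1 (ay h 1)⟩, mem_cent1_comm.1 (ay h 2)⟩,
      conj_mem_cj.2 h.zQ⟩
  · exact βB h 1
  · exact βB h 2

omit h [Finite G] in
theorem Jy {j : G} (hj : j ∈ 𝒞[z] ⊓ 𝒞[a 0] ⊓ 𝒞[a 1] ⊓ 𝒞[a 2]) : j ∈ 𝒞[a 0 * a 1 * a 2] :=
  mem_cent1_comm.1 (mul_mem (mul_mem (mem_cent1_comm.1 hj.1.1.2) (mem_cent1_comm.1 hj.1.2)) (mem_cent1_comm.1 hj.2))

/-- elements of `J` fix the `aₖ'` modulo `⟨y⟩` -/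
theorem fixJ' {j : G} (hj : j ∈ 𝒞[z] ⊓ 𝒞[a 0] ⊓ 𝒞[a 1] ⊓ 𝒞[a 2]) (k : Fin 3) :
    j * (p * a k * p⁻¹) * j⁻¹ * (p * a k * p⁻¹)⁻¹ ∈ zpowers (p * z * p⁻¹) := by
  refine fix3 (h.toB2.conj p) (fun i => fm_conj (h.fm i) p) (h.pz ▸ Jy hj) (cz' h hj.1.1.1) ?_ k
  rw [conj_inv, conj_mul]
  obtain ⟨i, l, m, o, e⟩ := (h.toB2.mem_A h.fm).1 (βB h 1).1
  rw [e]
  exact mem_cent1.2 (F3.I2b.commJ hj i l m o)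

theorem aJ (i : Fin 3) : a i ∈ 𝒞[z] ⊓ 𝒞[a 0] ⊓ 𝒞[a 1] ⊓ 𝒞[a 2] :=
  ⟨⟨⟨h.Qc (I2a.aQ h.toB2 h.fm i), mem_cent1.2 (I2a.aa h.toB2 h.fm i 0)⟩,
    mem_cent1.2 (I2a.aa h.toB2 h.fm i 1)⟩, mem_cent1.2 (I2a.aa h.toB2 h.fm i 2)⟩

theorem a'J (k : Fin 3) : p * a k * p⁻¹ ∈ 𝒞[z] ⊓ 𝒞[a 0] ⊓ 𝒞[a 1] ⊓ 𝒞[a 2] := by
  have h' := h.toB2.conj p
  have f' := fun i => fm_conj (h.fm i) p
  have c1 : p * a k * p⁻¹ ∈ 𝒞[z] := by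
    have := I2a.a_y h' f' k
    rw [conj_mul, conj_mul, h.py] at this
    exact mem_cent1_comm.1 (inv_mem_iff.1 (mem_cent1_comm.1 this))
  have c2 : p * a k * p⁻¹ ∈ 𝒞[a 1 * (a 0)⁻¹] := by
    have hb : a 1 * (a 0)⁻¹ ∈ Q ⊓ 𝒞[a 0] ⊓ 𝒞[a 1] ⊓ 𝒞[a 2] ⊓ cj p Q :=
      have k := mul_mem (aJ h 1) (inv_mem (aJ h 0))
      ⟨⟨⟨⟨(aaU h 1 0).1, k.1.1.2⟩, k.1.2⟩, k.2⟩, h.aa 1 0⟩
    obtain ⟨u, hu, e⟩ := mem_cj'.1 ((cj_eq_of_mem_norm (pB h)).ge hb)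
    rw [e, ← cj_cent1, conj_mem_cj, mem_cent1_comm]
    fin_cases k
    exacts [hu.1.1.1.2, hu.1.1.2, hu.1.2]
  have c : ∀ i, p * a k * p⁻¹ ∈ 𝒞[a i] := fun i => mem_cent1.2 (comm_of h
    (fix3 h.toB2 h.fm c1 (h.pz ▸ h'.Qc (conj_mem_cj.2 (I2a.aQ h.toB2 h.fm k))) c2 i)
    (I2a.swapZ (fixJ' h (aJ h i) k)))
  exact ⟨⟨⟨c1, c 0⟩, c 1⟩, c 2⟩

theorem JJ' {j : G} (hj : j ∈ 𝒞[z] ⊓ 𝒞[a 0] ⊓ 𝒞[a 1] ⊓ 𝒞[a 2]) :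
    j ∈ 𝒞[p * z * p⁻¹] ⊓ 𝒞[p * a 0 * p⁻¹] ⊓ 𝒞[p * a 1 * p⁻¹] ⊓ 𝒞[p * a 2 * p⁻¹] := by
  have c : ∀ k, j ∈ 𝒞[p * a k * p⁻¹] := fun k =>
    mem_cent1.2 (comm_of h (commJ h.toB2 h.fm hj (a'J h k)).1 (fixJ' h hj k))
  exact ⟨⟨⟨h.pz ▸ Jy hj, c 0⟩, c 1⟩, c 2⟩

omit h [Finite G] in
theorem stJ {j : G} (hj : j ∈ 𝒞[z] ⊓ 𝒞[a 0] ⊓ 𝒞[a 1] ⊓ 𝒞[a 2]) (i : Fin 3) : j ∈ T3.St z (a i) :=
  ⟨hj.1.1.1, F3.I2b.fixJ hj i⟩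

theorem sum {j : G} (hj : j ∈ 𝒞[z] ⊓ 𝒞[a 0] ⊓ 𝒞[a 1] ⊓ 𝒞[a 2]) :
    ty z b j 0 + ty z b j 1 + ty z b j 2 = 0 := by
  obtain ⟨n, hn, c⟩ := h.nex
  have E := h.toE1
  have aQ := I2a.aQ h.toB2 h.fm
  have bQ := I2a.bQ h.toB2 h.fm
  have wQ := mul_mem (mul_mem (bQ 0) (bQ 1)) (bQ 2)
  have hw : ∀ u ∈ Q, bt z (b 0 * b 1 * b 2) u = bt z (b 0) u + bt z (b 1) u + bt z (b 2) u := fun u hu => by
    rw [Fa.bt_mul_left E (mul_mem (bQ 0) (bQ 1)) (bQ 2) hu, Fa.bt_mul_left E (bQ 0) (bQ 1) hu]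
  have wa : ∀ i, a i * (a 0)⁻¹ ∈ 𝒞[b 0 * b 1 * b 2] := fun i => by
    refine mem_cent1.2 ((Fa.bt_zero E wQ (aaU h i 0).1).1 ?_).symm
    rw [Fa.bt_mul_right E wQ (aQ i) (inv_mem (aQ 0)), Fa.bt_inv_right E wQ (aQ 0), hw _ (aQ i), hw _ (aQ 0)]
    simp only [btδ h.toB2 h.fm]
    revert i
    decide
  have ji := inv_mem hj
  have k1 := (h.toB2.comm_A h.fm ji.1.1.1 (F3.I2b.fixJ ji)).2.2.1 n hn.1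
  have k2 : j⁻¹ * n * j⁻¹⁻¹ ∈ cj p Q := Fa.conjQ (h.toB2.conj p).toE1 (JJ' h ji).1.1.1 hn.2
  have k3 : j⁻¹ * n * j⁻¹⁻¹ ∈ Q := Fa.conjQ E ji.1.1.1 hn.1
  have k4 := inB' h (K := 𝒞[b 0 * b 1 * b 2]) (mem_cent1_comm.1 (h.Qc wQ)) (wa 1) (wa 2)
    (x := n * (j⁻¹ * n * j⁻¹⁻¹)⁻¹) (mem_inf.2 ⟨by convert k1 using 1; group, mul_mem hn.2 (inv_mem k2)⟩)
  have k5 := (Fa.bt_zero E wQ (mul_mem hn.1 (inv_mem k3))).2 (mem_cent1.1 k4).symm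
  have k6 : ∀ i, bt z (b i) (j⁻¹ * n * j⁻¹⁻¹) = ty z b j i * bt z (a 0) n + bt z (b i) n := fun i => by
    have e : bt z (a i) n = bt z (a 0) n := by
      have := (Fa.bt_zero E (aaU h i 0).1 hn.1).2 (Uab h (aaU h i 0) hn)
      rw [Fa.bt_mul_left E (aQ i) (inv_mem (aQ 0)) hn.1, Fa.bt_inv_left E (aQ 0) hn.1] at this
      exact add_neg_eq_zero.1 this
    rw [Fa.bt_conj' E ji.1.1.1 (bQ i) hn.1, inv_inv, Fa.bt_congr_left E hn.1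
      (mul_mem (zp_mem (aQ i) _) (bQ i)) (ty_spec h.toB2 h.fm (stJ hj i)),
      Fa.bt_mul_left E (zp_mem (aQ i) _) (bQ i) hn.1, Fa.bt_zp_left E (aQ i) hn.1, e]
  rw [Fa.bt_mul_right E wQ hn.1 (inv_mem k3), Fa.bt_inv_right E wQ k3, hw _ hn.1, hw _ k3, k6, k6, k6] at k5
  have k7 : bt z (a 0) n ≠ 0 := fun e => c ((Fa.bt_zero E (aQ 0) hn.1).1 e).symm
  haveI : Fact (Nat.Prime 3) := ⟨Nat.prime_three⟩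
  exact mul_right_cancel₀ k7 (by linear_combination -k5)

end I2b

open I2b in
/-- notes/TE6.md, section I2b -/
theorem CA.cb (h : CA z Q Qs r R a b p s) : CB z Q Qs r R a b p s (𝒞[z] ⊓ 𝒞[a 0] ⊓ 𝒞[a 1] ⊓ 𝒞[a 2]) := by
  have h' := h.toB2.conj p
  have f' := fun i => fm_conj (h.fm i) p
  refine { h with
    Jdef := rfl
    ab := le_cent_iff.2 fun j hj k hk =>
      comm_of h (commJ h.toB2 h.fm hk hj).1 (commJ h' f' (JJ' h hk) (JJ' h hj)).1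
    Jexp := fun j hj => one_of h (commJ h.toB2 h.fm hj hj).2 (commJ h' f' (JJ' h hj) (JJ' h hj)).2
    pJ := mem_norm_of_le_cj fun j hj => by
      rw [cj_inf, cj_inf, cj_inf, cj_cent1, cj_cent1, cj_cent1, cj_cent1]
      exact JJ' h hj
    sJ := mem_norm_of_le_cj fun j hj => ?_
    sum := fun j hj => sum h hj
    tp := fun i e => a0Q' h ?_ }
  · obtain ⟨σ, hσ⟩ := h.toB2.perm h.sQ.2
    have c : ∀ i, j ∈ 𝒞[s * a i * s⁻¹] := fun i => by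
      have k := I2a.perm_a h.toB2 h.fm (h.pz ▸ h'.Qc h.sQ.1) hσ i
      have k1 : a (σ i) ∈ 𝒞[j] := by
        rw [mem_cent1_comm]
        generalize σ i = l
        fin_cases l
        exacts [hj.1.1.2, hj.1.2, hj.2]
      have := mul_mem (zpowers_le.2 (mem_cent1_comm.1 hj.1.1.1) k) k1
      rw [inv_mul_cancel_right] at this
      exact mem_cent1_comm.1 this
    rw [cj_inf, cj_inf, cj_inf, cj_cent1, cj_cent1, cj_cent1, cj_cent1, mem_cent1.1 h.sQ.2, mul_inv_cancel_right]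
    exact ⟨⟨⟨hj.1.1.1, c 0⟩, c 1⟩, c 2⟩
  · have k := a'J h 0
    have := tr_tv h.toB2 h.sQ.2 h.sT k.1.1.1 (h.toB2.comm_A h.fm k.1.1.1 (F3.I2b.fixJ k)).1
      (zpowers_le.2 (yQ h) (h'.comm _ h.sQ.1 _ (conj_mem_cj.2 (I2a.aQ h.toB2 h.fm 0))))
      ((ty_zero h.toB2 h.fm (stJ k i)).1 e)
    exact conj_mem_cj.1 ((QQ h).ge this)

end Cfsg.Agent.TE6
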