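import Cfsg.Agent.TE6.K1
import Cfsg.Agent.TE6.BasB

/-! Project TE6: a conjugate of `z` in the base group is trivial on no factor. -/

set_option autoImplicit false

namespace Cfsg.Agent.TE6

open Subgroup H49 T3.Fr2 F3

variable {G : Type*} [Group G] [Finite G] {z : G} {Q R : Subgroup G} {Qs : Fin 3 → Subgroup G}
  {r : Fin 3 → G}

namespace K2

theorem kill (h : B2 z Q Qs r R) {a b : Fin 3 → G} (f : ∀ i, Fm z (Qs i) (r i) (a i) (b i)) {u w : G}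
    (hu : u ∈ Q ⊓ 𝒞[a 0] ⊓ 𝒞[a 1] ⊓ 𝒞[a 2]) (hw : w ∈ Q ⊓ 𝒞[a 0] ⊓ 𝒞[a 1]) (n2 : w ∉ 𝒞[a 2])
    (c : Commute w u) : ∃ k l m : ℕ, u = z ^ k * a 0 ^ l * a 1 ^ m := by
  obtain ⟨k, l, m, n, rfl⟩ := (h.mem_A f).1 hu
  refine ⟨k, l, m, ?_⟩
  have c0 : Commute w z := mem_cent1.1 (h.Qc hw.1.1)
  have c1 : Commute w (a 0) := mem_cent1.1 hw.1.2
  have c2 : Commute w (a 1) := mem_cent1.1 hw.2
  have c3 := ((c0.pow_right k).mul_right (c1.pow_right l)).mul_right (c2.pow_right m)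
  have c4 : Commute w (a 2 ^ n) := by
    have := c3.inv_right.mul_right c
    rwa [inv_mul_cancel_left] at this
  have aQ := h.le 2 (f 2).aW
  have e := (Fa.bt_zero h.toE1 hw.1.1 (pow_mem aQ n)).2 c4
  rw [Fa.bt_pow_right h.toE1 hw.1.1 aQ] at e
  have e2 : bt z w (a 2) ≠ 0 := fun k => n2 (mem_cent1.2 ((Fa.bt_zero h.toE1 hw.1.1 aQ).1 k))
  have : Fact (Nat.Prime 3) := ⟨Nat.prime_three⟩
  have e3 : (n : ZMod 3) = 0 := (mul_eq_zero.1 e).resolve_right e2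
  rw [← zp_natCast (h.exp _ aQ), e3, zp_zero, mul_one]

theorem main (h1 : C1 z Q Qs r R) (w : WC z Q) {g : G} (hy : g * z * g⁻¹ ∈ 𝒞[z])
    (hn : g * z * g⁻¹ ∉ zpowers z) (t : Ba Qs (g * z * g⁻¹))
    (tv : Tv z (Qs 2) (g * z * g⁻¹)) : False := by
  have h := h1.toB2
  have e1 := h.toE1
  have n0 : ¬ Tv z (Qs 0) (g * z * g⁻¹) := fun k => k1 h w hy hn t (by decide) k tv
  have n1 : ¬ Tv z (Qs 1) (g * z * g⁻¹) := fun k => k1 h w hy hn t (by decide) k tv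
  have lb : g * z * g⁻¹ ∉ 𝒞(Qs 2) := fun c => hn (h1.lb hy c)
  obtain ⟨NW, NC, cN, -⟩ := wn h hy (h.zn w hn)
  obtain ⟨Q', Qs', r', R', h', w', eQ, p1⟩ : ∃ Q' Qs' r' R', B2 (g * z * g⁻¹) Q' Qs' r' R' ∧
      WC (g * z * g⁻¹) Q' ∧ cj g Q = Q' ∧
      ∀ u k, u ∈ Q → u ∈ Q' → k * (g * z * g⁻¹) * k⁻¹ = g * z * g⁻¹ * u → u = 1 :=
    ⟨_, _, _, _, h.conj g, w.conj g, rfl, fun u k => h.p1 w hn⟩
  rw [eQ] at NW NC cN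
  have y3 : (g * z * g⁻¹) ^ 3 = 1 := by rw [conj_pow, Fa.z3' e1]; simp
  generalize g * z * g⁻¹ = y at *
  have zy : zpowers z ≤ 𝒞[y] := zpowers_le.2 (mem_cent1_comm.1 hy)
  obtain ⟨a, b, f, ha, a2⟩ : ∃ a b : Fin 3 → G, (∀ i, Fm z (Qs i) (r i) (a i) (b i)) ∧
      (∀ i, y * a i * y⁻¹ * (a i)⁻¹ ∈ zpowers z) ∧ a 2 ∈ 𝒞[y] := by
    have : ∀ i, ∃ a b, Fm z (Qs i) (r i) a b ∧ y * a * y⁻¹ * a⁻¹ ∈ zpowers z ∧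
        (i = 2 → a ∈ 𝒞[y]) := fun i => by
      by_cases hi : i = 2
      · subst hi
        obtain ⟨u, hu, hz⟩ : ∃ u ∈ Qs 2 ⊓ 𝒞[y], u ∉ zpowers z := by
          by_contra k
          push Not at k
          have k1 := e1.card_le_tv (h.le 2) hy tv
          have k2 := card_le_of_le (show Qs 2 ⊓ 𝒞[y] ≤ zpowers z from k)
          rw [Nat.card_zpowers, h.z3] at k2
          rw [h.cards] at k1
          omega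
        obtain ⟨a, b, f, e⟩ := h.basis 2 hu.1 hz
        exact ⟨a, b, f, tv a f.aW, fun _ => by simpa using mul_mem (zy e) hu.2⟩
      · obtain ⟨a, b, f, e⟩ := h.fixl ⟨hy, t i⟩ (y3 ▸ one_mem _)
        exact ⟨a, b, f, e, fun k => (hi k).elim⟩
    choose a b f ha a2 using this
    exact ⟨a, b, f, ha, a2 2 rfl⟩
  obtain ⟨-, -, c1, c2⟩ := h.comm_A f hy ha
  have cA := h.card_A f
  have f2 := f 2
  have aQ := h.le 2 f2.aW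
  have bQ := h.le 2 f2.bW
  have bM : b 2 ∈ Q ⊓ 𝒞[a 0] ⊓ 𝒞[a 1] :=
    ⟨⟨bQ, mem_cent1.2 (h.QQ 2 0 (by decide) f2.bW _ (f 0).aW).symm⟩,
      mem_cent1.2 (h.QQ 2 1 (by decide) f2.bW _ (f 1).aW).symm⟩
  have b2a : b 2 ∉ 𝒞[a 2] := fun k => IIb.ncomm e1 f2 (mem_cent1.1 k).symm
  have aA2 : a 2 ∈ Q ⊓ 𝒞[a 0] ⊓ 𝒞[a 1] ⊓ 𝒞[a 2] := (h.mem_A f).2 ⟨0, 0, 0, 1, by simp⟩
  have kl := fun {u w} => kill h f (u := u) (w := w)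
  have MA : Q ⊓ 𝒞[a 0] ⊓ 𝒞[a 1] ≤ 𝒞(Q ⊓ 𝒞[a 0] ⊓ 𝒞[a 1] ⊓ 𝒞[a 2] ⊓ 𝒞(Qs 2)) :=
    le_cent_iff.2 fun q hq u hu => by
      obtain ⟨k, l, m, rfl⟩ := kl hu.1 bM b2a (hu.2 _ f2.bW)
      have c0 : Commute q z := mem_cent1.1 (h.Qc hq.1.1)
      have c1 : Commute q (a 0) := mem_cent1.1 hq.1.2
      have c2 : Commute q (a 1) := mem_cent1.1 hq.2
      exact (((c0.pow_right k).mul_right (c1.pow_right l)).mul_right (c2.pow_right m)).symm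
  have inA : ∀ k l m : ℕ, z ^ k * a 0 ^ l * a 1 ^ m ∈ 𝒞(Qs 2) := fun k l m =>
    mul_mem (mul_mem (pow_mem (le_cent1_iff.1 ((h.le 2).trans h.Qc)) _)
      (pow_mem (h.QQ 0 2 (by decide) (f 0).aW) _)) (pow_mem (h.QQ 1 2 (by decide) (f 1).aW) _)
  have WM : Q ⊓ 𝒞[y] ≤ Q ⊓ 𝒞[a 0] ⊓ 𝒞[a 1] := fun q hq => by
    have : y * q * y⁻¹ * q⁻¹ ∈ zpowers z := by rw [← mem_cent1.1 hq.2]; simp
    exact ⟨⟨hq.1, c2 q hq.1 this 0 n0⟩, c2 q hq.1 this 1 n1⟩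
  have A0M : Q ⊓ 𝒞[a 0] ⊓ 𝒞[a 1] ⊓ 𝒞[a 2] ≤ Q ⊓ 𝒞[a 0] ⊓ 𝒞[a 1] := inf_le_left
  have A0a : Q ⊓ 𝒞[a 0] ⊓ 𝒞[a 1] ⊓ 𝒞[a 2] ≤ 𝒞[a 2] := inf_le_right
  have MA0 : ∀ q ∈ Q ⊓ 𝒞[a 0] ⊓ 𝒞[a 1], q ∈ 𝒞[a 2] → q ∈ Q ⊓ 𝒞[a 0] ⊓ 𝒞[a 1] ⊓ 𝒞[a 2] :=
    fun q h1 h2 => ⟨h1, h2⟩
  have MQ : Q ⊓ 𝒞[a 0] ⊓ 𝒞[a 1] ≤ Q := fun q hq => hq.1.1
  generalize Q ⊓ 𝒞[a 0] ⊓ 𝒞[a 1] ⊓ 𝒞[a 2] = A0 at *
  generalize Q ⊓ 𝒞[a 0] ⊓ 𝒞[a 1] = M at *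
  have A0Q : A0 ≤ Q := A0M.trans MQ
  have cA1 : Nat.card ↥(A0 ⊓ 𝒞(Qs 2)) ≤ 27 := by
    have k1 : Nat.card ↥(A0 ⊓ 𝒞(Qs 2)) ∣ 3 ^ 4 := (card_dvd_of_le inf_le_left).trans (by rw [cA]; norm_num)
    obtain ⟨k, k2, k3⟩ := (Nat.dvd_prime_pow Nat.prime_three).1 k1
    have : k ≠ 4 := by
      rintro rfl
      exact IIb.ncomm e1 f2 (((eq_of_le_of_card_eq inf_le_left (k3.trans cA.symm)).ge aA2).2 _
        f2.bW).symm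
    rw [k3]
    exact Nat.pow_le_pow_right (by norm_num) (show k ≤ 3 by omega)
  have cA2 : 27 ≤ Nat.card ↥(A0 ⊓ 𝒞(Qs 2)) := by
    have k1 := e1.card_le_cent A0Q bQ
    have k2 : Nat.card ↥(A0 ⊓ 𝒞[b 2]) ≤ Nat.card ↥(A0 ⊓ 𝒞(Qs 2)) := card_le_of_le fun u hu =>
      ⟨hu.1, IIb.cent_fm f2 (h.Qc (A0Q hu.1)) (A0a hu.1) hu.2⟩
    omega
  have cM : Nat.card M ≤ 243 := by
    have k1 := perp_card e1 (inf_le_left.trans A0Q) MQ MA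
    have k2 : Nat.card ↥(A0 ⊓ 𝒞(Qs 2) ⊓ zpowers z) ≤ 3 :=
      (card_le_of_le inf_le_right).trans (Bas1a.cardZ e1).le
    rw [h.card] at k1
    nlinarith
  have hP : IsPGroup 3 ↥(Q ⊓ 𝒞[y]) := e1.isP.to_le inf_le_left
  have hC : Nat.card ↥(Q ⊓ 𝒞[y]) ≤ 81 := by
    have k1 : Q ⊓ 𝒞[y] < M := lt_of_le_of_ne WM fun e =>
      lb (IIb.cent_fm f2 hy (mem_cent1_comm.1 a2) (mem_cent1_comm.1 (e.ge bM).2))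
    have k2 := card_lt_of_lt k1
    obtain ⟨k, hk⟩ := MC3.card_pow_of_isP hP
    exact T3.pow3_le (n := 4) hk (by omega)
  obtain ⟨k1', k2⟩ := T3.conj_count (Q := Q) (A := A0 ⊓ 𝒞(Qs 2)) (y := y) fun q hq =>
    ⟨c1 q hq, by
      rw [show q * y * q⁻¹ * y⁻¹ = (y * q * y⁻¹ * q⁻¹)⁻¹ by group]
      exact (𝒞(Qs 2)).inv_mem fun u hu => ((Fa.bt_zero e1 (mul_mem (Fa.conjQ e1 hy hq) (inv_mem hq))
        (h.le 2 hu)).1 (Fa.bt_dis e1 hy hq (h.le 2 hu)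
          ((Fa.sc_one e1 hy (h.le 2 hu)).2 (tv u hu)))).symm⟩
  rw [h.card] at k1' k2
  have k3 := k2 (by nlinarith)
  have k4 : 81 ≤ Nat.card ↥(Q ⊓ 𝒞[y]) := by nlinarith
  have tr : ∀ u ∈ A0 ⊓ 𝒞(Qs 2), u ∈ Q' → u = 1 := fun u hu hu' => by
    obtain ⟨k, -, e⟩ := k3 u hu
    exact p1 u k (A0Q hu.1) hu' (e.trans (mem_cent1.1 (NW ⟨A0Q hu.1, hu'⟩).2))
  by_cases hW : Q ⊓ 𝒞[y] ≤ 𝒞[a 2]
  · have eC : Q ⊓ 𝒞[y] = A0 := eq_of_le_of_card_eq (fun q hq => MA0 q (WM hq) (hW hq)) (by omega)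
    have Ay : A0 ⊓ 𝒞(Qs 2) ≤ 𝒞[y] := fun u hu => (eC.ge hu.1).2
    obtain ⟨u, hu, uQ, ub, t1, t2⟩ := ab27 h' (T := A0 ⊓ 𝒞(Qs 2))
      (e1.isP.to_le (inf_le_left.trans A0Q)) Ay (fun u hu v hv => by
        rw [MA (A0M hv.1) u hu]; simp) (by
        have e : A0 ⊓ 𝒞(Qs 2) ⊓ Q' = ⊥ := eq_bot_iff.2 fun u hu => tr u hu.1 hu.2
        rw [e, card_bot]; omega)
    obtain ⟨k, -, e⟩ := k3 u hu
    have tt : ∀ i, Tv y (Qs' i) u → Tv y (Qs' i) (u * y) := fun i tv q hq => by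
      have c := mem_cent1.1 (h'.Qc (h'.le i hq))
      have e2 : u * y * q * (u * y)⁻¹ * q⁻¹ = u * q * u⁻¹ * q⁻¹ := by
        rw [mul_assoc u y q, ← c]; group
      rw [e2]; exact tv q hq
    refine k1 h' w' (g := k) (i := 1) (j := 2) ?_ ?_ ?_ (by decide) ?_ ?_ <;> rw [e]
    · exact mul_mem (Ay hu) (self_mem_cent1 y)
    · exact fun m => uQ (Fa.ZQ h'.toE1 ((mul_mem_cancel_right (mem_zpowers y)).1 m))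
    · exact fun i => mul_mem (ub i) (h'.QN i h'.zQ)
    · exact tt 1 t1
    · exact tt 2 t2
  · obtain ⟨v, hv, v2⟩ := SetLike.not_le_iff_exists.1 hW
    obtain ⟨u, hu, u1⟩ : ∃ u ∈ Q ⊓ Q', u ≠ 1 := ne_bot_iff_exists.1 fun e => by
      rw [e, card_bot] at cN
      omega
    have uA : u ∈ A0 := MA0 u (WM (NW hu)) (mem_cent1.2 (NC hu _ ⟨aQ, a2⟩).symm)
    obtain ⟨k, l, m, e⟩ := kl uA (WM hv) v2 (NC hu _ hv)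
    exact u1 (tr u ⟨uA, e ▸ inA k l m⟩ hu.2)

end K2

/-- notes/TE6.md, section K2 -/
theorem C1.iib (h : C1 z Q Qs r R) (w : WC z Q) {g : G} (hy : g * z * g⁻¹ ∈ 𝒞[z])
    (hn : g * z * g⁻¹ ∉ zpowers z) (t : Ba Qs (g * z * g⁻¹)) {i : Fin 3} (tv : Tv z (Qs i) (g * z * g⁻¹)) :
    False :=
  K2.main (h.relabel (Equiv.swap i 2)) w hy hn (fun _ => t _) (by simpa using tv)

end Cfsg.Agent.TE6
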