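/-
Project TE6: `⟨z⟩` is not weakly closed in `Q`.
-/
import Cfsg.Agent.TE6.K2
import Cfsg.Agent.F3.IIc

set_option autoImplicit false

namespace Cfsg.Agent.TE6

open Subgroup H49 T3.Fr2 F3

variable {G : Type*} [Group G] [Finite G] {z : G} {Q R : Subgroup G} {Qs : Fin 3 → Subgroup G}
  {r : Fin 3 → G}

omit [Finite G] in
theorem k3_comm (h : B2 z Q Qs r R) {i j : Fin 3} (n : i ≠ j) {u v : G} (hu : u ∈ Qs i) (hv : v ∈ Qs j) :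
    Commute u v := (h.QQ i j n hu v hv).symm

theorem k3_split (h : B2 z Q Qs r R) {a b : Fin 3 → G} (f : ∀ i, Fm z (Qs i) (r i) (a i) (b i)) {q : G}
    (hq : q ∈ Q ⊓ 𝒞[a 0] ⊓ 𝒞[a 1] ⊓ 𝒞[a 2]) (k : Fin 3) :
    ∃ (u : G) (e : ℕ), Commute u (r k) ∧ q = u * a k ^ e := by
  obtain ⟨i, l, m, n, rfl⟩ := (h.mem_A f).1 hq
  have c : ∀ i j, i ≠ j → ∀ e : ℕ, Commute (a j ^ e) (r i) := fun i j n e =>
    Commute.pow_left (h.rc i j n _ (f j).aW) e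
  have cz : ∀ k, Commute (z ^ i) (r k) := fun k => (iic_c1.1 (h.rz k)).symm.pow_left i
  have ca : ∀ i j, i ≠ j → ∀ e e' : ℕ, a i ^ e * a j ^ e' = a j ^ e' * a i ^ e := fun i j n e e' =>
    ((k3_comm h n (f i).aW (f j).aW).pow_pow e e').eq
  obtain rfl | rfl | rfl : k = 0 ∨ k = 1 ∨ k = 2 := by revert k; decide
  · exact ⟨z ^ i * a 1 ^ m * a 2 ^ n, l, ((cz 0).mul_left (c 0 1 (by decide) m)).mul_left
      (c 0 2 (by decide) n), by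
        rw [mul_assoc _ (a 0 ^ l), ca 0 1 (by decide), ← mul_assoc, mul_assoc _ (a 0 ^ l),
          ca 0 2 (by decide), ← mul_assoc]⟩
  · exact ⟨z ^ i * a 0 ^ l * a 2 ^ n, m, ((cz 1).mul_left (c 1 0 (by decide) l)).mul_left
      (c 1 2 (by decide) n), by rw [mul_assoc _ (a 1 ^ m), ca 1 2 (by decide), ← mul_assoc]⟩
  · exact ⟨z ^ i * a 0 ^ l * a 1 ^ m, n, ((cz 2).mul_left (c 2 0 (by decide) l)).mul_left
      (c 2 1 (by decide) m), rfl⟩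

theorem k3_alpha (h : C1 z Q Qs r R) (w : WC z Q) {g : G} (hy : g * z * g⁻¹ ∈ 𝒞[z])
    (hn : g * z * g⁻¹ ∉ zpowers z) (t : Ba Qs (g * z * g⁻¹)) :
    ∃ a b : Fin 3 → G, (∀ i, Fm z (Qs i) (r i) (a i) (b i)) ∧
      g * z * g⁻¹ ∈ 𝒞[z] ⊓ 𝒞[a 0] ⊓ 𝒞[a 1] ⊓ 𝒞[a 2] := by
  have y3 := iic_cube h.toE1 g
  choose a b f ha using fun i => h.fixl (i := i) ⟨hy, t i⟩ (y3 ▸ Q.one_mem)
  obtain ⟨-, -, c1, c2⟩ := h.comm_A f hy ha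
  have nt := fun i (tv : Tv z (Qs i) (g * z * g⁻¹)) => h.iib w hy hn t tv
  obtain ⟨Q', Qs', r', R', h', w', p1⟩ : ∃ Q' Qs' r' R', C1 (g * z * g⁻¹) Q' Qs' r' R' ∧
      WC (g * z * g⁻¹) Q' ∧ ∀ u k, u ∈ Q → u ∈ Q' → k * (g * z * g⁻¹) * k⁻¹ = g * z * g⁻¹ * u → u = 1 :=
    ⟨_, _, _, _, h.conj g, w.conj g, fun u k => h.p1 w hn⟩
  refine ⟨a, b, f, ?_⟩
  have cA := h.card_A f
  generalize g * z * g⁻¹ = y at *
  have aA : ∀ i, a i ∈ Q ⊓ 𝒞[a 0] ⊓ 𝒞[a 1] ⊓ 𝒞[a 2] := fun i => by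
    have k : ∀ j, a i ∈ 𝒞[a j] := fun j => by
      by_cases e : i = j
      exacts [e ▸ iic_c1.2 (Commute.refl _), iic_c1.2 (k3_comm h.toB2 e (f i).aW (f j).aW)]
    exact ⟨⟨⟨h.le i (f i).aW, k 0⟩, k 1⟩, k 2⟩
  have tvA : Tv z (Q ⊓ 𝒞[a 0] ⊓ 𝒞[a 1] ⊓ 𝒞[a 2]) y := fun q hq => by
    obtain ⟨i, l, m, n, rfl⟩ := (h.mem_A f).1 hq
    have k : ∀ q ∈ T3.St z y, y * q * y⁻¹ * q⁻¹ ∈ zpowers z :=
      fun q hq => by simpa [mul_assoc] using inv_mem hq.2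
    have k' : ∀ i, a i ∈ T3.St z y := fun i =>
      ⟨h.Qc (aA i).1.1.1, by simpa [mul_assoc] using inv_mem (ha i)⟩
    exact k _ (mul_mem (mul_mem (mul_mem (pow_mem (T3.mem_St.2 ⟨iic_c1.2 (Commute.refl _), by
      rw [← (iic_c1.1 hy).eq]; simp⟩) _) (pow_mem (k' 0) _)) (pow_mem (k' 1) _)) (pow_mem (k' 2) _))
  have CA : Q ⊓ 𝒞[y] ≤ Q ⊓ 𝒞[a 0] ⊓ 𝒞[a 1] ⊓ 𝒞[a 2] := fun q hq => by
    have k := fun i => c2 q hq.1 (by rw [← (iic_c1.1 hq.2).eq]; simp) i (nt i)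
    exact ⟨⟨⟨hq.1, k 0⟩, k 1⟩, k 2⟩
  have AQ : Q ⊓ 𝒞[a 0] ⊓ 𝒞[a 1] ⊓ 𝒞[a 2] ≤ Q := fun q hq => hq.1.1.1
  suffices H : Q ⊓ 𝒞[a 0] ⊓ 𝒞[a 1] ⊓ 𝒞[a 2] ≤ 𝒞[y] from
    ⟨⟨⟨hy, mem_cent1_comm.1 (H (aA 0))⟩, mem_cent1_comm.1 (H (aA 1))⟩, mem_cent1_comm.1 (H (aA 2))⟩
  generalize hA : Q ⊓ 𝒞[a 0] ⊓ 𝒞[a 1] ⊓ 𝒞[a 2] = A at CA AQ tvA cA c1 aA ⊢
  by_contra H
  have lo : 27 ≤ Nat.card ↥(Q ⊓ 𝒞[y]) := by
    have k := h.card_le_tv AQ hy tvA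
    have k2 : Nat.card ↥(A ⊓ 𝒞[y]) ≤ Nat.card ↥(Q ⊓ 𝒞[y]) := card_le_of_le (inf_le_inf_right _ AQ)
    omega
  have hi : Nat.card ↥(Q ⊓ 𝒞[y]) ≤ 27 := by
    have d := card_dvd_of_le CA
    have ne : Nat.card ↥(Q ⊓ 𝒞[y]) ≠ 81 := fun e =>
      H (eq_of_le_of_card_ge CA (by rw [e, cA]) ▸ inf_le_right)
    rw [cA] at d
    have := Nat.le_of_dvd (by norm_num) d
    generalize Nat.card ↥(Q ⊓ 𝒞[y]) = n at *
    interval_cases n <;> omega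
  have cc := (T3.conj_count c1).2 (by rw [cA, h.card]; omega)
  have tr : ∀ u ∈ Q ⊓ 𝒞[y], u ∈ Q' → u = 1 := fun u hu hu' => by
    obtain ⟨k, -, e⟩ := cc u (CA hu)
    exact p1 u k hu.1 hu' (e.trans (iic_c1.1 hu.2).eq)
  have hP : IsPGroup 3 ↥(Q ⊓ 𝒞[y]) := h.isP.to_le inf_le_left
  have ba : ∀ c ∈ Q ⊓ 𝒞[y], Ba Qs' c := fun c hc => by
    refine (h'.three (k := 1) hc.2 (by rw [pow_one, h.exp c hc.1]; exact one_mem _)).resolve_right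
      fun tc => ?_
    have k := ab9 h'.toB2 hP inf_le_right hc tc fun d hd => by
      obtain ⟨i, l, m, n, e⟩ := (h.mem_A f).1 (hA ▸ CA hd)
      have c1 := hA ▸ CA hc
      have cd : Commute c d := by
        rw [e]
        exact (((iic_c1.1 (h.Qc c1.1.1.1)).pow_right i |>.mul_right ((iic_c1.1 c1.1.1.2).pow_right l)).mul_right
          ((iic_c1.1 c1.1.2).pow_right m)).mul_right ((iic_c1.1 c1.2).pow_right n)
      rw [cd.eq, mul_inv_cancel_right, mul_inv_cancel]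
      exact one_mem _
    have e : Q ⊓ 𝒞[y] ⊓ Q' = ⊥ := eq_bot_iff.2 fun u hu => tr u hu.1 hu.2
    rw [e, card_bot] at k
    omega
  obtain ⟨T0, le, cT, tv⟩ := h'.exists_tv (i := 0) hP inf_le_right fun c hc => ba c hc 0
  obtain ⟨u, hu, u1⟩ : ∃ u ∈ T0, u ≠ 1 := by
    by_contra! k
    have e : T0 = ⊥ := eq_bot_iff.2 k
    rw [e, card_bot] at cT
    omega
  obtain ⟨k, -, e⟩ := cc u (CA (le hu))
  refine h'.iib w' (g := k) (i := 0) ?_ ?_ ?_ ?_ <;> rw [e]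
  · exact mul_mem (le hu).2 (iic_c1.2 (Commute.refl _))
  · exact fun m => u1 (tr u (le hu) (Fa.ZQ h'.toE1 ((mul_mem_cancel_right (mem_zpowers y)).1 m)))
  · exact fun i => mul_mem (ba u (le hu) i) (h'.QN i h'.zQ)
  · intro q hq
    have c := (iic_c1.1 (h'.Qc (h'.le 0 hq))).eq
    have e2 : u * y * q * (u * y)⁻¹ * q⁻¹ = u * q * u⁻¹ * q⁻¹ := by
      rw [mul_assoc u y q, ← c]; group
    rw [e2]; exact tv u hu q hq

/-- two commuting involutions inverting `u`, `v` -/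
theorem k3_two (h : B2 z Q Qs r R) {u v s t : G} (hu : u ∈ 𝒞[z]) (hv : v ∈ 𝒞[z]) (hs : s ∈ 𝒞[z])
    (ht : t ∈ 𝒞[z]) (u3 : u ^ 3 = 1) (v3 : v ^ 3 = 1) (ss : s * s = 1) (tt : t * t = 1) (c : Commute s t)
    (su : s * u * s⁻¹ = u⁻¹) (tv : t * v * t⁻¹ = v⁻¹) (tu : Commute t u) : u ∈ Q ∨ v ∈ Q := by
  by_contra! H
  obtain ⟨σ, -, hσ⟩ := h.permHom
  have k : ∀ (s : 𝒞[z]) (u : G), u ∈ 𝒞[z] → u ^ 3 = 1 → (s : G) * s = 1 → s * u * (s : G)⁻¹ = u⁻¹ →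
      σ s = 1 → u ∈ Q := fun s u hu u3 ss su e =>
    h.not_inv s.2 (fun i => (hσ s i).2 (by rw [e]; rfl)) (ss ▸ one_mem _) hu (u3 ▸ one_mem _)
      (by rw [su, inv_mul_cancel]; exact one_mem _)
  have e := iic_perm1 (σ ⟨s, hs⟩) (σ ⟨t, ht⟩) (fun e => H.1 (k _ u hu u3 ss su e))
    (fun e => H.2 (k _ v hv v3 tt tv e)) (by rw [← map_mul, ← map_one σ]; congr 1; exact Subtype.ext ss)
    (by rw [← map_mul, ← map_one σ]; congr 1; exact Subtype.ext tt)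
    (by rw [← map_mul, ← map_mul]; congr 1; exact Subtype.ext c.eq)
  rw [← map_mul] at e
  refine H.1 (k _ u hu u3 ?_ ?_ e)
  · show s * t * (s * t) = 1
    rw [mul_assoc, ← mul_assoc t, ← c.eq, mul_assoc, tt, mul_one, ss]
  · show s * t * u * (s * t)⁻¹ = u⁻¹
    rw [← su, mul_assoc s, tu.eq]; group

theorem k3_nf (h : C1 z Q Qs r R) (w : WC z Q) {g : G} (hy : g * z * g⁻¹ ∈ 𝒞[z])
    (hn : g * z * g⁻¹ ∉ zpowers z) (t : Ba Qs (g * z * g⁻¹)) :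
    ∃ a b : Fin 3 → G, (∀ i, Fm z (Qs i) (r i) (a i) (b i)) ∧ ∃ k ∈ Q, ∃ x, x = k * g * z * (k * g)⁻¹ ∧
      x ∉ zpowers z ∧ x ∈ 𝒞[z] ⊓ 𝒞[a 0] ⊓ 𝒞[a 1] ⊓ 𝒞[a 2] ∧ (∀ i, Commute x (r i)) ∧
      (∀ i j, i ≠ j → a i ∈ cj (k * g) Q ∨ a j ∈ cj (k * g) Q) ∧
      ∃ ε : Fin 3 → ℤ, (∀ i, ε i = 1 ∨ ε i = -1) ∧ ∀ n : Fin 3 → ℤ, ∃ q ∈ Q, q * x * q⁻¹ =
        x * a 0 ^ n 0 * a 1 ^ n 1 * a 2 ^ n 2 * z ^ (ε 0 * n 0 ^ 2 + ε 1 * n 1 ^ 2 + ε 2 * n 2 ^ 2) := by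
  obtain ⟨a, b, f, ha⟩ := k3_alpha h w hy hn t
  obtain ⟨k, hk, x, ex, hx, xr, hε⟩ := h.norm3 f ha fun i tv => h.iib w hy hn t tv
  have ex' : x = k * g * z * (k * g)⁻¹ := by rw [ex]; group
  refine ⟨a, b, f, k, hk, x, ex', fun m => hn ?_, hx, xr, fun i j n => ?_, hε⟩
  · have e : g * z * g⁻¹ = k⁻¹ * x * k⁻¹⁻¹ := by rw [ex]; group
    rw [e, T3.conj_Z m (inv_mem (h.Qc hk))]; exact m
  · have xa : ∀ i, a i ∈ 𝒞[x] := fun i => by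
      obtain rfl | rfl | rfl : i = 0 ∨ i = 1 ∨ i = 2 := by revert i; decide
      exacts [mem_cent1_comm.1 hx.1.1.2, mem_cent1_comm.1 hx.1.2, mem_cent1_comm.1 hx.2]
    have h' := h.conj (k * g)
    rw [← ex'] at h'
    exact k3_two h'.toB2 (xa i) (xa j) (iic_c1.2 (xr i).symm) (iic_c1.2 (xr j).symm)
      (h.exp _ (h.le i (f i).aW)) (h.exp _ (h.le j (f j).aW)) (h.rr i) (h.rr j)
      (iic_c1.1 (h.Rr j (h.rR i))) (f i).ρa (f j).ρa (Commute.symm (h.rc j i n.symm _ (f i).aW))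

theorem k3_L2 (h : C1 z Q Qs r R) (w : WC z Q) {g : G} (hy : g * z * g⁻¹ ∈ 𝒞[z])
    (hn : g * z * g⁻¹ ∉ zpowers z) (t : Ba Qs (g * z * g⁻¹)) :
    ∃ i j, i ≠ j ∧ (∃ d ∈ Qs i, d ∈ cj g Q ∧ d ∉ zpowers z) ∧ ∃ d ∈ Qs j, d ∈ cj g Q ∧ d ∉ zpowers z := by
  obtain ⟨a, b, f, k, hk, x, -, -, -, -, two, -⟩ := k3_nf h w hy hn t
  have H : ∀ i, a i ∈ cj (k * g) Q → ∃ d ∈ Qs i, d ∈ cj g Q ∧ d ∉ zpowers z := fun i hi => by
    refine ⟨k⁻¹ * a i * k, ?_, ?_, fun m => h.aZ (f i) ?_⟩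
    · simpa using (mem_normalizer_iff.1 (inv_mem (h.QN i hk)) _).1 (f i).aW
    · simpa [mul_assoc] using hi
    · have e : a i = k * (k⁻¹ * a i * k) * k⁻¹ := by group
      rw [e, T3.conj_Z m (h.Qc hk)]; exact m
  rcases two 0 1 (by decide) with h0 | h1
  · rcases two 1 2 (by decide) with h1 | h2
    exacts [⟨0, 1, by decide, H 0 h0, H 1 h1⟩, ⟨0, 2, by decide, H 0 h0, H 2 h2⟩]
  · rcases two 0 2 (by decide) with h0 | h2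
    exacts [⟨0, 1, by decide, H 0 h0, H 1 h1⟩, ⟨1, 2, by decide, H 1 h1, H 2 h2⟩]

theorem C1.iic (h : C1 z Q Qs r R) (w : WC z Q) {g : G} (hy : g * z * g⁻¹ ∈ 𝒞[z])
    (hn : g * z * g⁻¹ ∉ zpowers z) (t : Ba Qs (g * z * g⁻¹)) : False := by
  obtain ⟨a, b, f, k, hk, x, ex, xn, hx, xr, -, ε, hε, cl⟩ := k3_nf h w hy hn t
  generalize k * g = g1 at ex
  clear hy hn t hk k g
  have xa : ∀ i, a i ∈ 𝒞[x] := fun i => by
    obtain rfl | rfl | rfl : i = 0 ∨ i = 1 ∨ i = 2 := by revert i; decide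
    exacts [mem_cent1_comm.1 hx.1.1.2, mem_cent1_comm.1 hx.1.2, mem_cent1_comm.1 hx.2]
  have aQ : ∀ i, a i ∈ Q := fun i => h.le i (f i).aW
  have xz : x ∈ 𝒞[z] := hx.1.1.1
  obtain ⟨bx, -, -, c2⟩ := h.comm_A f xz fun i => by rw [← (iic_c1.1 (xa i)).eq]; simp
  have nt : ∀ i, ¬ Tv z (Qs i) x := fun i tv => by subst ex; exact h.iib w xz xn bx tv
  have h' := h.conj g1
  have w' := w.conj g1
  have p1 := fun u k => h.p1 w (g := g1) (ex ▸ xn) (u := u) (k := k)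
  have zn := h.zn w (g := g1) (ex ▸ xn)
  have L2 := k3_L2 h' w' (g := g1⁻¹)
  rw [show g1⁻¹ * (g1 * z * g1⁻¹) * g1⁻¹⁻¹ = z by group, cj_inv_cj] at L2
  rw [← ex] at h' w' p1 L2
  obtain ⟨k, ak⟩ : ∃ k, a k ∉ cj g1 Q := by
    by_contra! H
    obtain ⟨n, ⟨m, e⟩, n0⟩ := iic_eps hε
    obtain ⟨q, -, eq⟩ := cl n
    have z1 : z ^ (3 * m) = 1 := by
      rw [zpow_mul, show z ^ (3 : ℤ) = 1 by exact_mod_cast Fa.z3' h.toE1, one_zpow]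
    rw [e, z1, mul_one, mul_assoc x, mul_assoc x] at eq
    have u1 := p1 _ _ (mul_mem (mul_mem (zpow_mem (aQ 0) _) (zpow_mem (aQ 1) _)) (zpow_mem (aQ 2) _))
      (mul_mem (mul_mem (zpow_mem (H 0) _) (zpow_mem (H 1) _)) (zpow_mem (H 2) _)) eq
    exact n0 (h.inj_A f (k := 0) (l := n 0) (m := n 1) (n := n 2) (by rw [zpow_zero, one_mul, u1])).2.1
  have rx : r k ∈ 𝒞[x] := iic_c1.2 (xr k).symm
  have a3 := h.exp _ (aQ k)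
  have D : ∀ d ∈ Q, d ∈ cj g1 Q → Commute d (r k) := fun d hd hd' => by
    have k1 := fun i => c2 d hd (by rw [← (iic_c1.1 (h'.Qc hd')).eq]; simp) i (nt i)
    obtain ⟨u, e, c, rfl⟩ := k3_split h.toB2 f ⟨⟨⟨hd, k1 0⟩, k1 1⟩, k1 2⟩ k
    have m1 := Fa.conjQ h'.toE1 rx hd'
    have e1 : r k * (u * a k ^ e) * (r k)⁻¹ = u * (a k ^ e)⁻¹ := by
      rw [← inv_pow, ← (f k).ρa, conj_pow, ← mul_assoc, ← c.eq]; group
    have m2 : a k ^ e * a k ^ e ∈ cj g1 Q := by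
      have := mul_mem (inv_mem m1) hd'
      rwa [e1, show (u * (a k ^ e)⁻¹)⁻¹ * (u * a k ^ e) = a k ^ e * a k ^ e by group] at this
    have sq : ∀ v : G, v ^ 3 = 1 → v * v ∈ cj g1 Q → v ∈ cj g1 Q := fun v v3 m => by
      have := mul_mem m m
      rwa [show v * v * (v * v) = v ^ 3 * v by simp only [pow_succ, pow_zero, one_mul, mul_assoc], v3,
        one_mul] at this
    have m3 := sq _ (by rw [← pow_mul, mul_comm, pow_mul, a3, one_pow]) m2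
    rw [pow_eq_pow_mod e a3] at m3 ⊢
    have : e % 3 < 3 := Nat.mod_lt _ (by norm_num)
    generalize e % 3 = s at *
    interval_cases s
    · simpa using c
    · exact absurd (by simpa using m3) ak
    · exact absurd (sq _ a3 (by rwa [pow_two] at m3)) ak
  have zx : z ∈ 𝒞[x] := mem_cent1_comm.1 xz
  have br : Ba (fun i => cj g1 (Qs i)) (r k) := by
    rcases h'.three (k := 1) zx (by rw [pow_one, Fa.z3' h.toE1]; exact one_mem _) with bz | tz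
    · obtain ⟨i, j, n, ⟨d, di, dQ, dn⟩, d', dj, dQ', dn'⟩ := L2 zx (fun m => zn (Fa.ZQ h'.toE1 m)) bz
      refine h'.ba_of_two rx n (h'.norm_of rx di dn ?_) (h'.norm_of rx dj dn' ?_)
      · rwa [← (D d dQ (h'.le i di)).eq, mul_inv_cancel_right]
      · rwa [← (D d' dQ' (h'.le j dj)).eq, mul_inv_cancel_right]
    · obtain ⟨σ, -, hσ⟩ := h'.permHom
      have e := iic_perm2 (σ ⟨z, zx⟩) (σ ⟨r k, rx⟩) (fun i e => tz i ((hσ ⟨z, zx⟩ i).2 e))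
        (by rw [← map_mul, ← map_one σ]; congr 1; exact Subtype.ext (h.rr k))
        (by rw [← map_mul, ← map_mul]; congr 1; exact Subtype.ext (iic_c1.1 (h.rz k)).symm.eq)
      exact fun i => (hσ ⟨r k, rx⟩ i).2 (by rw [e]; rfl)
  exact ak (h'.not_inv rx br (by rw [h.rr]; exact one_mem _) (xa k) (by rw [a3]; exact one_mem _)
    (by rw [(f k).ρa, inv_mul_cancel]; exact one_mem _))

/-- `⟨z⟩` is not weakly closed in `Q` -/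
theorem C1.nwc (h : C1 z Q Qs r R) {g : G} (hy : g * z * g⁻¹ ∈ 𝒞[z]) (hn : g * z * g⁻¹ ∉ zpowers z) :
    ¬ WC z Q := fun w => by
  rcases h.three (k := 1) hy (by rw [pow_one, iic_cube h.toE1]; exact one_mem _) with t | t
  · exact h.iic w hy hn t
  · obtain ⟨k, k1, k2, k3⟩ := P.tr_red2 h.toB2 w hy hn t
    exact (h.conj g).iic (w.conj g) k1 k2 k3

end Cfsg.Agent.TE6
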