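import Cfsg.Agent.TE6.OmA

set_option autoImplicit false

namespace Cfsg.Agent.TE6

open Subgroup H49 T3.Fr2 F3

variable {G : Type*} [Group G] [Finite G] {z : G} {Q R : Subgroup G} {Qs : Fin 3 → Subgroup G}
  {r : Fin 3 → G} {a b : Fin 3 → G} {p s x : G} {J : Subgroup G}

theorem CB.ob_pp (h : CB z Q Qs r R a b p s J) : cj p (cj p Q) = Q := by
  have e : p * p * z * (p * p)⁻¹ = z⁻¹ := by rw [← h.py, ← h.pz]; group
  rw [cj_cj]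
  exact cj_eq_of_mem_norm (h.nQ (mem_norm_iff_cj.2 (by rw [cj_zpowers, e, zpowers_inv])))

theorem CB.ob_a0 (h : CB z Q Qs r R a b p s J) : a 0 ∉ cj p Q := fun m => by
  obtain ⟨n, hn, nc⟩ := h.nex
  have e1 := h.toB2.toE1
  have e' := e1.conj p
  obtain ⟨yQ, hb⟩ := h.oa_bt_ph (x := 1) (v := ![0, 1, 1, 1, 0]) rfl 0
  have ey : ph z a 1 ![0, 1, 1, 1, 0] = p * z * p⁻¹ := by
    rw [h.pz]
    show z ^ 0 * a 0 ^ 1 * a 1 ^ 1 * a 2 ^ 1 * 1 ^ 0 = _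
    simp
  rw [ey] at hb
  have := P.eq_one e'.z3 (e'.comm n hn.2 _ m) (h.comm n hn.1 _ (I2a.aQ h.toB2 h.fm 0)) fun hz => by
    rw [Fa.bt_Z_right e1 (I2a.bQ h.toB2 h.fm 0) hz] at hb
    exact absurd hb (by decide)
  exact nc (mul_inv_eq_iff_eq_mul.1 (mul_inv_eq_one.1 this))

theorem ob_d1 : ∀ t0 t1 t2 : ZMod 3, t0 + t1 + t2 = 0 → t0 ≠ 0 → t1 ≠ 0 → t2 ≠ 0 →
    t0 * t0 = 1 ∧ t0 * t1 = 1 ∧ t0 * t2 = 1 := by decide

theorem ob_d2 : ∀ t f : ZMod 3, t ≠ 0 → (t • ![0, 1, 1, -1, 0] ≠ (0 : V5) ∧ F (t • ![0, 1, 1, -1, 0]) = 0) ∧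
    (f ≠ 0 → F (t • ![0, 1, 1, -1, 0] + f • -![0, 1, 1, 1, 0]) ≠ 0) := by decide +kernel

/-- An element of type `(1,1,1)` conjugate to `z` whose products with `z^{±1}` are not. -/
theorem CB.ob_x1 (h : CB z Q Qs r R a b p s J) :
    ∃ x ∈ J, (∀ i, ty z b x i = 1) ∧ IsConj z x ∧ ∀ f, f ≠ 0 → ¬ IsConj z (x * zp z f) := by
  have h2 := h.toB2
  have e1 := h2.toE1
  have e' := e1.conj p
  have o := h.oa_oj (one_mem J)
  have aQ := I2a.aQ h2 h.fm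
  have ey : ph z a 1 ![0, 1, 1, 1, 0] = a 0 * a 1 * a 2 := by
    show z ^ 0 * a 0 ^ 1 * a 1 ^ 1 * a 2 ^ 1 * 1 ^ 0 = _
    simp
  obtain ⟨w, hw⟩ : ∃ w, w = ph z a 1 ![0, 1, 1, -1, 0] := ⟨_, rfl⟩
  have wQ : w ∈ Q := hw ▸ (h.oa_bt_ph (x := 1) (v := ![0, 1, 1, -1, 0]) rfl 0).1
  have xJ : p * w * p⁻¹ ∈ J := (mem_normalizer_iff.1 h.pJ _).1 (hw ▸ o.mem _)
  have xQ : p * w * p⁻¹ ∉ Q := fun m => by
    rw [← h.ob_pp, conj_mem_cj] at m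
    have e : a 2 = w * (a 0 * a 1 * a 2)⁻¹ := by
      rw [hw, ← ey, ← o.neg, ← o.add]
      refine (oa_ph_ix (z := z) (a := a) (x := 1) 2).symm.trans (congrArg _ ?_)
      decide +kernel
    have m2 : a 2 ∈ cj p Q := e ▸ mul_mem m (inv_mem (h.pz ▸ e'.zQ))
    exact h.ob_a0 (by simpa using mul_mem (h.aa 0 2) m2)
  have t0 : ∀ i, ty z b (p * w * p⁻¹) i ≠ 0 := fun i e => xQ (tr_tv h2 h.sQ.2 h.sT (h.oa_St xJ i).1
    (h2.comm_A h.fm (h.oa_St xJ i).1 fun l => (h.oa_St xJ l).2).1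
    (zpowers_le.2 (h.pz ▸ mul_mem (mul_mem (aQ 0) (aQ 1)) (aQ 2))
      (e'.comm s h.sQ.1 _ (conj_mem_cj.2 wQ))) ((ty_zero h2 h.fm (h.oa_St xJ i)).1 e))
  obtain ⟨d0, d1, d2⟩ := ob_d1 _ _ _ (h.sum _ xJ) (t0 0) (t0 1) (t0 2)
  have k1 := fun f => ob_d2 _ f (t0 0)
  obtain ⟨t, ht⟩ : ∃ t, t = ty z b (p * w * p⁻¹) 0 := ⟨_, rfl⟩
  rw [← ht] at k1
  have ex : zp (p * w * p⁻¹) t = p * ph z a 1 (t • ![0, 1, 1, -1, 0]) * p⁻¹ := by
    rw [o.smul, ← hw, zp, zp, conj_pow]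
  refine ⟨zp (p * w * p⁻¹) t, zp_mem xJ t, fun i => ?_, ?_, fun f hf c => (k1 f).2 hf ?_⟩
  · rw [h.oa_ty_zp xJ, ht]
    fin_cases i
    exacts [d0, d1, d2]
  · exact oa_cj ((h.oa_om0 (by simp)).2 (k1 0).1) ex.symm
  · refine ((h.oa_om0 (x := 1) (by simp)).1 (oa_cj c (g := p⁻¹) ?_)).2
    have e : z = p * (a 0 * a 1 * a 2)⁻¹ * p⁻¹ := by
      rw [← inv_inv z, ← h.py]; group
    rw [o.add, o.smul f, o.neg, ey, ex]
    generalize ph z a 1 _ = u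
    conv_lhs => rw [e]
    rw [zp, zp, conj_pow]
    group

theorem ob_d3 : ∀ v0 v1 v2 v3 : ZMod 3, ∃ k l m : Fin 3,
    (oa_T 1 0)^[k] ((oa_T 1 1)^[l] ((oa_T 1 2)^[m] ![v0, v1, v2, v3, 1])) =
      oa_eu 4 + F ![v0, v1, v2, v3, 1] • oa_eu 0 := by decide +kernel

theorem ob_F (v : V5) : F (-v) = F v := by
  simp only [F, Pi.neg_apply]
  ring

/-- notes/TE6.md, section OmB -/
theorem CU.cx (h : CU z Q Qs r R a b p s J) : ∃ x, CX z Q Qs r R a b p s J x := by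
  have hb := h.toCB
  have h2 := h.toB2
  have e1 := h2.toE1
  obtain ⟨y, yJ, ty1, cy, ny⟩ := hb.ob_x1
  obtain ⟨k, kQ, x, ex, xJ, xr, -⟩ := h2.norm3 h.fm (h.Jdef ▸ yJ) fun i tv =>
    one_ne_zero ((ty1 i).symm.trans ((ty_zero h2 h.fm (hb.oa_St yJ i)).2 tv))
  rw [← h.Jdef] at xJ
  have tx : ∀ i, ty z b x i = 1 := fun i => by
    rw [ex, ty_mul h2 h.fm (mul_mem (hb.oa_QSt kQ i) (hb.oa_St yJ i)) (hb.oa_QSt (inv_mem kQ) i),
      ty_mul h2 h.fm (hb.oa_QSt kQ i) (hb.oa_St yJ i), hb.oa_tyQ kQ, hb.oa_tyQ (inv_mem kQ), ty1]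
    simp
  have o := hb.oa_oj xJ
  have hT := fun i => hb.oa_bT xJ i (xr i)
  simp only [tx] at hT
  have mem0 : ∀ j ∈ J, ty z b j 0 = ty z b j 1 → ∃ v, j = ph z a x v := fun j hj e => by
    have hs := h.sum j hj
    have all : ∀ i, ty z b j i = ty z b j 0 := fun i => by
      fin_cases i
      exacts [rfl, e.symm, (by decide : ∀ s t : ZMod 3, s + s + t = 0 → t = s) _ _ (e ▸ hs)]
    have uJ := mul_mem hj (zp_mem xJ (-ty z b j 0))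
    obtain ⟨w, -, ew⟩ := hb.oa_memA (x := x) uJ ((ty_Q h2 h.fm (hb.oa_St uJ)).1 fun i => by
      rw [ty_mul h2 h.fm (hb.oa_St hj i) (hb.oa_St (zp_mem xJ _) i), hb.oa_ty_zp xJ, tx, all, mul_one,
        add_neg_cancel])
    refine ⟨w + ty z b j 0 • oa_eu 4, ?_⟩
    rw [o.add, o.smul, oa_ph_e4, ← ew, mul_assoc, ← zp_add (h.Jexp x xJ), neg_add_cancel, zp_zero, mul_one]
  have lv1 : ∀ v : V5, v 4 = 1 → (IsConj z (ph z a x v) ↔ F v = 0) := fun v v4 => by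
    rw [oa_vec v, v4]
    obtain ⟨c0, c1, c2, e⟩ := ob_d3 (v 0) (v 1) (v 2) (v 3)
    generalize ![v 0, v 1, v 2, v 3, 1] = u at e
    have I := fun i => oa_it (S := fun w => IsConj (ph z a x u) (ph z a x w)) fun w c => oa_cj c (hT i w)
    have c := I 0 c0 (I 1 c1 (I 2 c2 (IsConj.refl _)))
    rw [e, o.add, o.smul, oa_ph_e4, oa_ph_e0] at c
    constructor
    · intro c'
      by_contra hf
      refine ny _ hf (oa_cj (c'.trans c) (g := k⁻¹) ?_)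
      rw [ex, ← Z_conj (h.Qc kQ) (zp_mem (mem_zpowers z) (F u))]
      conv_rhs => rw [Z_conj (h.Qc kQ) (zp_mem (mem_zpowers z) (F u))]
      group
    · intro hf
      rw [hf, zp_zero, mul_one] at c
      exact (oa_cj cy ex.symm).trans c.symm
  have key : ∀ v : V5, IsConj z (ph z a x v) ↔ v ≠ 0 ∧ F v = 0 := fun v => by
    rcases (by decide : ∀ t : ZMod 3, t = 0 ∨ t = 1 ∨ -t = 1) (v 4) with e | e | e
    · exact hb.oa_om0 e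
    · rw [lv1 v e, and_iff_right fun e0 => zero_ne_one (by rw [← e, e0]; rfl)]
    · rw [and_iff_right fun e0 => zero_ne_one (by rw [← e, e0]; rfl), ← ob_F, ← lv1 (-v) e, o.neg]
      exact ⟨hb.oa_conj_inv, fun c => inv_inv (ph z a x v) ▸ hb.oa_conj_inv c⟩
  refine ⟨x, h, xJ, xr, fun i => ?_, o.add, fun u v e => sub_eq_zero.1 ?_, mem0, fun j hj => ⟨fun c => ?_, ?_⟩⟩
  · rw [bJ h2 h.fm (h.Jdef ▸ xJ) (xr i), tx, zp_one, show zp (a i) (-1) = (a i)⁻¹ from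
      eq_inv_of_mul_eq_one_left (show a i ^ 2 * a i = 1 by rw [← pow_succ, h.Jexp _ (hb.oa_aJ i)])]
  · have e0 : ph z a x (u - v) = 1 := by rw [sub_eq_add_neg, o.add, o.neg, e, mul_inv_cancel]
    generalize u - v = w at e0
    have w4 : w 4 = 0 := by
      have := hb.oa_ty_ph xJ w 0
      rwa [e0, hb.oa_tyQ (one_mem Q), tx, mul_one, eq_comm] at this
    have wi : ∀ i, w (oa_ix i) = 0 := fun i => by
      rw [← (hb.oa_bt_ph (x := x) w4 i).2, e0, Fa.bt_Z_right e1 (I2a.bQ h2 h.fm i) (one_mem _)]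
    have w1 : w 1 = 0 := wi 0
    have w2 : w 2 = 0 := wi 1
    have w3 : w 3 = 0 := wi 2
    simp only [oa_ph_eq, w1, w2, w3, w4, zp_zero, mul_one] at e0
    rw [oa_vec w, zp_inj h.z3 (e0.trans (zp_zero z).symm), w1, w2, w3, w4]
    decide +kernel
  · obtain ⟨v, rfl⟩ := mem0 j hj (h.omJ hj c)
    exact ⟨v, ((key v).1 c).1, ((key v).1 c).2, rfl⟩
  · rintro ⟨v, h0, hF, rfl⟩
    exact (key v).2 ⟨h0, hF⟩

end Cfsg.Agent.TE6
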