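import Cfsg.Agent.TE6.Iso
import Cfsg.Agent.TE6.Ty
import Cfsg.Agent.TE6.BasB

set_option autoImplicit false

namespace Cfsg.Agent.TE6

open Subgroup H49 T3.Fr2 F3

namespace Rt

/-- unit vectors -/
def ev (j : Fin 5) : V5 := Pi.single j 1

/-- the coordinate of `aᵢ` -/
def ix (i : Fin 3) : Fin 5 := i.succ.castSucc

/-- the action of `b₀ ^ k₀ * b₁ ^ k₁ * b₂ ^ k₂` -/
def W (k : Fin 3 → ZMod 3) (v : V5) : V5 :=
  ![v 0 + k 0 * v 1 + k 1 * v 2 + k 2 * v 3 + (k 0 * k 0 + k 1 * k 1 + k 2 * k 2) * v 4,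
    v 1 - k 0 * v 4, v 2 - k 1 * v 4, v 3 - k 2 * v 4, v 4]

theorem ind3 {n : ℕ} (P : (Fin n → ZMod 3) → Prop) (h0 : P 0) (hadd : ∀ u v, P u → P v → P (u + v))
    (h1 : ∀ i, P (Pi.single i 1)) (v : Fin n → ZMod 3) : P v := by
  refine Pi.single_induction P v h0 hadd fun i m => ?_
  have : ∀ m : ZMod 3, m = 0 ∨ m = 1 ∨ m = 1 + 1 := by decide
  rcases this m with rfl | rfl | rfl
  · rw [Pi.single_zero]; exact h0
  · exact h1 i
  · rw [Pi.single_add]; exact hadd _ _ (h1 i) (h1 i)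

theorem three : (3 : ZMod 3) = 0 := by decide

theorem W_zero (v : V5) : W 0 v = v := by
  funext j; fin_cases j <;> simp [W]

theorem W_add (k l : Fin 3 → ZMod 3) (v : V5) : W (k + l) v = W k (W l v) := by
  funext j; fin_cases j
  · simp [W]
    linear_combination (k 0 * l 0 + k 1 * l 1 + k 2 * l 2) * v 4 * three
  all_goals simp [W]
  all_goals ring

theorem W_vadd (k : Fin 3 → ZMod 3) (u v : V5) : W k (u + v) = W k u + W k v := by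
  funext j; fin_cases j <;> simp [W] <;> ring

theorem W_v0 (k : Fin 3 → ZMod 3) : W k 0 = 0 := by
  funext j; fin_cases j <;> simp [W]

theorem W_e0 : ∀ i : Fin 3, W (Pi.single i 1) (ev 0) = ev 0 := by decide

theorem W_ei : ∀ i : Fin 3, W (Pi.single i 1) (ev (ix i)) = ev (ix i) + ev 0 := by decide

theorem W_ej : ∀ i j : Fin 3, i ≠ j → W (Pi.single i 1) (ev (ix j)) = ev (ix j) := by decide

theorem W_e4 : ∀ i : Fin 3, W (Pi.single i 1) (ev 4) = ev 4 + -ev (ix i) + ev 0 := by decide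

theorem fin5 : ∀ j : Fin 5, j = 0 ∨ j = 4 ∨ ∃ i, j = ix i := by decide

theorem eta (v : V5) : v = ![v 0, v 1, v 2, v 3, v 4] := by
  funext j; fin_cases j <;> rfl

theorem d0 : ∀ c0 c1 c2 c3 : ZMod 3, F ![c0, c1, c2, c3, 0] = -1 → ∃ i : Fin 3, ∀ k : ZMod 3,
    ∃ n : ZMod 3, ![c0, c1, c2, c3, 0] = W (Pi.single i n) (Pi.single 0 k + ev (ix i)) ∨
      ![c0, c1, c2, c3, 0] = -W (Pi.single i n) (Pi.single 0 k + ev (ix i)) := by decide +kernel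

theorem d1 : ∀ c0 c1 c2 c3 c4 : ZMod 3, F ![c0, c1, c2, c3, c4] = -1 → c4 ≠ 0 →
    (W ![c1 * c4, c2 * c4, c3 * c4] ![c0, c1, c2, c3, c4] = ![-1, 0, 0, 0, 1] ∨
      -W ![c1 * c4, c2 * c4, c3 * c4] ![c0, c1, c2, c3, c4] = ![-1, 0, 0, 0, 1]) ∧
    (![c0, c1, c2, c3, c4] = W ![-c1 * c4, -c2 * c4, -c3 * c4] ![-1, 0, 0, 0, 1] ∨
      ![c0, c1, c2, c3, c4] = -W ![-c1 * c4, -c2 * c4, -c3 * c4] ![-1, 0, 0, 0, 1]) := by decide +kernel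

theorem orb (P : V5 → Prop) (neg : ∀ v, P v → P (-v)) (hT : ∀ i v, P v → P (W (Pi.single i 1) v))
    (l0 : ∀ i, ∃ k, P (Pi.single 0 k + ev (ix i))) (l1 : ∃ w, F w = -1 ∧ w 4 ≠ 0 ∧ P w)
    (v : V5) (hv : F v = -1) : P v := by
  have hW : ∀ k v, P v → P (W k v) := fun k =>
    ind3 (fun k => ∀ v, P v → P (W k v)) (fun v h => by rwa [W_zero])
      (fun k l hk hl v h => by rw [W_add]; exact hk _ (hl _ h)) hT k
  by_cases h4 : v 4 = 0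
  · rw [eta v, h4] at hv ⊢
    obtain ⟨i, hi⟩ := d0 _ _ _ _ hv
    obtain ⟨k, hk⟩ := l0 i
    obtain ⟨n, e | e⟩ := hi k
    · rw [e]; exact hW _ _ hk
    · rw [e]; exact neg _ (hW _ _ hk)
  · obtain ⟨w, hw, w4, pw⟩ := l1
    have p0 : P ![-1, 0, 0, 0, 1] := by
      rw [eta w] at hw pw
      rcases (d1 _ _ _ _ _ hw w4).1 with e | e
      · rw [← e]; exact hW _ _ pw
      · rw [← e]; exact neg _ (hW _ _ pw)
    rw [eta v] at hv ⊢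
    rcases (d1 _ _ _ _ _ hv h4).2 with e | e
    · rw [e]; exact hW _ _ p0
    · rw [e]; exact neg _ (hW _ _ p0)

theorem B_add (u v w : V5) : B (u + v) w = B u w + B v w := by
  simp only [B, F, Pi.add_apply]; ring

theorem rf_add (w u v : V5) : rf w (u + v) = rf w u + rf w v := by
  simp only [rf, B_add, add_mul, add_smul]; abel

theorem rf_zero (w : V5) : rf w 0 = 0 := by
  have : B 0 w = 0 := by simp [B, F]
  simp [rf, this]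

theorem rf_iso (M : V5 ≃+ V5) (hM : ∀ v, F (M v) = F v) (w u : V5) : M (rf w u) = rf (M w) (M u) := by
  have : B (M u) (M w) = B u w := by simp only [B, ← map_add, hM]
  rw [rf, rf, map_sub, ZMod.map_smul M, this, hM]

theorem rf_e : ∀ j : Fin 5, j ≠ ix 0 → rf (ev (ix 0)) (ev j) = ev j := by decide

theorem rf_e1 : rf (ev (ix 0)) (ev (ix 0)) = -ev (ix 0) := by decide

theorem F_e1 : F (ev (ix 0)) = -1 := by decide

theorem t_one : ∀ (i : Fin 3) (t : ZMod 3),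
    (Pi.single (ix i) (-t) + Pi.single 0 t : V5) = -ev (ix i) + ev 0 → t = 1 := by decide

variable {G : Type*} [Group G]

theorem ph_single0 (z : G) (a : Fin 3 → G) (x : G) (k : ZMod 3) : ph z a x (Pi.single 0 k) = zp z k := by
  simp [ph, zp]

theorem ph_singlei (z : G) (a : Fin 3 → G) (x : G) (i : Fin 3) (k : ZMod 3) :
    ph z a x (Pi.single (ix i) k) = zp (a i) k := by
  fin_cases i <;> simp [ph, zp, ix, Pi.single_apply]

theorem ph_e0 (z : G) (a : Fin 3 → G) (x : G) : ph z a x (ev 0) = z :=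
  (ph_single0 z a x 1).trans (zp_one z)

theorem ph_ei (z : G) (a : Fin 3 → G) (x : G) (i : Fin 3) : ph z a x (ev (ix i)) = a i :=
  (ph_singlei z a x i 1).trans (zp_one _)

theorem ph_e4 (z : G) (a : Fin 3 → G) (x : G) : ph z a x (ev 4) = x := by
  have : ZMod.val (1 : ZMod 3) = 1 := rfl
  simp [ph, ev, this]

theorem ph_zero (z : G) (a : Fin 3 → G) (x : G) : ph z a x 0 = 1 := by simp [ph]

theorem zp_neg_one {g : G} (h : g ^ 3 = 1) : zp g (-1) = g⁻¹ := by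
  have := zp_add h (-1) 1
  rw [neg_add_cancel, zp_zero, zp_one] at this
  exact eq_inv_of_mul_eq_one_left this.symm

variable [Finite G] {z : G} {Q R : Subgroup G} {Qs : Fin 3 → Subgroup G}
  {r : Fin 3 → G} {a b : Fin 3 → G} {p s x : G} {J : Subgroup G}

omit [Finite G] in
theorem ph_neg (h : CX z Q Qs r R a b p s J x) (v : V5) : ph z a x (-v) = (ph z a x v)⁻¹ := by
  have := h.add (-v) v
  rw [neg_add_cancel, ph_zero] at this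
  exact eq_inv_of_mul_eq_one_left this.symm

omit [Finite G] in
theorem act (h : CX z Q Qs r R a b p s J x) {n : G} {M : V5 → V5} (h0 : M 0 = 0)
    (hadd : ∀ u v, M (u + v) = M u + M v) (he : ∀ j, n * ph z a x (ev j) * n⁻¹ = ph z a x (M (ev j)))
    (v : V5) : n * ph z a x v * n⁻¹ = ph z a x (M v) := by
  refine ind3 (fun v => n * ph z a x v * n⁻¹ = ph z a x (M v)) ?_ (fun u v hu hv => ?_) he v
  · simp only [h0, ph_zero, mul_one, mul_inv_cancel]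
  · rw [hadd, h.add, h.add, ← hu, ← hv]; group

omit [Finite G] in
theorem fixc {W : Subgroup G} {g u : G} (hg : g ∈ 𝒞(W)) (hu : u ∈ W) : g * u * g⁻¹ = u := by
  rw [← mem_centralizer_iff.1 hg u hu]; group

omit [Finite G] in
theorem fix1 {g u : G} (hg : g ∈ 𝒞[u]) : g * u * g⁻¹ = u := by
  rw [mem_cent1.1 hg]; group

theorem act_b (h : CX z Q Qs r R a b p s J x) (i : Fin 3) (v : V5) :
    b i * ph z a x v * (b i)⁻¹ = ph z a x (W (Pi.single i 1) v) := by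
  refine act h (W_v0 _) (W_vadd _) (fun j => ?_) v
  rcases fin5 j with rfl | rfl | ⟨j, rfl⟩
  · rw [W_e0, ph_e0]
    exact fix1 (h.Qc (h.toB2.le i (h.fm i).bW))
  · rw [W_e4, h.add, h.add, ph_neg h, ph_e4, ph_e0, ph_ei, h.bx]
  · by_cases e : i = j
    · subst e
      rw [W_ei, h.add, ph_ei, ph_e0, (h.fm i).ba]
    · rw [W_ej i j e, ph_ei]
      exact fixc (h.QQ i j e (h.fm i).bW) (h.fm j).aW

theorem act_r (h : CX z Q Qs r R a b p s J x) (v : V5) :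
    r 0 * ph z a x v * (r 0)⁻¹ = ph z a x (rf (ev (ix 0)) v) := by
  refine act h (rf_zero _) (rf_add _) (fun j => ?_) v
  rcases fin5 j with rfl | rfl | ⟨j, rfl⟩
  · rw [rf_e _ (by decide), ph_e0]
    exact fix1 (h.toB2.rz 0)
  · rw [rf_e _ (by decide), ph_e4, ← (h.xr 0).eq]; group
  · by_cases e : j = 0
    · subst e
      rw [rf_e1, ph_neg h, ph_ei, (h.fm 0).ρa]
    · rw [rf_e _ (by revert j; decide), ph_ei]
      exact fixc (h.rc 0 j (Ne.symm e)) (h.fm j).aW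

omit [Finite G] in
theorem J_St (h : CX z Q Qs r R a b p s J x) {j : G} (hj : j ∈ J) (i : Fin 3) : j ∈ T3.St z (a i) := by
  rw [h.Jdef] at hj
  obtain ⟨⟨⟨h0, h1⟩, h2⟩, h3⟩ := hj
  have : j ∈ 𝒞[a i] := by fin_cases i <;> assumption
  refine T3.mem_St.2 ⟨h0, ?_⟩
  rw [fix1 this, mul_inv_cancel]; exact one_mem _

theorem aJ (h : CX z Q Qs r R a b p s J x) (i : Fin 3) : a i ∈ J := by
  rw [h.Jdef]
  exact ⟨⟨⟨h.Qc (I2a.aQ h.toB2 h.fm i), mem_cent1.2 (I2a.aa h.toB2 h.fm i 0).eq⟩,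
    mem_cent1.2 (I2a.aa h.toB2 h.fm i 1).eq⟩, mem_cent1.2 (I2a.aa h.toB2 h.fm i 2).eq⟩

theorem orbit (h : CX z Q Qs r R a b p s J x) (v : V5) (hv : F v = -1) :
    ∃ n ∈ 𝒩(J), n * a 0 * n⁻¹ = ph z a x v := by
  have hN := Q_normJ h.toB2 h.fm
  rw [← h.Jdef] at hN
  refine orb (fun v => ∃ n ∈ 𝒩(J), n * a 0 * n⁻¹ = ph z a x v) ?_ ?_ ?_ ?_ v hv
  · rintro v ⟨n, hn, e⟩
    refine ⟨n * r 0, mul_mem hn (hN.2 0), ?_⟩
    rw [ph_neg h, ← e]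
    calc n * r 0 * a 0 * (n * r 0)⁻¹ = n * (r 0 * a 0 * (r 0)⁻¹) * n⁻¹ := by group
      _ = _ := by rw [(h.fm 0).ρa]; group
  · rintro i v ⟨n, hn, e⟩
    refine ⟨b i * n, mul_mem (hN.1 (I2a.bQ h.toB2 h.fm i)) hn, ?_⟩
    rw [← act_b h, ← e]; group
  · obtain ⟨σ, hσ, cyc⟩ := W1.exists_cyc h.toB2 h.sQ.2 h.sT
    have sy : s ∈ 𝒞[a 0 * a 1 * a 2] := by
      rw [← h.pz]; exact (h.toE1.conj p).Qc h.sQ.1
    have step : ∀ i, (∃ n ∈ 𝒩(J), n * a 0 * n⁻¹ * (a i)⁻¹ ∈ zpowers z) →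
        ∃ n ∈ 𝒩(J), n * a 0 * n⁻¹ * (a (σ i))⁻¹ ∈ zpowers z := by
      rintro i ⟨n, hn, e⟩
      refine ⟨s * n, mul_mem h.sJ hn, ?_⟩
      have e1 := T3.conj_Z e h.sQ.2
      have e2 := mul_mem e (I2a.perm_a h.toB2 h.fm sy hσ i)
      rw [← e1] at e2
      convert e2 using 1; group
    have s0 : ∃ n ∈ 𝒩(J), n * a 0 * n⁻¹ * (a 0)⁻¹ ∈ zpowers z :=
      ⟨1, one_mem _, by simp⟩
    intro i
    have : ∃ n ∈ 𝒩(J), n * a 0 * n⁻¹ * (a i)⁻¹ ∈ zpowers z := by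
      rcases cyc 0 i with rfl | rfl | rfl
      exacts [s0, step _ s0, step _ (step _ s0)]
    obtain ⟨n, hn, e⟩ := this
    refine ⟨lg z (n * a 0 * n⁻¹ * (a i)⁻¹), n, hn, ?_⟩
    rw [h.add, ph_single0, ph_ei, zp_lg h.z3 e]; group
  · obtain ⟨M, hF, hM⟩ := h.iso h.pJ
    have e := hM (ev (ix 0))
    rw [ph_ei] at e
    refine ⟨M (ev (ix 0)), by rw [hF, F_e1], fun h4 => ?_, p, h.pJ, e⟩
    have hQ : p * a 0 * p⁻¹ ∈ Q := by
      rw [e, ph, h4, ZMod.val_zero, pow_zero, mul_one]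
      exact mul_mem (mul_mem (mul_mem (pow_mem h.zQ _) (pow_mem (I2a.aQ h.toB2 h.fm 0) _))
        (pow_mem (I2a.aQ h.toB2 h.fm 1) _)) (pow_mem (I2a.aQ h.toB2 h.fm 2) _)
    have hJ : p * a 0 * p⁻¹ ∈ J := conj_mem_of_norm le_rfl h.pJ (aJ h 0)
    exact h.tp 0 ((ty_Q h.toB2 h.fm (J_St h hJ)).2 hQ 0)

theorem root (h : CX z Q Qs r R a b p s J x) (v : V5) (hv : F v = -1) :
    ∃ n ∈ 𝒩(J), n * a 0 * n⁻¹ = ph z a x v ∧
    (∀ u, n * r 0 * n⁻¹ * ph z a x u * (n * r 0 * n⁻¹)⁻¹ = ph z a x (rf v u)) ∧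
    ∀ j ∈ J, n * r 0 * n⁻¹ * j * (n * r 0 * n⁻¹)⁻¹ * j⁻¹ ∈ zpowers (ph z a x v) := by
  obtain ⟨n, hn, e⟩ := orbit h v hv
  obtain ⟨M, hF, hM⟩ := h.iso hn
  refine ⟨n, hn, e, fun u => ?_, fun j hj => ?_⟩
  · have e1 : M (ev (ix 0)) = v := h.inj (by rw [← hM, ph_ei, e])
    obtain ⟨u, rfl⟩ := M.surjective u
    rw [← e1, ← rf_iso M hF, ← hM, ← hM, ← act_r h]; group
  · have hj' : n⁻¹ * j * n⁻¹⁻¹ ∈ J := conj_mem_of_norm le_rfl (inv_mem hn) hj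
    rw [h.Jdef] at hj'
    have := (Bas1a.mz (g := n)).2 (rJ h.toB2 h.fm hj' 0)
    rw [e] at this
    convert this using 1; group

theorem ty_pow (h : CX z Q Qs r R a b p s J x) {j : G} (hj : j ∈ J) (i : Fin 3) (n : ℕ) :
    ty z b (j ^ n) i = n * ty z b j i := by
  induction n with
  | zero =>
    rw [pow_zero, Nat.cast_zero, zero_mul]
    exact (ty_Q h.toB2 h.fm fun i => one_mem _).2 (one_mem _) i
  | succ n ih =>
    rw [pow_succ, ty_mul h.toB2 h.fm (J_St h (pow_mem hj n) i) (J_St h hj i), ih]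
    push_cast; ring

theorem ty_zp (h : CX z Q Qs r R a b p s J x) {j k : G} (hj : j ∈ J) (hk : k ∈ J) (i : Fin 3) (t : ZMod 3) :
    ty z b (j * zp k t) i = ty z b j i + t * ty z b k i := by
  rw [ty_mul h.toB2 h.fm (J_St h hj i) (J_St h (zp_mem hk t) i), zp, ty_pow h hk, ZMod.natCast_zmod_val]

theorem ty_x (h : CX z Q Qs r R a b p s J x) (i : Fin 3) : ty z b x i = 1 := by
  have e := bJ h.toB2 h.fm (h.Jdef ▸ h.xJ) (h.xr i)
  rw [h.bx, mul_assoc, mul_assoc, mul_right_inj] at e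
  refine t_one i _ (h.inj ?_)
  rw [h.add, h.add, ph_singlei, ph_single0, ph_neg h, ph_ei, ph_e0, e]

theorem xt (h : CX z Q Qs r R a b p s J x) :
    (∀ j ∈ J, ∃ v, j = ph z a x v) ∨ ∃ c ∈ J, (∀ i, Commute c (r i)) ∧ b 0 * c * (b 0)⁻¹ = c ∧
    b 1 * c * (b 1)⁻¹ = c * (a 1)⁻¹ * z ∧ b 2 * c * (b 2)⁻¹ = c * a 2 * z⁻¹ ∧
    ∀ j ∈ J, ∃ v, ∃ k : ℕ, j = ph z a x v * c ^ k := by
  by_cases h0 : ∀ j ∈ J, ty z b j 0 = ty z b j 1
  · exact Or.inl fun j hj => h.mem0 j hj (h0 j hj)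
  push Not at h0
  obtain ⟨j, hj, ne⟩ := h0
  have ar : ∀ t u : ZMod 3, t ≠ u → (u - t) * (t + -t * 1) = 0 ∧ (u - t) * (u + -t * 1) = 1 := by decide
  have j1 : j * zp x (-ty z b j 0) ∈ J := mul_mem hj (zp_mem h.xJ _)
  obtain ⟨j2, hj2, t0, t1⟩ : ∃ j2 ∈ J, ty z b j2 0 = 0 ∧ ty z b j2 1 = 1 := by
    refine ⟨(j * zp x (-ty z b j 0)) ^ (ty z b j 1 - ty z b j 0).val, pow_mem j1 _, ?_⟩
    rw [ty_pow h j1, ty_pow h j1, ZMod.natCast_zmod_val, ty_zp h hj h.xJ, ty_zp h hj h.xJ, ty_x h, ty_x h]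
    exact ar _ _ ne
  obtain ⟨k, l, m, hc⟩ := adjJ h.toB2 h.fm (h.Jdef ▸ hj2)
  have aQ := I2a.aQ h.toB2 h.fm
  have uJ : a 0 ^ k * a 1 ^ l * a 2 ^ m ∈ J :=
    mul_mem (mul_mem (pow_mem (aJ h 0) _) (pow_mem (aJ h 1) _)) (pow_mem (aJ h 2) _)
  have uQ : a 0 ^ k * a 1 ^ l * a 2 ^ m ∈ Q :=
    mul_mem (mul_mem (pow_mem (aQ 0) _) (pow_mem (aQ 1) _)) (pow_mem (aQ 2) _)
  have tc : ∀ i, ty z b (a 0 ^ k * a 1 ^ l * a 2 ^ m * j2) i = ty z b j2 i := fun i => by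
    rw [ty_mul h.toB2 h.fm (J_St h uJ i) (J_St h hj2 i), (ty_Q h.toB2 h.fm (J_St h uJ)).2 uQ i, zero_add]
  have t2 : ty z b j2 2 = -1 := by
    have := h.sum j2 hj2
    rw [t0, t1, zero_add] at this
    exact eq_neg_of_add_eq_zero_right this
  have cJ := mul_mem uJ hj2
  generalize a 0 ^ k * a 1 ^ l * a 2 ^ m * j2 = c at hc tc cJ
  have hb := fun i => bJ h.toB2 h.fm (h.Jdef ▸ cJ) (hc i)
  refine Or.inr ⟨c, cJ, hc, ?_, ?_, ?_, fun j hj => ?_⟩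
  · rw [hb, tc, t0, neg_zero, zp_zero, zp_zero, mul_one, mul_one]
  · rw [hb, tc, t1, zp_one, zp_neg_one (h.exp _ (aQ 1))]
  · rw [hb, tc, t2, neg_neg, zp_one, zp_neg_one (Fa.z3' h.toE1)]
  · obtain ⟨v, e⟩ := h.mem0 _ (mul_mem hj (zp_mem cJ (ty z b j 0 - ty z b j 1))) (by
      rw [ty_zp h hj cJ, ty_zp h hj cJ, tc, tc, t0, t1]; ring)
    refine ⟨v, (-(ty z b j 0 - ty z b j 1)).val, ?_⟩
    have := zp_add (h.Jexp c cJ) (ty z b j 0 - ty z b j 1) (-(ty z b j 0 - ty z b j 1))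
    rw [add_neg_cancel, zp_zero] at this
    rw [← e, mul_assoc]
    exact (mul_one j).symm.trans (congrArg (j * ·) this)

theorem decH (h : CX z Q Qs r R a b p s J x) {g : G} (hg : g ∈ 𝒞[z]) (bg : Ba Qs g) :
    ∃ q ∈ Q, ∃ ρ ∈ R, ∃ j ∈ J, g = q * ρ * j := by
  have ex : ∀ i, ∃ ρ ∈ Ri Qs R i, ρ * a i * ρ⁻¹ * (g * a i * g⁻¹)⁻¹ ∈ zpowers z := fun i =>
    h.toC1.trR i (h.fm i).aW (conj_mem_of_norm le_rfl (bg i) (h.fm i).aW) (h.toB2.aZ (h.fm i)) fun e =>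
      h.toB2.aZ (h.fm i) ((Bas1a.mz (g := g)).1 (by rwa [fix1 hg]))
  choose ρ hρ e using ex
  have hR : ∀ i, ρ i ∈ R := fun i => (hρ i).1.1
  have hc : ∀ i j, i ≠ j → ∀ u ∈ Qs j, ρ i * u * (ρ i)⁻¹ = u := fun i j n u hu =>
    fixc (h.toC1.RiQ n (hρ i)) hu
  have hw : ∀ i, ρ i * a i * (ρ i)⁻¹ ∈ Qs i := fun i => conj_mem_of_norm (h.RN i) (hR i) (h.fm i).aW
  have as : ∀ u, ρ 0 * ρ 1 * ρ 2 * u * (ρ 0 * ρ 1 * ρ 2)⁻¹ =
      ρ 0 * (ρ 1 * (ρ 2 * u * (ρ 2)⁻¹) * (ρ 1)⁻¹) * (ρ 0)⁻¹ := fun u => by group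
  have key : ∀ i, ρ 0 * ρ 1 * ρ 2 * a i * (ρ 0 * ρ 1 * ρ 2)⁻¹ = ρ i * a i * (ρ i)⁻¹ := by
    refine Fin.forall_fin_succ.2 ⟨?_, Fin.forall_fin_two.2 ⟨?_, ?_⟩⟩
    · rw [as, hc 2 0 (by decide) _ (h.fm 0).aW, hc 1 0 (by decide) _ (h.fm 0).aW]
    · exact (as _).trans (by rw [hc 2 _ (by decide) _ (h.fm _).aW]; exact hc 0 1 (by decide) _ (hw 1))
    · exact (as _).trans ((congrArg (fun t => ρ 0 * t * (ρ 0)⁻¹) (hc 1 2 (by decide) _ (hw 2))).trans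
        (hc 0 2 (by decide) _ (hw 2)))
  have pR : ρ 0 * ρ 1 * ρ 2 ∈ R := mul_mem (mul_mem (hR 0) (hR 1)) (hR 2)
  generalize ρ 0 * ρ 1 * ρ 2 = t at key pR
  obtain ⟨q, hq, j, hj, e1⟩ := QJ h.toB2 h.fm (g := t⁻¹ * g) fun i => by
    refine T3.mem_St.2 ⟨mul_mem (inv_mem (h.Rc pR)) hg, ?_⟩
    have e2 := inv_mem (e i)
    rw [← T3.conj_Z e2 (inv_mem (h.Rc pR)), ← key i] at e2
    convert e2 using 1; group
  refine ⟨t * q * t⁻¹, Fa.conjQ h.toE1 (h.Rc pR) hq, t, pR, j, h.Jdef ▸ hj, ?_⟩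
  rw [inv_mul_eq_iff_eq_mul] at e1
  rw [e1]; group

end Rt

variable {G : Type*} [Group G] [Finite G] {z : G} {Q R : Subgroup G} {Qs : Fin 3 → Subgroup G}
  {r : Fin 3 → G} {a b : Fin 3 → G} {p s x : G} {J : Subgroup G}

/-- notes/TE6.md, section Rt -/
theorem CX.tx (h : CX z Q Qs r R a b p s J x) : TX z Q Qs r R a b p s J x where
  toCX := h
  iso := fun _ hn => h.iso hn
  root := Rt.root h
  cen0 := fun g hg => by
    have e0 := hg (Rt.ev 0)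
    have e1 := fun i => hg (Rt.ev (Rt.ix i))
    simp only [Rt.ph_e0, Rt.ph_ei] at e0 e1
    rw [h.Jdef]
    exact ⟨⟨⟨mem_cent1.2 e0.eq, mem_cent1.2 (e1 0).eq⟩, mem_cent1.2 (e1 1).eq⟩, mem_cent1.2 (e1 2).eq⟩
  xt := Rt.xt h
  decH := fun _ hg bg => Rt.decH h hg bg

end Cfsg.Agent.TE6
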