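import Cfsg.Agent.TE6.BasA
import Cfsg.Agent.TE6.BasB
import Cfsg.Agent.TE6.Ty

/-! Project TE6: `J` is the unique large abelian subgroup of a Sylow 3-subgroup. -/

set_option autoImplicit false

namespace Cfsg.Agent.TE6

open Subgroup H49 T3.Fr2 F3

variable {G : Type*} [Group G] [Finite G] {z : G} {Q R : Subgroup G} {Qs : Fin 3 → Subgroup G}
  {r : Fin 3 → G} {a b : Fin 3 → G} {p s x : G} {J : Subgroup G}

namespace Uq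

theorem d1 : ∀ σ τ : Equiv.Perm (Fin 3), (∀ i, σ i ≠ i) → (∀ i, τ i ≠ i) →
    (∀ i, (σ * τ) i = i) ∨ ∀ i, (σ * τ * τ) i = i := by decide

theorem d2 : ∀ t0 t1 t2 : ZMod 3, t0 + t1 + t2 = 0 → t0 = t1 →
    (t0 = 0 ∧ t1 = 0 ∧ t2 = 0) ∨ (t0 ≠ 0 ∧ t1 ≠ 0 ∧ t2 ≠ 0) := by decide

theorem d3 : ∀ t0 t1 t2 : ZMod 3, t0 + t1 + t2 = 0 → t0 ≠ 0 → t1 ≠ 0 → t2 ≠ 0 → t0 = t1 := by decide

theorem d4 : ∀ t0 t1 t2 u0 u1 u2 : ZMod 3, t0 + t1 + t2 = 0 → u0 + u1 + u2 = 0 →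
    ((t0 ≠ 0 ∧ u0 = 0) ∨ (t1 ≠ 0 ∧ u1 = 0)) → (u0 = 0 ∧ u1 = 0 ∧ u2 = 0) ∨ (t0 ≠ 0 ∧ t1 ≠ 0 ∧ t2 ≠ 0) ∨
      (t0 + u0 ≠ 0 ∧ t1 + u1 ≠ 0 ∧ t2 + u2 ≠ 0) ∨
      (t0 + u0 + u0 ≠ 0 ∧ t1 + u1 + u1 ≠ 0 ∧ t2 + u2 + u2 ≠ 0) := by decide +kernel

omit [Group G] [Finite G] in
theorem all3 {P : Fin 3 → Prop} (h : P 0 ∧ P 1 ∧ P 2) (i : Fin 3) : P i := by
  fin_cases i
  exacts [h.1, h.2.1, h.2.2]

theorem stJ (h : CB z Q Qs r R a b p s J) {j : G} (hj : j ∈ J) (i : Fin 3) : j ∈ T3.St z (a i) := by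
  rw [h.Jdef] at hj
  exact ⟨hj.1.1.1, I2b.fixJ hj i⟩

theorem stQ (h : CB z Q Qs r R a b p s J) {q : G} (hq : q ∈ Q) (i : Fin 3) : q ∈ T3.St z (a i) :=
  ⟨h.Qc hq, h.comm q hq _ (h.toB2.le i (h.fm i).aW)⟩

theorem aJ (h : CB z Q Qs r R a b p s J) : Q ⊓ 𝒞[a 0] ⊓ 𝒞[a 1] ⊓ 𝒞[a 2] ≤ J := by
  rw [h.Jdef]
  exact inf_le_inf_right _ (inf_le_inf_right _ (inf_le_inf_right _ h.Qc))

theorem xJ (h : CB z Q Qs r R a b p s J) : p * a 0 * p⁻¹ ∈ J :=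
  conj_mem_of_norm le_rfl h.pJ (aJ h ((h.toB2.mem_A h.fm).2 ⟨0, 1, 0, 0, by simp⟩))

theorem Jc (h : CB z Q Qs r R a b p s J) : J ≤ 𝒞[z] := fun _ hj => (stJ h hj 0).1

theorem Jp (h : CB z Q Qs r R a b p s J) : IsPGroup 3 J := MC3.isP_of_exp h.Jexp

/-- the type of an element fixing each `aᵢ` modulo `z` is that of an element of `J` -/
theorem tyJ (h : CB z Q Qs r R a b p s J) {g : G} (hg : ∀ i, g ∈ T3.St z (a i)) :
    g ∈ Q ⊔ J ∧ ∃ j ∈ J, ∀ i, ty z b g i = ty z b j i := by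
  obtain ⟨q, hq, j, hj, rfl⟩ := QJ h.toB2 h.fm hg
  rw [← h.Jdef] at hj
  refine ⟨mul_mem (mem_sup_left hq) (mem_sup_right hj), j, hj, fun i => ?_⟩
  rw [ty_mul h.toB2 h.fm (stQ h hq i) (stJ h hj i), (ty_Q h.toB2 h.fm (stQ h hq)).2 hq i, zero_add]

theorem sum0 (h : CB z Q Qs r R a b p s J) {g : G} (hg : ∀ i, g ∈ T3.St z (a i)) :
    ty z b g 0 + ty z b g 1 + ty z b g 2 = 0 := by
  obtain ⟨-, j, hj, e⟩ := tyJ h hg
  rw [e, e, e, h.sum j hj]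

theorem xQ (h : CB z Q Qs r R a b p s J) : p * a 0 * p⁻¹ ∉ Q := fun k =>
  h.tp 0 ((ty_Q h.toB2 h.fm (stJ h (xJ h))).2 k 0)

theorem c243 (h : CB z Q Qs r R a b p s J) {X : Subgroup G} (hX : X ≤ J)
    (h1 : Q ⊓ 𝒞[a 0] ⊓ 𝒞[a 1] ⊓ 𝒞[a 2] ≤ X) (h2 : p * a 0 * p⁻¹ ∈ X) : 243 ≤ Nat.card X := by
  obtain ⟨k, hk⟩ := MC3.card_pow_of_isP ((Jp h).to_le hX)
  have := card_lt_of_lt (lt_of_le_of_ne h1 fun e => xQ h (e.ge h2).1.1.1)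
  rw [h.toB2.card_A h.fm] at this
  exact T3.pow3_ge (n := 4) hk this

/-- the elements of `J` of constant type -/
def J0 (h : CB z Q Qs r R a b p s J) : Subgroup G where
  carrier := {j | j ∈ J ∧ ty z b j 0 = ty z b j 1}
  one_mem' := ⟨one_mem _, by
    have := (ty_Q h.toB2 h.fm (stQ h (one_mem _))).2 (one_mem _)
    rw [this, this]⟩
  mul_mem' := fun {u v} hu hv => ⟨mul_mem hu.1 hv.1, by
    rw [ty_mul h.toB2 h.fm (stJ h hu.1 0) (stJ h hv.1 0), ty_mul h.toB2 h.fm (stJ h hu.1 1) (stJ h hv.1 1),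
      hu.2, hv.2]⟩
  inv_mem' := fun {u} hu => ⟨inv_mem hu.1, by
    have e : u⁻¹ = u * u := by
      rw [inv_eq_iff_mul_eq_one, ← h.Jexp u hu.1, pow_succ', pow_two]
    rw [e, ty_mul h.toB2 h.fm (stJ h hu.1 0) (stJ h hu.1 0),
      ty_mul h.toB2 h.fm (stJ h hu.1 1) (stJ h hu.1 1), hu.2]⟩

theorem c729 (h : CB z Q Qs r R a b p s J) {j : G} (hj : j ∈ J) (n : ty z b j 0 ≠ ty z b j 1) :
    729 ≤ Nat.card J := by
  have le : J0 h ≤ J := fun _ hu => hu.1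
  have k1 := c243 h le (fun u hu => ⟨aJ h hu, by
    have := (ty_Q h.toB2 h.fm (stQ h hu.1.1.1)).2 hu.1.1.1
    rw [this, this]⟩) ⟨xJ h, d3 _ _ _ (h.sum _ (xJ h)) (h.tp 0) (h.tp 1) (h.tp 2)⟩
  have k2 := card_lt_of_lt (lt_of_le_of_ne le fun e => n (e.ge hj).2)
  obtain ⟨k, hk⟩ := MC3.card_pow_of_isP (Jp h)
  exact T3.pow3_ge (n := 5) hk (by omega)

theorem fixS (h : CB z Q Qs r R a b p s J) {S : Subgroup G} (Sp : IsPGroup 3 S) (Sc : S ≤ 𝒞[z])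
    (JS : J ≤ S) {g : G} (hg : g ∈ S) (bg : Ba Qs g) (i : Fin 3) : g ∈ T3.St z (a i) := by
  have h2 := h.toB2
  have f := h.fm
  have q := h2.hp (f i)
  have cu : ∀ k ∈ S, Ba Qs k → mat z (a i) (b i) k ^ 3 = 1 := fun k hk bk => by
    obtain ⟨n, hn⟩ := MC3.exists_pow_of_isP Sp hk
    rw [← q.ph.pow ⟨Sc hk, bk i⟩]
    exact q.mat_Q (h2.cube (Sc hk) bk (k := n) (hn ▸ Q.one_mem))
  have st := stJ h (xJ h)
  have xS := JS (xJ h)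
  have tp := h.tp i
  generalize p * a 0 * p⁻¹ = y at st xS tp
  have bY := (h2.comm_A f (st 0).1 fun i => (st i).2).1
  have gm : g ∈ 𝒞[z] ⊓ 𝒩(Qs i) := ⟨Sc hg, bg i⟩
  have ym : y ∈ 𝒞[z] ⊓ 𝒩(Qs i) := ⟨(st 0).1, bY i⟩
  have m1 : mat z (a i) (b i) y ≠ 1 := fun e =>
    tp ((ty_zero h2 f (st i)).2 ((h2.tv_iff (f i) ym).2 e))
  have m2 : (mat z (a i) (b i) y).ap (1, 0) = (1, 0) := by
    rw [← q.vec_a, ← q.vec_conj ym q.aW]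
    exact Fa.vec_congr q.f0 q.aQ q.bQ q.aQ (st i).2
  have e := I2b.s2fix _ (mat z (a i) (b i) g) m1 m2
    (W2.s_ab _ _ (cu g hg bg) (cu y xS bY)
      (by rw [← q.ph.mul _ gm _ ym]; exact cu _ (mul_mem hg xS) fun j => mul_mem (bg j) (bY j))
      (by rw [← q.ph.div gm ym]
          exact cu _ (mul_mem hg (inv_mem xS)) fun j => mul_mem (bg j) (inv_mem (bY j))))
    (cu g hg bg)
  refine ⟨Sc hg, h2.div (f i) _ (conj_mem_of_norm le_rfl (bg i) q.aW) _ q.aW ?_⟩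
  rw [q.vec_conj gm q.aW, q.vec_a, e]

theorem syl (h : CB z Q Qs r R a b p s J) :
    H42.SylIn 3 (Q ⊔ J ⊔ zpowers s) ⊤ ∧ Q ⊔ J ⊔ zpowers s ≤ 𝒞[z] := by
  have : Fact (Nat.Prime 3) := ⟨Nat.prime_three⟩
  have h2 := h.toB2
  have s3 : s ^ 3 ^ 1 = 1 := by rw [pow_one]; exact (h.toE1.conj p).exp s h.sQ.1
  have sc : s ∈ 𝒞[z] := h.sQ.2
  have P0 : IsPGroup 3 ↥(Q ⊔ J ⊔ zpowers s) :=
    MC3.isP_sup (MC3.isP_sup h.toE1.isP (Jp h) ((Jc h).trans (Fa.cQ h.toE1))) (MC3.isP_zpowers s3)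
      (norm_sup (zpowers_le.2 (Fa.cQ h.toE1 sc)) (zpowers_le.2 h.sJ))
  have c0 : Q ⊔ J ⊔ zpowers s ≤ 𝒞[z] := sup_le (sup_le h.Qc (Jc h)) (zpowers_le.2 sc)
  obtain ⟨S, hS, hle⟩ := H42.exists_sylIn P0 c0
  have sS : s ∈ S := hle (mem_sup_right (mem_zpowers s))
  have ba : ∀ g ∈ S, Ba Qs g → g ∈ Q ⊔ J ⊔ zpowers s := fun g hg bg =>
    mem_sup_left (tyJ h (fixS h hS.isP hS.le ((le_sup_right.trans le_sup_left).trans hle) hg bg)).1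
  have e : S = Q ⊔ J ⊔ zpowers s := le_antisymm (fun g hg => by
    obtain ⟨k, hk⟩ := MC3.exists_pow_of_isP hS.isP hg
    rcases h2.three (hS.le hg) (k := k) (hk ▸ Q.one_mem) with bg | tg
    · exact ba g hg bg
    obtain ⟨σ, -, hσ⟩ := h2.permHom
    have ss : s ∈ Q ⊔ J ⊔ zpowers s := mem_sup_right (mem_zpowers s)
    rcases d1 (σ ⟨g, hS.le hg⟩) (σ ⟨s, sc⟩) (fun i e => tg i ((hσ ⟨g, hS.le hg⟩ i).2 e))
      (fun i e => h.sT i ((hσ ⟨s, sc⟩ i).2 e)) with e | e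
    · rw [← map_mul] at e
      exact (mul_mem_cancel_right ss).1 (ba _ (mul_mem hg sS) fun i => (hσ _ i).2 (e i))
    · rw [← map_mul, ← map_mul] at e
      exact (mul_mem_cancel_right ss).1 ((mul_mem_cancel_right ss).1
        (ba _ (mul_mem (mul_mem hg sS) sS) fun i => (hσ _ i).2 (e i)))) hle
  exact ⟨e ▸ I2b.syl_top h.toE1 hS ((le_sup_left.trans le_sup_left).trans hle), c0⟩

theorem uniq (h : CB z Q Qs r R a b p s J) {S : Subgroup G} (Sp : IsPGroup 3 S) (Sc : S ≤ 𝒞[z])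
    (JS : J ≤ S) {X : Subgroup G} (hX : X ≤ S) (ab : X ≤ 𝒞(X)) (hc : Nat.card J ≤ Nat.card X) :
    X = J := by
  have h2 := h.toB2
  have f := h.fm
  have Xp : IsPGroup 3 X := Sp.to_le hX
  have Xc := hX.trans Sc
  have cJ := c243 h le_rfl (aJ h) (xJ h)
  have key : ∀ g ∈ X, Ba Qs g → (∀ i, ¬ Tv z (Qs i) g) → X ⊓ Q ≤ Q ⊓ 𝒞[a 0] ⊓ 𝒞[a 1] ⊓ 𝒞[a 2] :=
    fun g hg bg nt q hq => by
      have k := (h2.comm_A f (Xc hg) fun i => (fixS h Sp Sc JS (hX hg) bg i).2).2.2.2 q hq.2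
        (by rw [le_cent_iff.1 ab q hq.1 g hg]; simp)
      exact ⟨⟨⟨hq.2, k 0 (nt 0)⟩, k 1 (nt 1)⟩, k 2 (nt 2)⟩
  rcases W2.all_ba h2 Xp Xc with ⟨t, ht, tT⟩ | hb
  · exfalso
    have h27 := h2.cent_tr (Xc ht) tT (X := X ⊓ Q) fun q hq =>
      ⟨hq.2, mem_cent1.2 (le_cent_iff.1 ab t ht q hq.1)⟩
    obtain ⟨T0, hT0, c0, b0⟩ := h2.exists_ba Xp Xc
    have hn : ¬ T0 ≤ Q := fun hle => by
      have := card_le_of_le (le_inf hT0 hle); omega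
    obtain ⟨g, hg, gQ⟩ := SetLike.not_le_iff_exists.1 hn
    have cm : ∀ g ∈ X, t * g * t⁻¹ * g⁻¹ ∈ Q := fun g hg => by
      rw [le_cent_iff.1 ab g hg t ht]; simp
    have hle := key g (hT0 hg) (b0 g hg) fun i tv =>
      gQ (tr_tv h2 (Xc ht) tT (Xc (hT0 hg)) (b0 g hg) (cm g (hT0 hg)) tv)
    have h9 := ab9 h2 Xp Xc ht tT cm
    have h3 := h.toE1.card_le_cent (X := X ⊓ Q) inf_le_right (h2.le 0 (f 0).bW)
    have hZ : X ⊓ Q ⊓ 𝒞[b 0] ≤ zpowers z := fun q hq =>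
      I2b.centTr h2 f (Xc ht) tT hq.1.2 (le_cent_iff.1 ab q hq.1.1 t ht) (hle hq.1).1.1.2 hq.2
    have := card_le_of_le hZ
    rw [Nat.card_zpowers, h.z3] at this
    omega
  have st : ∀ g ∈ X, ∀ i, g ∈ T3.St z (a i) := fun g hg => fixS h Sp Sc JS (hX hg) (hb g hg)
  have ker : ∀ Y ≤ X, ∀ i, ∃ Y0 ≤ Y, Nat.card Y ≤ 3 * Nat.card Y0 ∧ ∀ g ∈ Y0, ty z b g i = 0 :=
    fun Y hY i => by
      obtain ⟨Y0, l, c, tv⟩ := h2.exists_tv (i := i) (Xp.to_le hY) (hY.trans Xc) fun g hg => hb g (hY hg) i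
      exact ⟨Y0, l, c, fun g hg => (ty_zero h2 f (st g (hY (l hg)) i)).2 (tv g hg)⟩
  have inQ : ∀ g ∈ X, ty z b g 0 = 0 → ty z b g 1 = 0 → g ∈ X ⊓ Q := fun g hg e0 e1 =>
    ⟨hg, (ty_Q h2 f (st g hg)).1 (all3 ⟨e0, e1, by simpa [e0, e1] using sum0 h (st g hg)⟩)⟩
  have c81 := h2.ab_le (X := X ⊓ Q) inf_le_right
    (inf_le_left.trans (ab.trans (cent_anti inf_le_left)))
  by_cases hg : ∃ g ∈ X, ty z b g 0 ≠ 0 ∧ ty z b g 1 ≠ 0 ∧ ty z b g 2 ≠ 0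
  · obtain ⟨g, hg, tg⟩ := hg
    have hle := key g hg (hb g hg) fun i tv =>
      all3 (P := fun i => ty z b g i ≠ 0) tg i ((ty_zero h2 f (st g hg i)).2 tv)
    obtain ⟨Y0, l0, c0, t0⟩ := ker X le_rfl 0
    have lo : 81 ≤ Nat.card ↥(X ⊓ Q) := by
      by_cases hj : ∃ j ∈ J, ty z b j 0 ≠ ty z b j 1
      · obtain ⟨j, hj, n⟩ := hj
        have := c729 h hj n
        obtain ⟨Y1, l1, c1, t1⟩ := ker Y0 l0 1
        have := card_le_of_le (show Y1 ≤ X ⊓ Q from fun u hu =>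
          inQ u (l0 (l1 hu)) (t0 u (l1 hu)) (t1 u hu))
        omega
      · push Not at hj
        have := card_le_of_le (show Y0 ≤ X ⊓ Q from fun u hu => inQ u (l0 hu) (t0 u hu) (by
          obtain ⟨-, j, jJ, e⟩ := tyJ h (st u (l0 hu))
          rw [e, ← hj j jJ, ← e, t0 u hu]))
        omega
    have e := eq_of_le_of_card_eq hle (by rw [h2.card_A f]; omega)
    have aX : ∀ i k l m : ℕ, z ^ i * a 0 ^ k * a 1 ^ l * a 2 ^ m ∈ X := fun i k l m =>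
      (e ▸ (h2.mem_A f).2 ⟨i, k, l, m, rfl⟩ : _ ∈ X ⊓ Q).1
    refine eq_of_le_of_card_ge ?_ hc
    rw [h.Jdef]
    refine le_inf (le_inf (le_inf Xc ?_) ?_) ?_ <;> refine le_cent1_iff.2 (ab ?_)
    · simpa using aX 0 1 0 0
    · simpa using aX 0 0 1 0
    · simpa using aX 0 0 0 1
  · exfalso
    have hn : ¬ X ≤ Q := fun hle => by
      have := card_le_of_le (le_inf le_rfl hle); omega
    obtain ⟨g, gX, gQ⟩ := SetLike.not_le_iff_exists.1 hn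
    have n : ty z b g 0 ≠ ty z b g 1 := fun e => by
      rcases d2 _ _ _ (sum0 h (st g gX)) e with k | k
      exacts [gQ (inQ g gX k.1 k.2.1).2, hg ⟨g, gX, k⟩]
    obtain ⟨-, j, jJ, e⟩ := tyJ h (st g gX)
    have := c729 h jJ (by rwa [← e, ← e])
    have fin : ∀ Y0 ≤ X, (∀ u ∈ Y0, (ty z b g 0 ≠ 0 ∧ ty z b u 0 = 0) ∨ (ty z b g 1 ≠ 0 ∧ ty z b u 1 = 0)) →
        Nat.card Y0 ≤ 81 := fun Y0 l0 t0 => (card_le_of_le fun u hu => by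
      have uX := l0 hu
      have m := fun i => ty_mul h2 f (st g gX i) (st u uX i)
      have m' := fun i => ty_mul h2 f (st _ (mul_mem gX uX) i) (st u uX i)
      rcases d4 _ _ _ _ _ _ (sum0 h (st g gX)) (sum0 h (st u uX)) (t0 u hu) with k | k | k | k
      · exact inQ u uX k.1 k.2.1
      · exact (hg ⟨g, gX, k⟩).elim
      · exact (hg ⟨g * u, mul_mem gX uX, by rwa [m, m, m]⟩).elim
      · exact (hg ⟨g * u * u, mul_mem (mul_mem gX uX) uX, by rwa [m', m', m', m, m, m]⟩).elim).trans c81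
    by_cases e0 : ty z b g 0 = 0
    · obtain ⟨Y0, l0, c0, t0⟩ := ker X le_rfl 1
      have := fin Y0 l0 fun u hu => .inr ⟨fun k => n (e0.trans k.symm), t0 u hu⟩
      omega
    · obtain ⟨Y0, l0, c0, t0⟩ := ker X le_rfl 0
      have := fin Y0 l0 fun u hu => .inl ⟨e0, t0 u hu⟩
      omega

end Uq

/-- notes/TE6.md, section Uq -/
theorem CB.cu (h : CB z Q Qs r R a b p s J) : CU z Q Qs r R a b p s J := by
  have : Fact (Nat.Prime 3) := ⟨Nat.prime_three⟩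
  obtain ⟨hS, Sc⟩ := Uq.syl h
  have JS : J ≤ Q ⊔ J ⊔ zpowers s := le_sup_right.trans le_sup_left
  have u : ∀ (g : G) (X : Subgroup G), cj g X ≤ Q ⊔ J ⊔ zpowers s → X ≤ 𝒞(X) → Nat.card J ≤ Nat.card X →
      cj g X = J := fun g X h1 h2 h3 =>
    Uq.uniq h hS.isP Sc JS h1 (cj_centralizer g _ ▸ cj_mono g h2) (by rwa [card_cj])
  refine { h with
    syl := hS
    uq := fun P X hP h1 h2 h3 h4 => ?_
    fus := fun g v hv hw => I2b.fus_of hS (Uq.Jp h) h.ab (fun k hk => u k J hk h.ab le_rfl) g v hv hw }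
  obtain ⟨g, -, hg⟩ := hS.exists_conj hP le_top
  have hle : cj g P ≤ Q ⊔ J ⊔ zpowers s := fun y hy => by
    obtain ⟨v, hv, rfl⟩ := mem_cj'.mp hy; exact hg v hv
  exact cj_inj.1 ((u g X ((cj_mono g h2).trans hle) h3 h4).trans
    (u g J ((cj_mono g h1).trans hle) h.ab le_rfl).symm)

end Cfsg.Agent.TE6
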