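import Cfsg.Agent.TE6.Defs2
import Cfsg.Agent.F3.Fr

/-! Project TE6: from the hypotheses of the recognition theorem to `U0`. -/

set_option autoImplicit false

namespace Cfsg.Agent.TE6

open Subgroup H49 T3.Fr2 F3

namespace FrA

/-- the group `Q₈ × Q₈ × Q₈` -/
abbrev Q3 : Type := QuaternionGroup 2 × QuaternionGroup 2 × QuaternionGroup 2

/-- the central involutions of the three factors -/
def cc : Fin 3 → Q3 := ![(.a 2, 1, 1), (1, .a 2, 1), (1, 1, .a 2)]

theorem a2c : ∀ x : QuaternionGroup 2, QuaternionGroup.a 2 * x = x * QuaternionGroup.a 2 := by decide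

theorem cc_cc : ∀ i, cc i * cc i = 1 := by decide

theorem cc_comm (i : Fin 3) (x : Q3) : cc i * x = x * cc i := by
  fin_cases i <;> ext <;> simp [cc, a2c]

theorem cc_ind : ∀ e : Fin 3 → Fin 2,
    cc 0 ^ (e 0).val * cc 1 ^ (e 1).val * cc 2 ^ (e 2).val = 1 → e = 0 := by decide

theorem card_Q3 : Nat.card Q3 = 512 := by
  simp [Q3, QuaternionGroup.card]

theorem exists_t {K : Type*} [Group K] [Finite K] (φ : K →* Q3) (hφ : Function.Injective φ)
    (hK : Nat.card K = 512) : ∃ t : Fin 3 → K, (∀ i, t i * t i = 1) ∧ (∀ i x, t i * x = x * t i) ∧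
      ∀ e : Fin 3 → Fin 2, t 0 ^ (e 0).val * t 1 ^ (e 1).val * t 2 ^ (e 2).val = 1 → e = 0 := by
  have hb : Function.Bijective φ := hφ.bijective_of_nat_card_le (by rw [hK, card_Q3])
  choose t ht using fun i => hb.2 (cc i)
  refine ⟨t, fun i => hφ ?_, fun i x => hφ ?_, fun e h => cc_ind e ?_⟩
  · rw [map_mul, ht, cc_cc, map_one]
  · rw [map_mul, map_mul, ht, cc_comm]
  · have := congrArg φ h
    rwa [map_mul, map_mul, map_pow, map_pow, map_pow, ht, ht, ht, map_one] at this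

end FrA

variable {G : Type*} [Group G] [Finite G]

open scoped commutatorElement in
/-- notes/TE6.md, section FrA -/
theorem frA (H : Subgroup G) (Q : Subgroup H) (hQF : Q = Cfsg.generalizedFittingSubgroup H) [hQn : Q.Normal]
    (hQex : Cfsg.IsExtraspecial 3 Q) (hQcard : Nat.card Q = 3 ^ 7)
    (hZZ : (Subgroup.center Q).map Q.subtype = Subgroup.center H)
    (eO : Cfsg.pCore 2 (H ⧸ Q) ≃* QuaternionGroup 2 × QuaternionGroup 2 × QuaternionGroup 2)
    (Z : Subgroup G) (hZ : Z = (Subgroup.center H).map H.subtype) (hHC : H = Subgroup.centralizer (Z : Set G))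
    (S : Sylow 3 G) (hZS : Z ≤ S) (hnwc : ¬ Cfsg.IsWeaklyClosed Z S) :
    ∃ (z : G) (Q' R : Subgroup G) (t : Fin 3 → G), U0 z Q' R t ∧
      (∃ g : G, g * z * g⁻¹ ∈ 𝒞[z] ∧ g * z * g⁻¹ ∉ Subgroup.zpowers z) ∧
      (¬ WC z Q' → ¬ Cfsg.IsWeaklyClosed Z ((Cfsg.pCore 3 H).map H.subtype)) := by
  have : Fact (Nat.Prime 3) := ⟨Nat.prime_three⟩
  have : Fact (Nat.Prime 2) := ⟨Nat.prime_two⟩
  have inj := H.subtype_injective
  have hZ3 : Nat.card Z = 3 := by
    rw [hZ, card_map_of_injective inj, ← hZZ, card_map_of_injective Q.subtype_injective, hQex.2]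
  have hp : (Nat.card Z).Prime := hZ3 ▸ Nat.prime_three
  obtain ⟨z, hz, hz1⟩ := ne_bot_iff_exists.1 (ne_bot_of_prime_card hp)
  have ez : zpowers z = Z :=
    (eq_bot_or_eq_of_prime_card hp (zpowers_le.2 hz)).resolve_left (by simpa using hz1)
  subst ez
  rw [cent_zpowers] at hHC
  have z3 : orderOf z = 3 := by rw [← Nat.card_zpowers, hZ3]
  have mZ : ∀ x : H, x ∈ center H ↔ (x : G) ∈ zpowers z := fun x => by
    rw [hZ]; exact (mem_map_iff_mem inj).symm
  have eQ : Q.map H.subtype = H44.FSof H := by rw [hQF]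
  set Q' := Q.map H.subtype with hQ'
  have QC : Q' ≤ 𝒞[z] := hHC ▸ map_subtype_le _
  have cen : ∀ a ∈ Q', (∀ b ∈ Q', a * b = b * a) → a ∈ zpowers z := by
    rintro _ ⟨a, ha, rfl⟩ hc
    refine (mZ a).1 (hZZ ▸ ⟨⟨a, ha⟩, mem_center_iff.2 fun c => Subtype.ext (Subtype.ext ?_), rfl⟩)
    exact (hc _ ⟨c, c.2, rfl⟩).symm
  have nQ : 𝒩(zpowers z) ≤ 𝒩(Q') := by
    rw [eQ]
    refine le_trans ?_ (H44.normalizer_le_normalizer_FSof H)
    rw [hHC, ← cent_zpowers]; exact norm_cent le_rfl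
  have cQ : 𝒞[z] ≤ 𝒩(Q') := le_trans (by rw [← cent_zpowers]; exact cent_le_norm _) nQ
  set P := (Cfsg.pCore 2 (H ⧸ Q)).comap (QuotientGroup.mk' Q) with hP
  have cP : Nat.card P = 3 ^ 7 * 512 := by
    refine (Nat.card_congr (QuotientGroup.preimageMkEquivSubgroupProdSet Q
      (Cfsg.pCore 2 (H ⧸ Q) : Set (H ⧸ Q)))).trans ?_
    rw [Nat.card_prod, hQcard]
    exact congrArg _ ((Nat.card_congr eO.toEquiv).trans FrA.card_Q3)
  obtain ⟨R0, hR0⟩ := Sylow.exists_subgroup_card_pow_prime (G := P) 2 (n := 9)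
    (by rw [cP]; norm_num)
  set R1 := R0.map P.subtype with hR1
  have cR : Nat.card R1 = 512 := by rw [hR1, card_map_of_injective P.subtype_injective, hR0]; rfl
  have RP : R1 ≤ P := map_subtype_le _
  have QR : Q ⊓ R1 = ⊥ := disjoint_iff.1 <| disjoint_of_coprime_natCard (by rw [hQcard, cR]; norm_num)
  have QP : Q ≤ P := fun q hq => by
    rw [hP, mem_comap, QuotientGroup.mk'_apply, (QuotientGroup.eq_one_iff q).2 hq]
    exact one_mem _
  have eP : Q ⊔ R1 = P := eq_of_le_of_card_eq (sup_le QP RP) (by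
    rw [card_sup_of_disjoint (.inr (by rw [normalizer_eq_top]; exact le_top)) QR, hQcard, cR, cP])
  let φ : R1 →* FrA.Q3 := eO.toMonoidHom.comp
    (((QuotientGroup.mk' Q).comp R1.subtype).codRestrict _ fun x => RP x.2)
  obtain ⟨t, t1, t2, t3⟩ := FrA.exists_t φ ((injective_iff_map_eq_one _).2 fun x hx => by
    have h1 := congrArg Subtype.val (eO.injective (hx.trans (map_one eO).symm))
    have h2 : (x : H) ∈ Q ⊓ R1 := ⟨(QuotientGroup.eq_one_iff _).1 h1, x.2⟩
    rw [QR, mem_bot] at h2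
    exact Subtype.ext h2) cR
  have U : U0 z Q' (R1.map H.subtype) fun i => ((t i : H) : G) :=
    { z3 := z3
      zQ := by
        have hz' : z ∈ H := hHC ▸ self_mem_cent1 z
        have := (mZ ⟨z, hz'⟩).2 (mem_zpowers z)
        rw [← hZZ] at this
        exact ⟨⟨z, hz'⟩, map_subtype_le _ this, rfl⟩
      Qc := QC
      comm := by
        rintro _ ⟨a, ha, rfl⟩ _ ⟨b, hb, rfl⟩
        refine (mZ (a * b * a⁻¹ * b⁻¹)).1 (hZZ ▸ ⟨⁅(⟨a, ha⟩ : Q), ⟨b, hb⟩⁆, ?_, rfl⟩)
        rw [← hQex.1.2.2]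
        exact commutator_mem_commutator (mem_top _) (mem_top _)
      cen := cen
      nQ := nQ
      faith := by
        have : IsPGroup 3 (Fr.Tvs z Q') := fun k => ⟨2, Subtype.ext (by
          have h1 := Fr.cube_cent z3 k.2
          have h2 : (k : G) ^ 3 ∈ Q' := eQ.ge (H44.inf_centralizer_FSof_le H
            ⟨hHC.ge (pow_mem k.2.1 3), centralizer_le eQ.ge h1⟩)
          have := Fr.Zcube z3 (cen _ h2 fun b hb => (h1 b hb).symm)
          rwa [← pow_mul] at this)⟩
        have h4 : Fr.Tvs z Q' ≤ Q' := by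
          rw [eQ] at this ⊢
          exact (H44.le_fittingOf (fun g hg => hHC ▸ hg.1) (hHC.le.trans (Fr.norm_Tvs (eQ ▸ cQ)))
            this.isNilpotent).trans (H44.Fof_le_FSof _)
        exact fun g hg hc => h4 ⟨hg, hc⟩
      card := by rw [hQ', card_map_of_injective inj, hQcard]; rfl
      R2 := IsPGroup.of_card (n := 9) (by rw [card_map_of_injective inj, cR]; rfl)
      Rc := hHC ▸ map_subtype_le _
      nR := by
        have : (Cfsg.pCore 2 (H ⧸ Q)).Characteristic := H44.pCore_characteristic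
        have : P.Normal := hP ▸ inferInstance
        rw [hQ', ← Subgroup.map_sup, eP]
        exact hHC.ge.trans (norm_map_subtype P)
      cardR := by rw [card_map_of_injective inj, cR]
      tR := fun i => ⟨t i, (t i).2, rfl⟩
      tt := fun i => congrArg (fun x : R1 => ((x : H) : G)) (t1 i)
      tc := by
        rintro i _ ⟨x, hx, rfl⟩
        exact mem_cent1.2 (congrArg (fun x : R1 => ((x : H) : G)) (t2 i ⟨x, hx⟩)).symm
      ind := fun e h => t3 e (Subtype.ext (Subtype.ext h)) }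
  refine ⟨z, Q', _, _, U, ?_, fun hw hc => hw fun g hg => ?_⟩
  · have : ∃ g : G, g * z * g⁻¹ ∈ (S : Subgroup G) ∧ g * z * g⁻¹ ∉ zpowers z := by
      by_contra hc
      push Not at hc
      refine hnwc ⟨hZS, fun g hg => ?_⟩
      rw [map_conj_eq_cj, cj_zpowers] at hg ⊢
      refine eq_of_le_of_card_eq (zpowers_le.2 (hc g (hg (mem_zpowers _)))) ?_
      rw [← cj_zpowers, card_cj]
    obtain ⟨g, h1, h2⟩ := this
    exact Fr.nwc_of z3 S.isPGroup' (hZS (mem_zpowers z)) h1 h2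
  · have := hc.2 g (by
      rw [map_conj_eq_cj, cj_zpowers]
      exact zpowers_le.2 (map_mono (H44.le_pCore hQn hQex.1.1) hg))
    rw [map_conj_eq_cj, cj_zpowers] at this
    exact this ▸ mem_zpowers _

end Cfsg.Agent.TE6
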