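import Cfsg.Agent.TE6.Defs2
import Cfsg.Agent.F3.Fr

/-! Project TE6: the eigenspaces of `⟨t₀, t₁, t₂⟩` on `Q`. -/

set_option autoImplicit false

namespace Cfsg.Agent.TE6

open Subgroup H49 T3.Fr2 F3

variable {G : Type*} [Group G] [Finite G] {z : G} {Q R : Subgroup G} {t : Fin 3 → G}

namespace FrB

/-- signs -/
def sg (b : Bool) : ℤ := cond b (-1) 1

/-- the sign of `t ^ e` on the eigenspace `ε` -/
def ch (ε : Bool × Bool × Bool) (e : Fin 3 → Fin 2) : ℤ :=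
  sg ε.1 ^ (e 0).val * sg ε.2.1 ^ (e 1).val * sg ε.2.2 ^ (e 2).val

theorem comb : ∀ a b c : Bool × Bool × Bool, (∀ e, e ≠ 0 → ∃ j, ch (![a, b, c] j) e ≠ 1) →
    ∀ i : Fin 3, ∃ e, ∀ j, ch (![a, b, c] j) e = if i = j then -1 else 1 := by decide +kernel

variable (h : U0 z Q R t) {g k q u w c : G} {X : Subgroup G} {s s' : ℤ}
include h

omit [Finite G] in
theorem cQ : 𝒞[z] ≤ 𝒩(Q) := le_trans (by rw [← cent_zpowers]; exact cent_le_norm _) h.nQ

omit [Finite G] in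
theorem cube (hq : q ∈ Q) : q ^ 3 ∈ zpowers z := h.cen _ (pow_mem hq 3) fun b hb =>
  (Fr.cube_cent h.z3 (W := Q) ⟨h.Qc hq, h.comm q hq⟩ b hb).symm

omit [Finite G] in
theorem pw (hu : u ∈ Q) (hw : w ∈ Q) (s : ℤ) : u ^ s * w ^ s * ((u * w) ^ s)⁻¹ ∈ zpowers z := by
  have : ((zpowers z).subgroupOf Q).Normal := ⟨fun c hc g => by
    rw [mem_subgroupOf] at hc ⊢
    show (g : G) * c * (g : G)⁻¹ ∈ zpowers z
    rwa [Z_conj (h.Qc g.2) hc]⟩
  have c : Commute (QuotientGroup.mk' ((zpowers z).subgroupOf Q) ⟨u, hu⟩)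
      (QuotientGroup.mk' _ ⟨w, hw⟩) := by
    rw [← commutatorElement_eq_one_iff_commute, ← map_commutatorElement]
    exact (QuotientGroup.eq_one_iff _).2 (h.comm u hu w hw)
  have := (c.mul_zpow s).symm
  rw [← mul_inv_eq_one, ← map_mul, ← map_zpow, ← map_zpow, ← map_zpow, ← map_inv, ← map_mul,
    ← map_mul] at this
  exact mem_subgroupOf.1 ((QuotientGroup.eq_one_iff _).1 this)

/-- the elements of `Q` raised to the power `s` by `g`, modulo `⟨z⟩` -/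
def S (g : G) (s : ℤ) : Subgroup G where
  carrier := {q | q ∈ Q ∧ g * q * g⁻¹ * (q ^ s)⁻¹ ∈ zpowers z}
  one_mem' := ⟨one_mem _, by simp⟩
  mul_mem' := fun {p q} a b => ⟨mul_mem a.1 b.1, by
    rw [show g * (p * q) * g⁻¹ * ((p * q) ^ s)⁻¹ = (g * p * g⁻¹ * (p ^ s)⁻¹) *
      (p ^ s * (g * q * g⁻¹ * (q ^ s)⁻¹) * (p ^ s)⁻¹) * (p ^ s * q ^ s * ((p * q) ^ s)⁻¹) by group,
      Z_conj (zpow_mem (h.Qc a.1) s) b.2]
    exact mul_mem (mul_mem a.2 b.2) (pw h a.1 b.1 s)⟩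
  inv_mem' := fun {q} a => ⟨inv_mem a.1, by
    rw [show g * q⁻¹ * g⁻¹ * (q⁻¹ ^ s)⁻¹ = (q ^ s)⁻¹ * (g * q * g⁻¹ * (q ^ s)⁻¹)⁻¹ * (q ^ s)⁻¹⁻¹ by
      group, Z_conj (inv_mem (zpow_mem (h.Qc a.1) s)) (inv_mem a.2)]
    exact inv_mem a.2⟩

omit [Finite G] in
theorem S_z (hg : g ∈ 𝒞[z]) : zpowers z ≤ S h g s := fun c hc =>
  ⟨zpowers_le.2 h.zQ hc, by rw [Z_conj hg hc]; exact mul_mem hc (inv_mem (zpow_mem hc s))⟩

omit [Finite G] in
theorem S_ex (a : q ∈ S h g s) : ∃ c ∈ zpowers z, g * q * g⁻¹ = c * q ^ s := ⟨_, a.2, by group⟩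

omit [Finite G] in
theorem S_mul (hg : g ∈ 𝒞[z]) (a : q ∈ S h g s) (b : q ∈ S h k s') : q ∈ S h (g * k) (s * s') := by
  obtain ⟨c, hc, e⟩ := S_ex h a
  obtain ⟨d, hd, f⟩ := S_ex h b
  refine ⟨a.1, ?_⟩
  rw [show g * k * q * (g * k)⁻¹ = g * (k * q * k⁻¹) * g⁻¹ by group, f, ← conj_mul, Z_conj hg hd,
    ← conj_zpow, e, Commute.mul_zpow (Z_comm (zpow_mem (h.Qc a.1) s) hc), ← zpow_mul, ← mul_assoc,
    mul_inv_cancel_right]
  exact mul_mem hd (zpow_mem hc _)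

omit [Finite G] in
theorem S_pow (hg : g ∈ 𝒞[z]) (a : q ∈ S h g s) (n : ℕ) : q ∈ S h (g ^ n) (s ^ n) := by
  induction n with
  | zero => exact ⟨a.1, by simp⟩
  | succ n ih => rw [pow_succ', pow_succ']; exact S_mul h hg a ih

theorem S_norm (hk : k ∈ 𝒞[z]) (e : k ∈ 𝒞[g]) : k ∈ 𝒩(S h g s) := mem_norm_of_cj_le fun x hx => by
  obtain ⟨q, hq, rfl⟩ := mem_cj'.1 hx
  refine ⟨conj_mem_of_norm (cQ h) hk hq.1, ?_⟩
  rw [conj_zpow, show g * (k * q * k⁻¹) * g⁻¹ = g * k * q * (g * k)⁻¹ * (g * k * k⁻¹ * g⁻¹) by group,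
    mul_inv_cancel_right, mul_inv_cancel, mul_one, ← mem_cent1.1 e,
    show k * g * q * (k * g)⁻¹ * (k * q ^ s * k⁻¹)⁻¹ = k * (g * q * g⁻¹ * (q ^ s)⁻¹) * k⁻¹ by group,
    Z_conj hk hq.2]
  exact hq.2

omit [Finite G] in
theorem S_comm (hg : g ∈ 𝒞[z]) : S h g 1 ≤ 𝒞(S h g (-1)) := fun u hu w hw => by
  obtain ⟨c, hc, e⟩ := S_ex h hu
  obtain ⟨d, hd, f⟩ := S_ex h hw
  rw [zpow_one] at e
  rw [zpow_neg_one] at f
  have m := h.comm u hu.1 w hw.1
  have e1 := Z_conj hg m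
  have e2 := Z_conj (inv_mem (h.Qc hw.1)) (inv_mem m)
  have e3 := Fr.Zcube h.z3 m
  have e4 : g * (u * w * u⁻¹ * w⁻¹) * g⁻¹ = u * w⁻¹ * u⁻¹ * w := by
    calc _ = g * u * g⁻¹ * (g * w * g⁻¹) * (g * u * g⁻¹)⁻¹ * (g * w * g⁻¹)⁻¹ := by group
      _ = c * (u * d * u⁻¹ * (u * w⁻¹ * u⁻¹)) * c⁻¹ * w * d⁻¹ := by rw [e, f]; group
      _ = d * (u * w⁻¹ * u⁻¹ * w) * d⁻¹ := by
        rw [Z_conj (h.Qc hu.1) hd, Z_comm (mul_mem (zpowers_le.2 (self_mem_cent1 z) hd) (h.Qc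
          (mul_mem (mul_mem hu.1 (inv_mem hw.1)) (inv_mem hu.1)))) hc]
        group
      _ = _ := by
        rw [Z_comm (h.Qc (mul_mem (mul_mem (mul_mem hu.1 (inv_mem hw.1)) (inv_mem hu.1)) hw.1)) hd,
          mul_inv_cancel_right]
  have e5 : w⁻¹ * (u * w * u⁻¹ * w⁻¹)⁻¹ * w⁻¹⁻¹ = u * w⁻¹ * u⁻¹ * w := by group
  rw [← e1.symm.trans e4, e2] at e5
  rw [pow_succ, pow_two] at e3
  nth_rewrite 1 [← e5] at e3
  rw [inv_mul_cancel, one_mul, mul_inv_eq_one, mul_inv_eq_iff_eq_mul] at e3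
  exact e3.symm

/-- `R`-invariant subgroups of `Q` with centre `⟨z⟩` -/
structure Gd (z : G) (Q R X : Subgroup G) : Prop where
  zX : zpowers z ≤ X
  XQ : X ≤ Q
  nd : X ⊓ 𝒞(X) ≤ zpowers z
  RN : R ≤ 𝒩(X)

/-- the exponent of the order -/
noncomputable def dm (X : Subgroup G) : ℕ := Nat.log 3 (Nat.card X)

omit [Finite G] in
theorem card_dm (hX : X ≤ Q) : Nat.card X = 3 ^ dm X := by
  obtain ⟨k, -, e⟩ := (Nat.dvd_prime_pow Nat.prime_three (m := 7)).1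
    ((card_dvd_of_le hX).trans (by rw [h.card]; norm_num))
  rw [dm, e, Nat.log_pow (by norm_num)]

theorem big (a : Gd z Q R X) : X ≤ zpowers z ∧ dm X = 1 ∨ 3 ≤ dm X := by
  have cz : Nat.card (zpowers z) = 3 := by rw [Nat.card_zpowers, h.z3]
  by_cases e : X ≤ zpowers z
  · exact .inl ⟨e, by rw [dm, le_antisymm e a.zX, cz]; rfl⟩
  obtain ⟨u, hu, nu⟩ := SetLike.not_le_iff_exists.1 e
  have l1 : zpowers z < X ⊓ 𝒞[u] := lt_of_le_of_ne (fun c hc =>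
    ⟨a.zX hc, mem_cent1.2 (Z_comm (h.Qc (a.XQ hu)) hc)⟩) fun e => nu (e.ge ⟨hu, self_mem_cent1 u⟩)
  have l2 : X ⊓ 𝒞[u] < X := lt_of_le_of_ne inf_le_left fun e =>
    nu (a.nd ⟨hu, le_cent1_iff.1 (inf_eq_left.1 e)⟩)
  have k1 := card_lt_of_lt l1
  have k2 := card_lt_of_lt l2
  rw [card_dm h (inf_le_left.trans a.XQ)] at k1 k2
  rw [card_dm h a.XQ, Nat.pow_lt_pow_iff_right (by norm_num)] at k2
  rw [cz, ← pow_one 3, ← pow_mul, Nat.pow_lt_pow_iff_right (by norm_num)] at k1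
  omega

theorem split (a : Gd z Q R X) (i : Fin 3) : (∀ b, Gd z Q R (X ⊓ S h (t i) (sg b))) ∧
    dm X + 1 = dm (X ⊓ S h (t i) (sg true)) + dm (X ⊓ S h (t i) (sg false)) ∧
    ∀ K, (∀ b, X ⊓ S h (t i) (sg b) ≤ K) → X ≤ K := by
  have hg := h.Rc (h.tR i)
  have zz : ∀ s, zpowers z ≤ X ⊓ S h (t i) s := fun s => le_inf a.zX (S_z h hg)
  have dec : ∀ K, (∀ b, X ⊓ S h (t i) (sg b) ≤ K) → X ≤ K := fun K hK q hq => by
    have hq' := conj_mem_of_norm a.RN (h.tR i) hq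
    have e : t i * (t i * q * (t i)⁻¹) * (t i)⁻¹ = q := by
      rw [show t i * (t i * q * (t i)⁻¹) * (t i)⁻¹ = t i * t i * q * (t i * t i)⁻¹ by group, h.tt]
      group
    generalize hp : t i * q * (t i)⁻¹ = p at hq' e
    have m1 : q * p ∈ K := hK false ⟨mul_mem hq hq', a.XQ (mul_mem hq hq'), by
      rw [← conj_mul, hp, e, show sg false = 1 from rfl, zpow_one, mul_inv_rev, ← mul_assoc]
      exact h.comm p (a.XQ hq') q (a.XQ hq)⟩
    have m0 := mul_mem hq (inv_mem hq')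
    have m2 : q * p⁻¹ ∈ K := hK true ⟨m0, a.XQ m0, by
      rw [← conj_mul, ← conj_inv, hp, e, show sg true = -1 from rfl]
      simp⟩
    have zK : zpowers z ≤ K := (zz _).trans (hK true)
    have m3 := mul_mem (mul_mem m2 m1) (inv_mem (zK (h.comm _ (inv_mem (a.XQ hq)) _
      (inv_mem (a.XQ hq')))))
    have := mul_mem (pow_mem m3 2) (inv_mem (zK (cube h (a.XQ hq))))
    convert this using 1
    rw [pow_two]
    group
  have cm : X ⊓ S h (t i) 1 ≤ 𝒞(X ⊓ S h (t i) (-1)) :=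
    inf_le_right.trans ((S_comm h hg).trans (centralizer_le inf_le_right))
  have nd : ∀ b u, u ∈ X ⊓ S h (t i) (sg b) → u ∈ 𝒞(X ⊓ S h (t i) (sg b)) → u ∈ zpowers z :=
    fun b u hu hc => a.nd ⟨hu.1, le_cent1_iff.1 (dec _ fun b' => le_cent1_iff.2 (by
      cases b <;> cases b'
      exacts [hc, cm hu, cent_comm.1 cm hu, hc]))⟩
  refine ⟨fun b => ⟨zz _, inf_le_left.trans a.XQ, fun u hu => nd b u hu.1 hu.2, fun k hk =>
    inf_normalizer_le_normalizer_inf ⟨a.RN hk, S_norm h (h.Rc hk) (h.tc i hk)⟩⟩, ?_, dec⟩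
  have e := card_sup_mul_card_inf (.inl (norm_of_cent cm))
  rw [le_antisymm (sup_le inf_le_left inf_le_left) (dec _ fun b => by
      cases b
      exacts [le_sup_left, le_sup_right]),
    show X ⊓ S h (t i) 1 ⊓ (X ⊓ S h (t i) (-1)) = zpowers z from
      le_antisymm (fun u hu => nd true u hu.2 (cm hu.1)) (le_inf (zz _) (zz _)), Nat.card_zpowers,
    h.z3, card_dm h a.XQ, card_dm h (inf_le_left.trans a.XQ), card_dm h (inf_le_left.trans a.XQ),
    ← pow_succ, ← pow_add] at e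
  rw [Nat.pow_right_injective (by norm_num) e, add_comm]
  rfl

end FrB

open FrB in
/-- notes/TE6.md, section FrB -/
theorem U0.c1 (h : U0 z Q R t) : ∃ Qs r, C1 z Q Qs r R := by
  classical
  have g0 : Gd z Q R Q := ⟨zpowers_le.2 h.zQ, le_rfl,
    fun a ha => h.cen a ha.1 fun b hb => (ha.2 b hb).symm, h.Rc.trans (cQ h)⟩
  let W : Bool × Bool × Bool → Subgroup G := fun ε =>
    Q ⊓ S h (t 0) (sg ε.1) ⊓ S h (t 1) (sg ε.2.1) ⊓ S h (t 2) (sg ε.2.2)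
  have s0 := split h g0 0
  have s1 := fun a => split h (s0.1 a) 1
  have s2 := fun a b => split h ((s1 a).1 b) 2
  have gW : ∀ ε, Gd z Q R (W ε) := fun ε => (s2 ε.1 ε.2.1).1 ε.2.2
  have gen : ∀ K, (∀ ε, W ε ≤ K) → Q ≤ K := fun K hK =>
    s0.2.2 K fun a => (s1 a).2.2 K fun b => (s2 a b).2.2 K fun c => hK (a, b, c)
  have sum : ∑ ε, dm (W ε) = 14 := by
    have e : dm Q = 7 := by rw [dm, h.card]; norm_num
    have := s0.2.1
    have := (s1 true).2.1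
    have := (s1 false).2.1
    have := (s2 true true).2.1
    have := (s2 true false).2.1
    have := (s2 false true).2.1
    have := (s2 false false).2.1
    simp only [Fintype.sum_prod_type, Fintype.sum_bool, W]
    omega
  let T := Finset.univ.filter fun ε => 3 ≤ dm (W ε)
  have nT : ∀ ε, ε ∉ T → W ε ≤ zpowers z ∧ dm (W ε) = 1 := fun ε e =>
    (big h (gW ε)).resolve_right (by simpa [T] using e)
  have le : ∀ ε ∈ Finset.univ, (1 + if ε ∈ T then 2 else 0) ≤ dm (W ε) := fun ε _ => by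
    split_ifs with e
    · simpa [T] using e
    · rw [(nT ε e).2]
  have sT : ∑ ε, (1 + if ε ∈ T then 2 else 0) = 8 + 2 * T.card := by
    simp [Finset.sum_add_distrib, mul_comm]
  have cT := Finset.sum_le_sum le
  obtain ⟨T', hT, cT'⟩ := Finset.exists_superset_card_eq (s := T) (n := 3) (by omega) (by simp)
  obtain ⟨a, b, c, -, -, -, rfl⟩ := Finset.card_eq_three.1 cT'
  have hT' : ∀ ε ∈ T, ∃ j, ε = ![a, b, c] j := fun ε e => by
    have := hT e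
    simp only [Finset.mem_insert, Finset.mem_singleton] at this
    rcases this with rfl | rfl | rfl
    exacts [⟨0, rfl⟩, ⟨1, rfl⟩, ⟨2, rfl⟩]
  let te : (Fin 3 → Fin 2) → G := fun e => t 0 ^ (e 0).val * t 1 ^ (e 1).val * t 2 ^ (e 2).val
  have tz := fun i => h.Rc (h.tR i)
  have tR : ∀ e, te e ∈ R := fun e =>
    mul_mem (mul_mem (pow_mem (h.tR 0) _) (pow_mem (h.tR 1) _)) (pow_mem (h.tR 2) _)
  have act : ∀ ε e, W ε ≤ S h (te e) (ch ε e) := fun ε e q hq =>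
    S_mul h (mul_mem (pow_mem (tz 0) _) (pow_mem (tz 1) _)) (S_mul h (pow_mem (tz 0) _)
      (S_pow h (tz 0) hq.1.1.2 _) (S_pow h (tz 1) hq.1.2 _)) (S_pow h (tz 2) hq.2 _)
  have QR : Q ⊓ R = ⊥ := disjoint_iff.1 <| disjoint_of_coprime_natCard (by
    rw [h.card, h.cardR]; norm_num)
  have key : ∀ e, (∀ ε ∈ T, ch ε e = 1) → e = 0 := fun e he => by
    have l : Q ≤ S h (te e) 1 := gen _ fun ε => by
      by_cases k : ε ∈ T
      exacts [he ε k ▸ act ε e, (nT ε k).1.trans (S_z h (h.Rc (tR e)))]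
    have : te e ∈ Q ⊓ R := ⟨h.faith _ (h.Rc (tR e)) fun q hq => by simpa using (l hq).2, tR e⟩
    exact h.ind e (by rwa [QR, mem_bot] at this)
  choose e he using comb a b c fun e e0 => by
    by_contra hc
    push Not at hc
    exact e0 (key e fun ε k => by obtain ⟨j, rfl⟩ := hT' ε k; exact hc j)
  generalize ![a, b, c] = ε at hT' he
  have eT : ∀ i, ε i ∈ T := fun i => by
    by_contra hc
    have := he i i
    rw [key (e i) fun x k => by
      obtain ⟨j, rfl⟩ := hT' x k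
      rw [he, if_neg (by rintro rfl; exact hc k)]] at this
    simp [ch] at this
  have c3 : 3 ≤ T.card := by
    have inj : Function.Injective ε := fun i j k => by
      have := (he i i).symm.trans (k ▸ he i j)
      by_contra hc
      simp [hc] at this
    simpa using Finset.card_le_card_of_injOn (s := Finset.univ) ε (fun i _ => eT i) inj.injOn
  have d3 := (Finset.sum_eq_sum_iff_of_le le).1 (by omega)
  have i1 : ∀ i, W (ε i) ≤ S h (te (e i)) (-1) := fun i => by simpa [he] using act (ε i) (e i)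
  have i2 : ∀ i j, i ≠ j → W (ε j) ≤ S h (te (e i)) 1 := fun i j k => by
    simpa [he, k] using act (ε j) (e i)
  have QQ : ∀ i j, i ≠ j → W (ε i) ≤ 𝒞(W (ε j)) := fun i j k =>
    (i2 j i k.symm).trans ((S_comm h (h.Rc (tR _))).trans (centralizer_le (i1 j)))
  have sup : W (ε 0) ⊔ W (ε 1) ⊔ W (ε 2) = Q := le_antisymm
    (sup_le (sup_le (gW _).XQ (gW _).XQ) (gW _).XQ) (gen _ fun x => by
      by_cases k : x ∈ T
      · obtain ⟨j, rfl⟩ := hT' x k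
        fin_cases j
        exacts [le_sup_left.trans le_sup_left, le_sup_right.trans le_sup_left, le_sup_right]
      · exact (nT x k).1.trans ((gW _).zX.trans le_sup_right))
  have ex : ∀ i, ∀ q ∈ W (ε i), q ^ 3 = 1 := fun i q hq => by
    have hQ := (gW _).XQ hq
    obtain ⟨c, hc, e1⟩ := S_ex h (i1 i hq)
    have e2 := Z_conj (h.Rc (tR (e i))) (cube h hQ)
    rw [← conj_pow, e1, zpow_neg_one, Commute.mul_pow (Z_comm (inv_mem (h.Qc hQ)) hc),
      Fr.Zcube h.z3 hc, one_mul] at e2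
    have e3 := Fr.Zcube h.z3 (cube h hQ)
    rw [pow_succ, pow_two] at e3
    nth_rewrite 1 [← e2] at e3
    simpa using e3
  have f : E1 z Q := ⟨h.z3, h.zQ, h.Qc, h.comm, h.cen, sup ▸ Fr.exp_sup
    (sup_le (QQ 0 2 (by decide)) (QQ 1 2 (by decide))) (Fr.exp_sup (QQ 0 1 (by decide)) (ex 0) (ex 1))
      (ex 2), h.nQ, h.faith⟩
  have r2 : ∀ e, te e * te e = 1 := fun e => by
    have c : ∀ i j (m n : ℕ), Commute (t i ^ m) (t j ^ n) := fun i j m n =>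
      Commute.pow_pow (mem_cent1.1 (h.tc j (h.tR i))) m n
    have k : ∀ i (m : ℕ), t i ^ m * t i ^ m = 1 := fun i m => by
      rw [← (Commute.refl _).mul_pow, h.tt, one_pow]
    rw [((c 0 2 _ _).mul_left (c 1 2 _ _)).symm.mul_mul_mul_comm, (c 1 0 _ _).mul_mul_mul_comm, k, k, k]
    simp
  refine ⟨fun i => W (ε i), fun i => te (e i), ⟨f, h.card, fun i => (gW _).zX (mem_zpowers z),
    fun i => ?_, sup, QQ, fun i => r2 _, fun i => tR _, fun i q hq => by simpa using (i1 i hq).2,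
    fun i j k u hu => (mul_inv_eq_iff_eq_mul.1 (Fa.fix_of_invol f (h.Rc (tR _)) (r2 _)
      (by simpa using (i2 i j k hu).2))).symm, h.R2, h.Rc, fun i => (gW _).RN, h.nR⟩, h.cardR⟩
  rw [card_dm h (gW _).XQ, ← d3 _ (Finset.mem_univ _), if_pos (eT i)]
  rfl

end Cfsg.Agent.TE6
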