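/-
Project TE6, part 1: the hypotheses inside `G`.
-/
import Cfsg.Agent.TE6.Defs

set_option autoImplicit false

namespace Cfsg.Agent.TE6

open Subgroup H49

variable {G : Type*} [Group G]

/-- The hypotheses inside `G`: `R` is a complement to `Q` in the preimage of `O₂(C(z)/Q)`, and `t₀, t₁, t₂` are
independent central involutions of `R`. -/
structure U0 (z : G) (Q R : Subgroup G) (t : Fin 3 → G) : Prop where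
  z3 : orderOf z = 3
  zQ : z ∈ Q
  Qc : Q ≤ 𝒞[z]
  comm : ∀ a ∈ Q, ∀ b ∈ Q, a * b * a⁻¹ * b⁻¹ ∈ zpowers z
  cen : ∀ a ∈ Q, (∀ b ∈ Q, a * b = b * a) → a ∈ zpowers z
  nQ : 𝒩(zpowers z) ≤ 𝒩(Q)
  faith : ∀ g ∈ 𝒞[z], (∀ q ∈ Q, g * q * g⁻¹ * q⁻¹ ∈ zpowers z) → g ∈ Q
  card : Nat.card Q = 2187
  R2 : IsPGroup 2 R
  Rc : R ≤ 𝒞[z]
  nR : 𝒞[z] ≤ 𝒩(Q ⊔ R)
  cardR : Nat.card R = 512
  tR : ∀ i, t i ∈ R
  tt : ∀ i, t i * t i = 1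
  tc : ∀ i, R ≤ 𝒞[t i]
  ind : ∀ e : Fin 3 → Fin 2, t 0 ^ (e 0).val * t 1 ^ (e 1).val * t 2 ^ (e 2).val = 1 → e = 0

end Cfsg.Agent.TE6
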