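import Cfsg.Agent.TE6.Defs

set_option autoImplicit false

namespace Cfsg.Agent.TE6

open Subgroup H49 T3.Fr2 F3

variable {G : Type*} [Group G] [Finite G] {z : G} {Q R : Subgroup G} {Qs : Fin 3 → Subgroup G}
  {r : Fin 3 → G} {a b : Fin 3 → G} {p s x : G} {J : Subgroup G}

namespace Iso

/-- the five unit vectors -/
def e0 : V5 := ![1, 0, 0, 0, 0]
def e1 : V5 := ![0, 1, 0, 0, 0]
def e2 : V5 := ![0, 0, 1, 0, 0]
def e3 : V5 := ![0, 0, 0, 1, 0]
def e4 : V5 := ![0, 0, 0, 0, 1]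

theorem dec (v : V5) : v = v 0 • e0 + v 1 • e1 + v 2 • e2 + v 3 • e3 + v 4 • e4 := by
  funext i
  fin_cases i <;> simp [e0, e1, e2, e3, e4]

theorem expand (M : V5 ≃+ V5) (v : V5) :
    F (M v) = v 0 * v 0 * F (M e0) + v 1 * v 1 * F (M e1) + v 2 * v 2 * F (M e2) + v 3 * v 3 * F (M e3)
      + v 4 * v 4 * F (M e4) + v 0 * v 1 * B (M e0) (M e1) + v 0 * v 2 * B (M e0) (M e2)
      + v 0 * v 3 * B (M e0) (M e3) + v 0 * v 4 * B (M e0) (M e4) + v 1 * v 2 * B (M e1) (M e2)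
      + v 1 * v 3 * B (M e1) (M e3) + v 1 * v 4 * B (M e1) (M e4) + v 2 * v 3 * B (M e2) (M e3)
      + v 2 * v 4 * B (M e2) (M e4) + v 3 * v 4 * B (M e3) (M e4) := by
  have sm : ∀ (c : ZMod 3) (w : V5), M (c • w) = c • M w := fun c w => ZMod.map_smul M c w
  have h : M v = v 0 • M e0 + v 1 • M e1 + v 2 • M e2 + v 3 • M e3 + v 4 • M e4 := by
    conv_lhs => rw [dec v]
    simp only [map_add, sm]
  rw [h]
  simp only [F, B, Pi.add_apply, Pi.smul_apply, smul_eq_mul]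
  ring

theorem tri : ∀ ε g u w : ZMod 3, ε + g + u + w = 0 → ε + g - u - w = 0 → g + u ≠ 0 → g - u ≠ 0 → ε ≠ 0 →
    g = -ε ∧ u = 0 ∧ w = 0 := by decide

theorem two : ∀ ε u : ZMod 3, ε ≠ 0 → -ε + -ε + u ≠ 0 → -ε + -ε - u ≠ 0 → u = 0 := by decide

theorem cnt : (Finset.univ.filter (fun v : V5 => F v = 1)).card ≠
    (Finset.univ.filter (fun v : V5 => F v = -1)).card := by decide +kernel

theorem sum2 : ∀ v : V5, ∃ u : V5, u ≠ 0 ∧ F u = 0 ∧ v - u ≠ 0 ∧ F (v - u) = 0 := by decide +kernel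

end Iso

open Iso in
/-- notes/TE6.md, section Iso -/
theorem iso_F (M : V5 ≃+ V5) (hM : ∀ v, F (M v) = 0 ↔ F v = 0) (v : V5) : F (M v) = F v := by
  have z0 : ∀ w : V5, F w = 0 → F (M w) = 0 := fun w h => (hM w).2 h
  have n0 : ∀ w : V5, F w ≠ 0 → F (M w) ≠ 0 := fun w h h' => h ((hM w).1 h')
  have g0 : F (M e0) = 0 := z0 _ (by decide)
  have g4 : F (M e4) = 0 := z0 _ (by decide)
  set ε := B (M e0) (M e4) with hε
  have hne : ε ≠ 0 := by
    have := n0 ![1, 0, 0, 0, 1] (by decide)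
    rw [expand] at this
    simpa [g0, g4] using this
  have t1 : F (M e1) = -ε ∧ B (M e0) (M e1) = 0 ∧ B (M e1) (M e4) = 0 := by
    have a1 := z0 ![1, 1, 0, 0, 1] (by decide)
    have a2 := z0 ![1, -1, 0, 0, 1] (by decide)
    have a3 := n0 ![1, 1, 0, 0, 0] (by decide)
    have a4 := n0 ![1, -1, 0, 0, 0] (by decide)
    rw [expand] at a1 a2 a3 a4
    simp [g0, g4] at a1 a2 a3 a4
    refine tri _ _ _ _ ?_ ?_ ?_ ?_ hne
    · linear_combination a1
    · linear_combination a2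
    · intro h; exact a3 (by linear_combination h)
    · intro h; exact a4 (by linear_combination h)
  have t2 : F (M e2) = -ε ∧ B (M e0) (M e2) = 0 ∧ B (M e2) (M e4) = 0 := by
    have a1 := z0 ![1, 0, 1, 0, 1] (by decide)
    have a2 := z0 ![1, 0, -1, 0, 1] (by decide)
    have a3 := n0 ![1, 0, 1, 0, 0] (by decide)
    have a4 := n0 ![1, 0, -1, 0, 0] (by decide)
    rw [expand] at a1 a2 a3 a4
    simp [g0, g4] at a1 a2 a3 a4
    refine tri _ _ _ _ ?_ ?_ ?_ ?_ hne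
    · linear_combination a1
    · linear_combination a2
    · intro h; exact a3 (by linear_combination h)
    · intro h; exact a4 (by linear_combination h)
  have t3 : F (M e3) = -ε ∧ B (M e0) (M e3) = 0 ∧ B (M e3) (M e4) = 0 := by
    have a1 := z0 ![1, 0, 0, 1, 1] (by decide)
    have a2 := z0 ![1, 0, 0, -1, 1] (by decide)
    have a3 := n0 ![1, 0, 0, 1, 0] (by decide)
    have a4 := n0 ![1, 0, 0, -1, 0] (by decide)
    rw [expand] at a1 a2 a3 a4
    simp [g0, g4] at a1 a2 a3 a4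
    refine tri _ _ _ _ ?_ ?_ ?_ ?_ hne
    · linear_combination a1
    · linear_combination a2
    · intro h; exact a3 (by linear_combination h)
    · intro h; exact a4 (by linear_combination h)
  have u12 : B (M e1) (M e2) = 0 := by
    have a3 := n0 ![0, 1, 1, 0, 0] (by decide)
    have a4 := n0 ![0, 1, -1, 0, 0] (by decide)
    rw [expand] at a3 a4
    simp [t1.1, t2.1] at a3 a4
    refine two ε _ hne ?_ ?_
    · intro h; exact a3 (by linear_combination h)
    · intro h; exact a4 (by linear_combination h)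
  have u13 : B (M e1) (M e3) = 0 := by
    have a3 := n0 ![0, 1, 0, 1, 0] (by decide)
    have a4 := n0 ![0, 1, 0, -1, 0] (by decide)
    rw [expand] at a3 a4
    simp [t1.1, t3.1] at a3 a4
    refine two ε _ hne ?_ ?_
    · intro h; exact a3 (by linear_combination h)
    · intro h; exact a4 (by linear_combination h)
  have u23 : B (M e2) (M e3) = 0 := by
    have a3 := n0 ![0, 0, 1, 1, 0] (by decide)
    have a4 := n0 ![0, 0, 1, -1, 0] (by decide)
    rw [expand] at a3 a4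
    simp [t2.1, t3.1] at a3 a4
    refine two ε _ hne ?_ ?_
    · intro h; exact a3 (by linear_combination h)
    · intro h; exact a4 (by linear_combination h)
  have all : ∀ w : V5, F (M w) = ε * F w := by
    intro w
    rw [expand, g0, g4, t1.1, t1.2.1, t1.2.2, t2.1, t2.2.1, t2.2.2, t3.1, t3.2.1, t3.2.2, u12, u13, u23,
      ← hε]
    simp only [F]
    ring
  have hcase : ∀ c : ZMod 3, c ≠ 0 → c = 1 ∨ c = -1 := by decide
  rcases hcase ε hne with h1 | h1
  · rw [all, h1, one_mul]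
  · exfalso
    apply cnt
    refine Finset.card_bij (fun w _ => M w) ?_ ?_ ?_
    · intro w hw
      simp only [Finset.mem_filter, Finset.mem_univ, true_and] at hw ⊢
      rw [all, h1, hw, mul_one]
    · intro w _ w' _ e
      exact M.injective e
    · intro w hw
      simp only [Finset.mem_filter, Finset.mem_univ, true_and] at hw
      refine ⟨M.symm w, ?_, M.apply_symm_apply w⟩
      simp only [Finset.mem_filter, Finset.mem_univ, true_and]
      have := all (M.symm w)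
      rw [M.apply_symm_apply, hw, h1] at this
      linear_combination this

theorem CX.phJ (h : CX z Q Qs r R a b p s J x) (v : V5) : ph z a x v ∈ J := by
  have hA : z ^ (v 0).val * a 0 ^ (v 1).val * a 1 ^ (v 2).val * a 2 ^ (v 3).val ∈
      Q ⊓ 𝒞[a 0] ⊓ 𝒞[a 1] ⊓ 𝒞[a 2] := (h.toB2.mem_A h.fm).2 ⟨_, _, _, _, rfl⟩
  refine J.mul_mem ?_ (J.pow_mem h.xJ _)
  rw [h.Jdef]
  obtain ⟨⟨⟨h1, h2⟩, h3⟩, h4⟩ := hA
  exact ⟨⟨⟨h.toB2.toE1.Qc h1, h2⟩, h3⟩, h4⟩

theorem CX.ph_zero (h : CX z Q Qs r R a b p s J x) : ph z a x 0 = 1 := by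
  simp [ph]

theorem CX.sing (h : CX z Q Qs r R a b p s J x) {n : G} (hn : n ∈ 𝒩(J)) {u : V5} (h0 : u ≠ 0)
    (hu : F u = 0) : ∃ w, w ≠ 0 ∧ F w = 0 ∧ n * ph z a x u * n⁻¹ = ph z a x w := by
  have h1 : IsConj z (ph z a x u) := (h.om _ (h.phJ u)).2 ⟨u, h0, hu, rfl⟩
  have h2 : n * ph z a x u * n⁻¹ ∈ J := (mem_normalizer_iff.1 hn _).1 (h.phJ u)
  exact (h.om _ h2).1 (h1.trans (isConj_iff.2 ⟨n, rfl⟩))

theorem CX.rng (h : CX z Q Qs r R a b p s J x) {n : G} (hn : n ∈ 𝒩(J)) (v : V5) :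
    ∃ w, n * ph z a x v * n⁻¹ = ph z a x w := by
  obtain ⟨u, u0, u1, u2, u3⟩ := Iso.sum2 v
  obtain ⟨w, -, -, e⟩ := h.sing hn u0 u1
  obtain ⟨w', -, -, e'⟩ := h.sing hn u2 u3
  refine ⟨w + w', ?_⟩
  have : v = u + (v - u) := by abel
  rw [h.add, ← e, ← e', this, h.add, add_sub_cancel_left]
  group

/-- notes/TE6.md, section Iso -/
theorem CX.iso (h : CX z Q Qs r R a b p s J x) {n : G} (hn : n ∈ 𝒩(J)) :
    ∃ M : V5 ≃+ V5, (∀ v, F (M v) = F v) ∧ ∀ v, n * ph z a x v * n⁻¹ = ph z a x (M v) := by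
  choose f hf using h.rng hn
  choose g hg using h.rng (inv_mem hn)
  have fg : ∀ v, f (g v) = v := by
    intro v
    apply h.inj
    rw [← hf, ← hg]; group
  have gf : ∀ v, g (f v) = v := by
    intro v
    apply h.inj
    rw [← hg, ← hf]; group
  have fa : ∀ u v, f (u + v) = f u + f v := by
    intro u v
    apply h.inj
    rw [h.add, ← hf, ← hf, ← hf, h.add]; group
  let M : V5 ≃+ V5 := ⟨⟨f, g, gf, fg⟩, fa⟩
  have hM : ∀ v, M v = f v := fun _ => rfl
  refine ⟨M, iso_F M ?_, hf⟩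
  intro v
  by_cases v0 : v = 0
  · rw [v0, map_zero]
  constructor
  · intro e
    have m0 : M v ≠ 0 := fun e0 => v0 (M.injective (by rw [e0, map_zero]))
    obtain ⟨w, -, w1, w2⟩ := h.sing (inv_mem hn) m0 e
    rw [hg, hM, gf] at w2
    rw [h.inj w2]; exact w1
  · intro e
    obtain ⟨w, -, w1, w2⟩ := h.sing hn v0 e
    rw [hf] at w2
    rw [hM, h.inj w2]; exact w1

end Cfsg.Agent.TE6
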