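import Cfsg.Agent.TE6.BasA
import Cfsg.Agent.F3.IIb

set_option autoImplicit false

namespace Cfsg.Agent.TE6

open Subgroup H49 T3.Fr2 F3

variable {G : Type*} [Group G] [Finite G] {z : G} {Q R : Subgroup G} {Qs : Fin 3 → Subgroup G}
  {r : Fin 3 → G}

/-- An element of `Q` orthogonal to the other two factors lies in the third. -/
theorem k1_mem (h : B2 z Q Qs r R) {k : Fin 3} {q : G} (hq : q ∈ Q)
    (e : ∀ l, l ≠ k → ∀ u ∈ Qs l, bt z q u = 0) : q ∈ Qs k := by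
  obtain ⟨u, hu, rfl⟩ := h.dec hq
  refine Bas1a.fill k (hu k) fun l hl => Bas2.ZQs h k (Bas2.memZ h (hu l) fun v hv => ?_)
  rw [Fa.bt_swap h.toE1 (h.le l hv) (h.le l (hu l)), ← Bas2.bt_dec h hu hv, e l hl v hv, neg_zero]

theorem k1_card (h : B2 z Q Qs r R) {k : Fin 3} {a b : G} (f : Fm z (Qs k) (r k) a b) :
    Nat.card ↥(Qs k ⊓ 𝒞[a]) ≤ 9 := by
  obtain ⟨m, hm⟩ := IsPGroup.iff_card.1 (h.toE1.isP.to_le (inf_le_left.trans (h.le k) : Qs k ⊓ 𝒞[a] ≤ Q))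
  refine T3.pow3_le (n := 2) hm (lt_of_le_of_ne ((card_le_of_le inf_le_left).trans_eq (h.cards k)) fun e => ?_)
  exact IIb.ncomm h.toE1 f (mem_cent1.1
    ((eq_of_le_of_card_eq inf_le_left (e.trans (h.cards k).symm)).ge f.bW).2).symm

theorem k1_cent (h : B2 z Q Qs r R) {k : Fin 3} {a b : G} (f : Fm z (Qs k) (r k) a b) :
    Q ⊓ 𝒞[a] ≤ 𝒞(Qs k ⊓ 𝒞[a]) := by
  rintro q ⟨hq, hc⟩ α hα
  obtain ⟨u, hu, rfl⟩ := h.dec hq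
  have e1 := h.toE1
  have uk : u k ∈ Qs k ⊓ 𝒞[a] := ⟨hu k, mem_cent1.2 ((Fa.bt_zero e1 (h.le k f.aW) (h.le k (hu k))).1 (by
    rw [← Bas2.bt_dec' h hu f.aW]
    exact (Fa.bt_zero e1 (h.le k f.aW) hq).2 (mem_cent1.1 hc).symm)).symm⟩
  refine (Fa.bt_zero e1 (h.le k hα.1) hq).1 ?_
  rw [Bas2.bt_dec' h hu hα.1]
  exact (Fa.bt_zero e1 (h.le k hα.1) (h.le k (hu k))).2 (congrArg Subtype.val
    (W2.comm9 (e1.isP.to_le (inf_le_left.trans (h.le k))) (k1_card h f) ⟨α, hα⟩ ⟨_, uk⟩))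

/-- notes/TE6.md, section K1 -/
theorem k1 (h : B2 z Q Qs r R) (w : WC z Q) {g : G} (hy : g * z * g⁻¹ ∈ 𝒞[z]) (hn : g * z * g⁻¹ ∉ zpowers z)
    (t : Ba Qs (g * z * g⁻¹)) {i j : Fin 3} (n : i ≠ j) (ti : Tv z (Qs i) (g * z * g⁻¹))
    (tj : Tv z (Qs j) (g * z * g⁻¹)) : False := by
  have e1 := h.toE1
  have yQ : g * z * g⁻¹ ∉ Q := fun e => hn (w g e)
  have p1 := fun {u k} => h.p1 w hn (u := u) (k := k)
  obtain ⟨NW, Nc, W27, W243⟩ := wn h hy (h.zn w hn)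
  have y3 : (g * z * g⁻¹) ^ 3 = 1 := by rw [conj_pow, Fa.z3' e1]; simp
  generalize g * z * g⁻¹ = y at *
  obtain ⟨k, ki, kj⟩ := W2.third i j
  have tv : ∀ l, l ≠ k → Tv z (Qs l) y := fun l hl => by
    rcases W1.fin3 i j k l n.symm ki kj hl with rfl | rfl
    exacts [ti, tj]
  have nk : ¬ Tv z (Qs k) y := fun tk => yQ (h.ker hy fun l => by
    by_cases hl : l = k
    exacts [hl ▸ tk, tv l hl])
  choose a b f ha using fun l => h.fixl (g := y) (i := l) ⟨hy, t l⟩ (y3 ▸ one_mem _)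
  obtain ⟨m, hm⟩ := IsPGroup.iff_card.1 (e1.isP.to_le (inf_le_left : Q ⊓ 𝒞[y] ≤ Q))
  have cW : 243 ≤ Nat.card ↥(Q ⊓ 𝒞[y]) := T3.pow3_ge (n := 4) hm (not_le.1 fun hC =>
    IIb.two_tv h hy hC ki.symm kj.symm n (f k) (ha k) ti tj)
  obtain ⟨-, -, c1, c2⟩ := h.comm_A f hy ha
  have cA := k1_card h (f k)
  obtain ⟨k1, k2⟩ := T3.conj_count (Q := Q) (A := Qs k ⊓ 𝒞[a k]) (y := y) fun q hq =>
    ⟨k1_mem h (c1 q hq).1.1.1 fun l hl u hu => by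
      rw [show q * y * q⁻¹ * y⁻¹ = (y * q * y⁻¹ * q⁻¹)⁻¹ by group,
        Fa.bt_inv_left e1 (mul_mem (Fa.conjQ e1 hy hq) (inv_mem hq)) (h.le l hu),
        Fa.bt_dis e1 hy hq (h.le l hu) ((Fa.sc_one e1 hy (h.le l hu)).2 (tv l hl u hu)), neg_zero], by
      fin_cases k
      exacts [(c1 q hq).1.1.2, (c1 q hq).1.2, (c1 q hq).2]⟩
  rw [h.card] at k1 k2
  have k3 := k2 (by nlinarith)
  have NA : Q ⊓ cj g Q ⊓ (Qs k ⊓ 𝒞[a k]) = ⊥ := eq_bot_iff.2 fun u hu => by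
    obtain ⟨v, -, e⟩ := k3 u hu.2
    exact p1 hu.1.1 hu.1.2 (e.trans (mem_cent1.1 (NW hu.1).2))
  have WA : Q ⊓ 𝒞[y] ≤ 𝒞(Qs k ⊓ 𝒞[a k]) := fun q hq => k1_cent h (f k) ⟨hq.1, c2 q hq.1 (by
    rw [← mem_cent1.1 hq.2]; simp) k nk⟩
  have k4 := card_sup_mul_card_inf (H := Q ⊓ cj g Q) (K := Qs k ⊓ 𝒞[a k]) (.inl (norm_of_cent (NW.trans WA)))
  rw [NA, card_bot, mul_one] at k4
  have k5 := perp_card e1 (X := Q ⊓ cj g Q ⊔ Qs k ⊓ 𝒞[a k]) (Y := Q ⊓ 𝒞[y])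
    (sup_le inf_le_left (inf_le_left.trans (h.le k))) inf_le_left
    (by rw [cent_sup]; exact le_inf (cent_symm Nc) WA)
  have k6 : Nat.card ↥((Q ⊓ cj g Q ⊔ Qs k ⊓ 𝒞[a k]) ⊓ zpowers z) ≤ 3 :=
    (card_le_of_le inf_le_right).trans_eq (Bas1a.cardZ e1)
  rw [h.card, k4] at k5
  have k7 : 9 ≤ Nat.card ↥(Qs k ⊓ 𝒞[a k]) := by nlinarith
  have k8 : 9 ≤ Nat.card ↥(Q ⊓ cj g Q) := by omega
  have k9 := (Nat.mul_le_mul (Nat.mul_le_mul k8 k7) cW).trans (k5.trans (Nat.mul_le_mul_right _ k6))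
  omega

end Cfsg.Agent.TE6
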