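import Cfsg.Agent.TE6.BasA
import Cfsg.Agent.TE6.BasB
import Cfsg.Agent.TE6.Ty
import Cfsg.Agent.F3.IIb

set_option autoImplicit false

namespace Cfsg.Agent.TE6

open Subgroup H49 T3.Fr2 F3

variable {G : Type*} [Group G] [Finite G] {z : G} {Q R : Subgroup G} {Qs : Fin 3 → Subgroup G}
  {r : Fin 3 → G} {a b : Fin 3 → G} {p s x : G} {J : Subgroup G}

/-- position of the exponent of `a i` -/
def oa_ix : Fin 3 → Fin 5 := ![1, 2, 3]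

/-- unit vectors -/
def oa_eu (i : Fin 5) : V5 := fun j => if j = i then 1 else 0

/-- the action of `b i` if `x` has type `τ` at `i` -/
def oa_T (τ : ZMod 3) (i : Fin 3) (v : V5) : V5 := fun j =>
  if j = 0 then v 0 + v (oa_ix i) + τ * v 4 else if j = oa_ix i then v j - τ * v 4 else v j

/-- the action of `r i` -/
def oa_R (i : Fin 3) (v : V5) : V5 := fun j => if j = oa_ix i then -v j else v j

/-- `z, a i, x` lie in an elementary abelian group -/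
structure OaJ (J : Subgroup G) (z : G) (a : Fin 3 → G) (x : G) : Prop where
  ab : J ≤ 𝒞(J)
  ex : ∀ j ∈ J, j ^ 3 = 1
  hz : z ∈ J
  ha : ∀ i, a i ∈ J
  hx : x ∈ J

section coords

omit [Finite G]

theorem oa_add0 {A : Type*} [CommGroup A] (h : ∀ g : A, g ^ 3 = 1) (z x : A) (a : Fin 3 → A) (u v : V5) :
    ph z a x (u + v) = ph z a x u * ph z a x v := by
  have e : ∀ (g : A) (i j : ZMod 3), g ^ (i + j).val = g ^ i.val * g ^ j.val := fun g => zp_add (h g)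
  simp only [ph, Pi.add_apply, e]
  ac_rfl

theorem OaJ.add (o : OaJ J z a x) (u v : V5) : ph z a x (u + v) = ph z a x u * ph z a x v := by
  letI : CommGroup J := { (inferInstance : Group J) with mul_comm := fun a b => Subtype.ext (o.ab b.2 a a.2) }
  exact congrArg Subtype.val (oa_add0 (A := J) (fun g => Subtype.ext (o.ex g g.2)) ⟨z, o.hz⟩ ⟨x, o.hx⟩
    (fun i => ⟨a i, o.ha i⟩) u v)

theorem oa_ph_zero : ph z a x 0 = 1 := by simp [ph]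

theorem OaJ.mem (o : OaJ J z a x) (v : V5) : ph z a x v ∈ J :=
  mul_mem (mul_mem (mul_mem (mul_mem (pow_mem o.hz _) (pow_mem (o.ha 0) _)) (pow_mem (o.ha 1) _))
    (pow_mem (o.ha 2) _)) (pow_mem o.hx _)

theorem OaJ.neg (o : OaJ J z a x) (v : V5) : ph z a x (-v) = (ph z a x v)⁻¹ :=
  eq_inv_of_mul_eq_one_left (by rw [← o.add, neg_add_cancel, oa_ph_zero])

theorem OaJ.smul (o : OaJ J z a x) (c : ZMod 3) (v : V5) : ph z a x (c • v) = zp (ph z a x v) c := by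
  have e : ∀ n : ℕ, ph z a x (n • v) = ph z a x v ^ n := fun n => by
    induction n with
    | zero => rw [zero_smul, oa_ph_zero, pow_zero]
    | succ n ih => rw [succ_nsmul, o.add, ih, pow_succ]
  rw [zp, ← e, ← Nat.cast_smul_eq_nsmul (ZMod 3), ZMod.natCast_zmod_val]

theorem oa_ph_e0 : ph z a x (oa_eu 0) = z := by
  show z ^ 1 * a 0 ^ 0 * a 1 ^ 0 * a 2 ^ 0 * x ^ 0 = z
  simp

theorem oa_ph_e4 : ph z a x (oa_eu 4) = x := by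
  show z ^ 0 * a 0 ^ 0 * a 1 ^ 0 * a 2 ^ 0 * x ^ 1 = x
  simp

theorem oa_ph_ix (i : Fin 3) : ph z a x (oa_eu (oa_ix i)) = a i := by
  fin_cases i
  · show z ^ 0 * a 0 ^ 1 * a 1 ^ 0 * a 2 ^ 0 * x ^ 0 = a 0
    simp
  · show z ^ 0 * a 0 ^ 0 * a 1 ^ 1 * a 2 ^ 0 * x ^ 0 = a 1
    simp
  · show z ^ 0 * a 0 ^ 0 * a 1 ^ 0 * a 2 ^ 1 * x ^ 0 = a 2
    simp

theorem oa_ph_eq (v : V5) :
    ph z a x v = zp z (v 0) * zp (a 0) (v 1) * zp (a 1) (v 2) * zp (a 2) (v 3) * zp x (v 4) := rfl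

theorem oa_ph_lvl0 (k l m n : ZMod 3) :
    zp z k * zp (a 0) l * zp (a 1) m * zp (a 2) n = ph z a x ![k, l, m, n, 0] := by
  show _ = _ * x ^ 0
  rw [pow_zero, mul_one]
  rfl

theorem OaJ.conj (o : OaJ J z a x) {g : G} {w0 w4 : V5} {w : Fin 3 → V5} (e0 : g * z * g⁻¹ = ph z a x w0)
    (e : ∀ i, g * a i * g⁻¹ = ph z a x (w i)) (e4 : g * x * g⁻¹ = ph z a x w4) (v : V5) :
    g * ph z a x v * g⁻¹ = ph z a x (v 0 • w0 + v 1 • w 0 + v 2 • w 1 + v 3 • w 2 + v 4 • w4) := by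
  simp only [o.add, o.smul, ← e0, ← e, ← e4, zp, conj_pow]
  rw [ph]
  group

theorem OaJ.T (o : OaJ J z a x) {g : G} {i : Fin 3} {τ : ZMod 3} (gz : g * z * g⁻¹ = z)
    (gi : g * a i * g⁻¹ = a i * z) (gl : ∀ l, l ≠ i → g * a l * g⁻¹ = a l)
    (gx : g * x * g⁻¹ = x * zp (a i) (-τ) * zp z τ) (v : V5) :
    g * ph z a x v * g⁻¹ = ph z a x (oa_T τ i v) := by
  rw [o.conj (w := fun l => if l = i then oa_eu (oa_ix i) + oa_eu 0 else oa_eu (oa_ix l)) (w0 := oa_eu 0)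
    (w4 := oa_eu 4 + (-τ) • oa_eu (oa_ix i) + τ • oa_eu 0) (gz.trans oa_ph_e0.symm) (fun l => by
      split_ifs with e
      · rw [e, gi, o.add, oa_ph_ix, oa_ph_e0]
      · rw [gl l e, oa_ph_ix]) (by rw [gx, o.add, o.add, o.smul, o.smul, oa_ph_e4, oa_ph_ix, oa_ph_e0])]
  congr 1
  funext j
  fin_cases i <;> fin_cases j <;> simp [oa_T, oa_eu, oa_ix] <;> ring

theorem OaJ.Rf (o : OaJ J z a x) {g : G} {i : Fin 3} (gz : g * z * g⁻¹ = z)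
    (gi : g * a i * g⁻¹ = (a i)⁻¹) (gl : ∀ l, l ≠ i → g * a l * g⁻¹ = a l)
    (gx : g * x * g⁻¹ = x) (v : V5) : g * ph z a x v * g⁻¹ = ph z a x (oa_R i v) := by
  rw [o.conj (w := fun l => if l = i then -oa_eu (oa_ix i) else oa_eu (oa_ix l)) (w0 := oa_eu 0)
    (w4 := oa_eu 4) (gz.trans oa_ph_e0.symm) (fun l => by
      split_ifs with e
      · rw [e, gi, o.neg, oa_ph_ix]
      · rw [gl l e, oa_ph_ix]) (gx.trans oa_ph_e4.symm)]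
  congr 1
  funext j
  fin_cases i <;> fin_cases j <;> simp [oa_R, oa_eu, oa_ix]

theorem oa_three {v c : G} (h : v ^ 3 = 1) (hc : c ∈ zpowers v) (c1 : c ≠ 1) : v ∈ zpowers c := by
  obtain ⟨k, rfl⟩ := hc
  have e : v ^ (3 : ℤ) = 1 := by exact_mod_cast h
  have : ∃ m : ℤ, k = 3 * m ∨ k = 3 * m + 1 ∨ k = 3 * m - 1 := ⟨(k + 1) / 3, by omega⟩
  obtain ⟨m, rfl | rfl | rfl⟩ := this
  · exact absurd (by simp only [zpow_mul, e, one_zpow]) c1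
  · simp only [zpow_add, zpow_mul, e, one_zpow, one_mul, zpow_one, mem_zpowers]
  · simp only [zpow_sub, zpow_mul, e, one_zpow, one_mul, zpow_one, zpowers_inv, mem_zpowers]

end coords

theorem CB.oa_zJ (h : CB z Q Qs r R a b p s J) : z ∈ J :=
  h.Jdef ▸ ⟨⟨⟨self_mem_cent1 z, mem_cent1_comm.1 (h.Qc (I2a.aQ h.toB2 h.fm 0))⟩,
    mem_cent1_comm.1 (h.Qc (I2a.aQ h.toB2 h.fm 1))⟩, mem_cent1_comm.1 (h.Qc (I2a.aQ h.toB2 h.fm 2))⟩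

theorem CB.oa_aJ (h : CB z Q Qs r R a b p s J) (i : Fin 3) : a i ∈ J :=
  h.Jdef ▸ ⟨⟨⟨h.Qc (I2a.aQ h.toB2 h.fm i), mem_cent1.2 (I2a.aa h.toB2 h.fm i 0)⟩,
    mem_cent1.2 (I2a.aa h.toB2 h.fm i 1)⟩, mem_cent1.2 (I2a.aa h.toB2 h.fm i 2)⟩

theorem CB.oa_oj (h : CB z Q Qs r R a b p s J) (hx : x ∈ J) : OaJ J z a x := ⟨h.ab, h.Jexp, h.oa_zJ, h.oa_aJ, hx⟩

theorem CB.oa_St (h : CB z Q Qs r R a b p s J) {j : G} (hj : j ∈ J) (i : Fin 3) : j ∈ T3.St z (a i) :=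
  ⟨(h.Jdef ▸ hj).1.1.1, by rw [← h.ab hj _ (h.oa_aJ i)]; simp⟩

theorem CB.oa_QSt (h : CB z Q Qs r R a b p s J) {q : G} (hq : q ∈ Q) (i : Fin 3) : q ∈ T3.St z (a i) :=
  ⟨h.Qc hq, h.comm q hq _ (I2a.aQ h.toB2 h.fm i)⟩

theorem CB.oa_tyQ (h : CB z Q Qs r R a b p s J) {q : G} (hq : q ∈ Q) (i : Fin 3) : ty z b q i = 0 :=
  (ty_Q h.toB2 h.fm (h.oa_QSt hq)).2 hq i

theorem CB.oa_ty_zp (h : CB z Q Qs r R a b p s J) (hx : x ∈ J) (c : ZMod 3) (i : Fin 3) :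
    ty z b (zp x c) i = c * ty z b x i := by
  have e : ∀ n : ℕ, ty z b (x ^ n) i = n * ty z b x i := fun n => by
    induction n with
    | zero => rw [pow_zero, h.oa_tyQ (one_mem Q), Nat.cast_zero, zero_mul]
    | succ n ih =>
      rw [pow_succ, ty_mul h.toB2 h.fm (h.oa_St (pow_mem hx n) i) (h.oa_St hx i), ih]
      push_cast
      ring
  rw [zp, e, ZMod.natCast_zmod_val]

theorem CB.oa_AQ (h : CB z Q Qs r R a b p s J) (k l m n : ZMod 3) :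
    zp z k * zp (a 0) l * zp (a 1) m * zp (a 2) n ∈ Q :=
  mul_mem (mul_mem (mul_mem (zp_mem h.zQ _) (zp_mem (I2a.aQ h.toB2 h.fm 0) _))
    (zp_mem (I2a.aQ h.toB2 h.fm 1) _)) (zp_mem (I2a.aQ h.toB2 h.fm 2) _)

theorem CB.oa_ty_ph (h : CB z Q Qs r R a b p s J) (hx : x ∈ J) (v : V5) (i : Fin 3) :
    ty z b (ph z a x v) i = v 4 * ty z b x i := by
  rw [oa_ph_eq, ty_mul h.toB2 h.fm (h.oa_QSt (h.oa_AQ _ _ _ _) i) (h.oa_St (zp_mem hx _) i), h.oa_tyQ (h.oa_AQ _ _ _ _),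
    zero_add, h.oa_ty_zp hx]

theorem CB.oa_bT (h : CB z Q Qs r R a b p s J) (hx : x ∈ J) (i : Fin 3) (c : Commute x (r i)) (v : V5) :
    b i * ph z a x v * (b i)⁻¹ = ph z a x (oa_T (ty z b x i) i v) :=
  (h.oa_oj hx).T (Z_conj (h.Qc (I2a.bQ h.toB2 h.fm i)) (mem_zpowers z)) (h.fm i).ba
    (fun l hl => by rw [h.QQ l i hl (h.fm l).aW _ (h.fm i).bW, mul_inv_cancel_right])
    (bJ h.toB2 h.fm (h.Jdef ▸ hx) c) v

theorem CB.oa_rR (h : CB z Q Qs r R a b p s J) (hx : x ∈ J) (i : Fin 3) (c : Commute x (r i)) (v : V5) :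
    r i * ph z a x v * (r i)⁻¹ = ph z a x (oa_R i v) :=
  (h.oa_oj hx).Rf (Z_conj (h.toB2.rz i) (mem_zpowers z)) (h.fm i).ρa
    (fun l hl => by rw [← h.rc i l hl.symm _ (h.fm l).aW, mul_inv_cancel_right])
    (by rw [← c.eq, mul_inv_cancel_right]) v

theorem CB.oa_bt_ph (h : CB z Q Qs r R a b p s J) {v : V5} (h4 : v 4 = 0) (i : Fin 3) :
    ph z a x v ∈ Q ∧ bt z (b i) (ph z a x v) = v (oa_ix i) := by
  have e1 := h.toB2.toE1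
  have aQ := I2a.aQ h.toB2 h.fm
  have bQ := I2a.bQ h.toB2 h.fm i
  have e : ∀ l, bt z (b i) (a l) = if l = i then 1 else 0 := fun l => by
    split_ifs with e
    · rw [e, Bas2.ba h.toB2 (h.fm i)]
    · exact Bas2.orth h.toB2 (Ne.symm e) (h.fm i).bW (h.fm l).aW
  rw [oa_ph_eq, h4, zp_zero, mul_one]
  refine ⟨h.oa_AQ _ _ _ _, ?_⟩
  rw [Fa.bt_mul_right e1 bQ (mul_mem (mul_mem (zp_mem h.zQ _) (zp_mem (aQ 0) _)) (zp_mem (aQ 1) _))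
    (zp_mem (aQ 2) _), Fa.bt_mul_right e1 bQ (mul_mem (zp_mem h.zQ _) (zp_mem (aQ 0) _)) (zp_mem (aQ 1) _),
    Fa.bt_mul_right e1 bQ (zp_mem h.zQ _) (zp_mem (aQ 0) _), Fa.bt_Z_right e1 bQ (zp_mem (mem_zpowers z) _),
    Fa.bt_zp_right e1 bQ (aQ 0), Fa.bt_zp_right e1 bQ (aQ 1), Fa.bt_zp_right e1 bQ (aQ 2), e, e, e]
  fin_cases i <;> simp [oa_ix]

theorem CB.oa_memA (h : CB z Q Qs r R a b p s J) {j : G} (hj : j ∈ J) (hq : j ∈ Q) :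
    ∃ v, v 4 = 0 ∧ j = ph z a x v := by
  have hj' := h.Jdef ▸ hj
  obtain ⟨k, l, m, n, e⟩ := (h.toB2.mem_A h.fm).1 ⟨⟨⟨hq, hj'.1.1.2⟩, hj'.1.2⟩, hj'.2⟩
  refine ⟨![k, l, m, n, 0], rfl, ?_⟩
  rw [e, ← zp_natCast (h.Jexp z h.oa_zJ), ← zp_natCast (h.Jexp _ (h.oa_aJ 0)), ← zp_natCast (h.Jexp _ (h.oa_aJ 1)),
    ← zp_natCast (h.Jexp _ (h.oa_aJ 2))]
  exact oa_ph_lvl0 _ _ _ _

theorem CB.oa_conj_inv (h : CB z Q Qs r R a b p s J) {u : G} (c : IsConj z u) : IsConj z u⁻¹ := by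
  obtain ⟨g, rfl⟩ := isConj_iff.1 c
  refine isConj_iff.2 ⟨g * p * p, ?_⟩
  calc _ = g * (p * (p * z * p⁻¹) * p⁻¹) * g⁻¹ := by group
    _ = _ := by rw [h.pz, h.py]; group

theorem oa_cj {u w g : G} (c : IsConj z u) (e : g * u * g⁻¹ = w) : IsConj z w :=
  c.trans (isConj_iff.2 ⟨g, e⟩)

theorem oa_it {S : V5 → Prop} {T : V5 → V5} (h : ∀ v, S v → S (T v)) (n : ℕ) {v : V5} (hv : S v) :
    S (T^[n] v) := by
  induction n with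
  | zero => exact hv
  | succ n ih => rw [Function.iterate_succ_apply']; exact h _ ih

theorem oa_vec (v : V5) : v = ![v 0, v 1, v 2, v 3, v 4] := by
  funext j
  fin_cases j <;> rfl

theorem oa_d1 : ∀ k l m n : ZMod 3, l ≠ 0 → m ≠ 0 → n ≠ 0 → ∃ c : Fin 3, ∃ d e f : Fin 2,
    ![k, l, m, n, 0] = (oa_T 0 0)^[c] ((oa_R 0)^[d] ((oa_R 1)^[e] ((oa_R 2)^[f] ![0, 1, 1, 1, 0]))) := by
  decide +kernel

/-- notes/TE6.md, section OmA -/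
theorem CB.omA (h : CB z Q Qs r R a b p s J) {k l m n : ZMod 3} :
    IsConj z (zp z k * zp (a 0) l * zp (a 1) m * zp (a 2) n) ↔
      (k ≠ 0 ∧ l = 0 ∧ m = 0 ∧ n = 0) ∨ (l ≠ 0 ∧ m ≠ 0 ∧ n ≠ 0) := by
  have e1 := h.toB2.toE1
  have e : zp z k * zp (a 0) l * zp (a 1) m * zp (a 2) n = ph z a 1 ![k, l, m, n, 0] := oa_ph_lvl0 _ _ _ _
  have hR := fun i => h.oa_rR (one_mem J) i (Commute.one_left _)
  constructor
  · intro c
    obtain ⟨g, hg⟩ := isConj_iff.1 c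
    have hb := fun i => h.oa_bt_ph (x := 1) (v := ![k, l, m, n, 0]) rfl i
    rw [e] at hg
    by_cases hZ : g * z * g⁻¹ ∈ zpowers z
    · have h0 : ∀ i, ![k, l, m, n, 0] (oa_ix i) = 0 := fun i => by
        rw [← (hb i).2, ← hg, Fa.bt_Z_right e1 (I2a.bQ h.toB2 h.fm i) hZ]
      obtain ⟨rfl, rfl, rfl⟩ : l = 0 ∧ m = 0 ∧ n = 0 := ⟨h0 0, h0 1, h0 2⟩
      refine Or.inl ⟨?_, rfl, rfl, rfl⟩
      rintro rfl
      have h3 := h.z3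
      simp only [zp_zero, mul_one, isConj_one_left] at c
      rw [c, orderOf_one] at h3
      omega
    · have h0 : ∀ i, ![k, l, m, n, 0] (oa_ix i) ≠ 0 := fun i e0 => h.toC1.y3 (hg ▸ (hb 0).1) hZ i (by
        have := hR i ![k, l, m, n, 0]
        rw [show oa_R i ![k, l, m, n, 0] = ![k, l, m, n, 0] from funext fun j => by
          unfold oa_R
          split_ifs with ej
          · rw [ej, e0, neg_zero]
          · rfl, ← hg, mul_inv_eq_iff_eq_mul] at this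
        exact this.symm)
      exact Or.inr ⟨h0 0, h0 1, h0 2⟩
  · rintro (⟨hk, rfl, rfl, rfl⟩ | ⟨hl, hm, hn⟩)
    · simp only [zp_zero, mul_one]
      rcases (by decide : ∀ k : ZMod 3, k ≠ 0 → k = 1 ∨ k = 1 + 1) k hk with rfl | rfl
      · rw [zp_one]
      · rw [zp_add (Fa.z3' e1), zp_one, eq_inv_of_mul_eq_one_left (show z * z * z = 1 by
          rw [← Fa.z3' e1, pow_succ, pow_two])]
        exact h.oa_conj_inv (IsConj.refl z)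
    · obtain ⟨c, d, e', f, hv⟩ := oa_d1 k l m n hl hm hn
      have hT := h.oa_bT (one_mem J) 0 (Commute.one_left _)
      rw [h.oa_tyQ (one_mem Q)] at hT
      have R := fun i => oa_it (S := fun v => IsConj z (ph z a 1 v)) fun v c => oa_cj c (hR i v)
      rw [e, hv]
      refine oa_it (S := fun v => IsConj z (ph z a 1 v)) (fun v c => oa_cj c (hT v)) _
        (R 0 _ (R 1 _ (R 2 _ (isConj_iff.2 ⟨p, h.pz.trans ?_⟩))))
      show _ = z ^ 0 * a 0 ^ 1 * a 1 ^ 1 * a 2 ^ 1 * 1 ^ 0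
      simp

theorem oa_d2 : ∀ k l m n : ZMod 3, ((k ≠ 0 ∧ l = 0 ∧ m = 0 ∧ n = 0) ∨ (l ≠ 0 ∧ m ≠ 0 ∧ n ≠ 0) ↔
    ![k, l, m, n, 0] ≠ 0 ∧ F ![k, l, m, n, 0] = 0) := by decide +kernel

/-- `omA` in coordinates -/
theorem CB.oa_om0 (h : CB z Q Qs r R a b p s J) {v : V5} (h4 : v 4 = 0) :
    IsConj z (ph z a x v) ↔ v ≠ 0 ∧ F v = 0 := by
  rw [oa_ph_eq, h4, zp_zero, mul_one, h.omA, oa_d2, ← h4, ← oa_vec]

theorem oa_d3 : ∀ t0 t1 t2 : ZMod 3, t0 + t1 + t2 = 0 → t0 ≠ t1 →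
    ∃ i k : Fin 3, k ≠ i ∧ ![t0, t1, t2] i = 0 ∧ ![t0, t1, t2] k ≠ 0 := by decide +kernel

set_option synthInstance.maxSize 1024 in
theorem oa_d4 : ∀ (i k : Fin 3) (τ v0 v1 v2 v3 : ZMod 3), k ≠ i → τ ≠ 0 → ![v0, v1, v2, v3, 1] (oa_ix i) ≠ 0 →
    ∃ n : Fin 3, ((oa_T τ k)^[n] ![v0, v1, v2, v3, 1]) (oa_ix k) = 0 ∧ ∃ n' n'' : Fin 3,
      (oa_T 0 i)^[n'] ((oa_T τ k)^[n''] ![v0, v1, v2, v3, 1]) = (oa_T τ k)^[n] ![v0, v1, v2, v3, 1] + oa_eu (oa_ix k) := by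
  decide +kernel

theorem oa_d5 : ∀ (i : Fin 3) (k l m n : ZMod 3), (oa_eu 0 + ![k, l, m, n, 0] ≠ 0 ∧ F (oa_eu 0 + ![k, l, m, n, 0]) = 0) →
    ![k, l, m, n, 0] (oa_ix i) = 0 → ![k, l, m, n, 0] = k • oa_eu 0 := by decide +kernel

theorem CU.oa_end0 (h : CU z Q Qs r R a b p s J) {y : G} (hy : y ∈ J) {k : Fin 3} (c : IsConj z y)
    (c' : IsConj z (y * a k)) (cr : r k * y * (r k)⁻¹ = y) : False := by
  have h2 := h.toB2
  have e1 := h2.toE1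
  obtain ⟨g, hg⟩ := isConj_iff.1 c.symm
  obtain ⟨n, hn, e⟩ := h.fus g y hy (hg ▸ h.oa_zJ)
  rw [hg] at e
  obtain ⟨ρ, hρ⟩ : ∃ ρ, ρ = n * r k * n⁻¹ := ⟨_, rfl⟩
  obtain ⟨v, hv⟩ : ∃ v, v = n * a k * n⁻¹ := ⟨_, rfl⟩
  have ρz : ρ ∈ 𝒞[z] := mem_cent1.2 (mul_inv_eq_iff_eq_mul.1 (by
    calc _ = n * (r k * y * (r k)⁻¹) * n⁻¹ := by rw [hρ, ← e]; group
      _ = z := by rw [cr, e]))
  have vJ : v ∈ J := hv ▸ (mem_normalizer_iff.1 hn _).1 (h.oa_aJ k)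
  have ρv : ρ * v * ρ⁻¹ = v⁻¹ := by
    calc _ = n * (r k * a k * (r k)⁻¹) * n⁻¹ := by rw [hρ, hv]; group
      _ = _ := by rw [(h.fm k).ρa, hv]; group
  obtain ⟨l, hl⟩ : ∃ l, ρ * a l * ρ⁻¹ * (a l)⁻¹ ≠ 1 := by
    by_contra hh
    push Not at hh
    have m : ∀ l, ρ ∈ 𝒞[a l] := fun l => mem_cent1.2 (mul_inv_eq_iff_eq_mul.1 (mul_inv_eq_one.1 (hh l)))
    have h3 := h.Jexp ρ (h.Jdef ▸ ⟨⟨⟨ρz, m 0⟩, m 1⟩, m 2⟩)
    rw [hρ, conj_pow, pow_succ, pow_two, h.rr, one_mul, conj_eq_one_iff] at h3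
    exact h2.rQ k (h3 ▸ one_mem Q)
  have vc : v ∈ zpowers (ρ * a l * ρ⁻¹ * (a l)⁻¹) := oa_three (h.Jexp v vJ) (by
    have := Bas1a.mz (g := n) |>.2 (rJ h2 h.fm (h.Jdef ▸ (mem_normalizer_iff''.1 hn _).1 (h.oa_aJ l)) k)
    rw [← hv] at this
    convert this using 1
    rw [hρ]
    group) hl
  have aQ := I2a.aQ h2 h.fm l
  obtain ⟨w, w4, ew⟩ := h.toCB.oa_memA (x := 1) vJ
    (zpowers_le.2 (mul_mem (Fa.conjQ e1 ρz aQ) (inv_mem aQ)) vc)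
  have o := h.toCB.oa_oj (one_mem J)
  have hw := (h.toCB.oa_om0 (x := 1) (v := oa_eu 0 + w) (by rw [Pi.add_apply, w4]; rfl)).1 (by
    rw [o.add, oa_ph_e0, ← ew]
    exact oa_cj c' (g := n) (by rw [← e, hv]; group))
  obtain ⟨σ, hσ⟩ := h2.perm ρz
  obtain ⟨m, m1, m2⟩ := W2.third l (σ l)
  have vm : v ∈ 𝒞(Qs m) := zpowers_le.2 (mul_mem
    (h.QQ _ m m2.symm (hσ l ▸ conj_mem_cj.2 (h.fm l).aW)) (inv_mem (h.QQ l m m1.symm (h.fm l).aW))) vc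
  obtain ⟨vQ, hb⟩ := h.toCB.oa_bt_ph (x := 1) w4 m
  rw [← ew, (Fa.bt_zero e1 (I2a.bQ h2 h.fm m) (ew ▸ vQ)).2 (vm _ (h.fm m).bW)] at hb
  rw [oa_vec w, w4] at hw hb ew
  rw [oa_d5 m _ _ _ _ hw hb.symm, o.smul, oa_ph_e0] at ew
  have vZ : v ∈ zpowers z := ew ▸ zp_mem (mem_zpowers z) _
  rw [Z_conj ρz vZ] at ρv
  rw [Fa.Z_sq e1 vZ (mul_eq_one_iff_eq_inv.2 ρv), eq_comm, conj_eq_one_iff] at hv
  exact h2.aZ (h.fm k) (hv ▸ one_mem _)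

/-- notes/TE6.md, section OmA -/
theorem CU.omJ (h : CU z Q Qs r R a b p s J) {j : G} (hj : j ∈ J) (c : IsConj z j) :
    ty z b j 0 = ty z b j 1 := by
  by_contra hne
  have h2 := h.toB2
  have hb := h.toCB
  obtain ⟨i, k, ki, ti, tk⟩ := oa_d3 _ _ _ (h.sum j hj) hne
  rw [show ![ty z b j 0, ty z b j 1, ty z b j 2] = ty z b j from funext fun l => by fin_cases l <;> rfl] at ti tk
  obtain ⟨c0, c1, c2, hc⟩ := adjJ h2 h.fm (h.Jdef ▸ hj)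
  have aQ := I2a.aQ h2 h.fm
  have uQ : a 0 ^ c0 * a 1 ^ c1 * a 2 ^ c2 ∈ Q :=
    mul_mem (mul_mem (pow_mem (aQ 0) _) (pow_mem (aQ 1) _)) (pow_mem (aQ 2) _)
  have uJ : a 0 ^ c0 * a 1 ^ c1 * a 2 ^ c2 ∈ J :=
    mul_mem (mul_mem (pow_mem (hb.oa_aJ 0) _) (pow_mem (hb.oa_aJ 1) _)) (pow_mem (hb.oa_aJ 2) _)
  generalize a 0 ^ c0 * a 1 ^ c1 * a 2 ^ c2 = u at hc uQ uJ
  have xJ := mul_mem uJ hj
  have tx : ∀ l, ty z b (u * j) l = ty z b j l := fun l => by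
    rw [ty_mul h2 h.fm (hb.oa_St uJ l) (hb.oa_St hj l), hb.oa_tyQ uQ, zero_add]
  obtain ⟨w, w4, ew⟩ := hb.oa_memA (x := u * j) (inv_mem uJ) (inv_mem uQ)
  have o := hb.oa_oj xJ
  obtain ⟨v, v4, ev⟩ : ∃ v, v 4 = 1 ∧ j = ph z a (u * j) v :=
    ⟨w + oa_eu 4, by rw [Pi.add_apply, w4]; rfl, by rw [o.add, ← ew, oa_ph_e4, inv_mul_cancel_left]⟩
  have hT := fun l => hb.oa_bT xJ l (hc l)
  have Ti := hT i
  have Tk := hT k
  rw [tx, ti] at Ti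
  rw [tx] at Tk
  by_cases vi : v (oa_ix i) = 0
  · have := Ti v
    rw [show oa_T 0 i v = v from funext fun l => by
      unfold oa_T
      split_ifs with e e'
      · rw [vi, zero_mul, add_zero, add_zero, e]
      · rw [zero_mul, sub_zero]
      · rfl, ← ev] at this
    obtain ⟨g, rfl⟩ := isConj_iff.1 c
    have jz := (hb.oa_St hj i).1
    exact tk (hb.oa_tyQ (Fa.ZQ h2.toE1 (h.toC1.lb jz (IIb.cent_fm (h.fm i) jz
      (mem_cent1.2 (h.ab hj _ (hb.oa_aJ i)).symm) (mem_cent1.2 (mul_inv_eq_iff_eq_mul.1 this).symm)))) k)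
  · rw [oa_vec v, v4] at vi ev
    obtain ⟨n, hn, n', n'', e⟩ := oa_d4 i k _ _ _ _ _ ki tk vi
    have Si := oa_it (S := fun v => IsConj z (ph z a (u * j) v)) fun v c => oa_cj c (Ti v)
    have Sk := oa_it (S := fun v => IsConj z (ph z a (u * j) v)) fun v c => oa_cj c (Tk v)
    rw [ev] at c
    have c' := Si n' (Sk n'' c)
    rw [e, o.add, oa_ph_ix] at c'
    refine h.oa_end0 (o.mem _) (Sk n c) c' ?_
    rw [hb.oa_rR xJ k (hc k)]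
    congr 1
    funext l
    unfold oa_R
    split_ifs with el
    · rw [el, hn, neg_zero]
    · rfl

end Cfsg.Agent.TE6
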