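import Cfsg.Agent.TE6.DefsB

set_option autoImplicit false
set_option linter.unusedSectionVars false
set_option linter.unusedVariables false

namespace Cfsg.Agent.TE6

open Subgroup H49

variable {G : Type*} [Group G] [Finite G] {z w c s t : G} {Q R : Subgroup G} {Qs Rs : Fin 3 → Subgroup G}
  {r a b : Fin 3 → G}

/-- the position of `a i` -/
def ix : Fin 3 → Fin 5 := ![1, 2, 3]

/-- the action of `b i` -/
def bM (i : Fin 3) (v : V5) : V5 := fun k =>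
  if k = 0 then v 0 + v (ix i) + v 4 else if k = ix i then v k - v 4 else v k

/-- the action of `r i` -/
def rM (i : Fin 3) (v : V5) : V5 := fun k => if k = ix i then -v k else v k

/-- the action of `t` -/
def tM (v : V5) : V5 := ![v 4, v 1, v 2, v 3, v 0]

theorem HC.ph_zero (h : HC z Q Qs r R Rs a b w c s t) : ph z a w 0 = 1 := by
  simpa using h.add 0 0

theorem HC.ph_neg (h : HC z Q Qs r R Rs a b w c s t) (v : V5) : ph z a w (-v) = (ph z a w v)⁻¹ :=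
  eq_inv_of_mul_eq_one_left (by rw [← h.add, neg_add_cancel, h.ph_zero])

theorem HC.ph_z (h : HC z Q Qs r R Rs a b w c s t) : ph z a w ![1, 0, 0, 0, 0] = z := by
  simp [ph, ZMod.val_one]

theorem HC.ph_a (h : HC z Q Qs r R Rs a b w c s t) (i : Fin 3) : ph z a w (Pi.single (ix i) 1) = a i := by
  fin_cases i <;> simp [ph, ix, ZMod.val_one]

theorem HC.ph_w (h : HC z Q Qs r R Rs a b w c s t) : ph z a w ![0, 0, 0, 0, 1] = w := by
  simp [ph, ZMod.val_one]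

theorem HC.ph_x (h : HC z Q Qs r R Rs a b w c s t) : ph z a w ![0, 0, 1, 1, 0] = a 1 * a 2 := by
  simp [ph, ZMod.val_one]

namespace ActX

theorem mem_JJ {g : G} : g ∈ JJ z a ↔ g * z = z * g ∧ ∀ i, g * a i = a i * g := by
  simp only [JJ, mem_inf, mem_cent1, Fin.forall_fin_succ, IsEmpty.forall_iff, and_true, and_assoc]
  rfl

theorem az (h : HC z Q Qs r R Rs a b w c s t) (i : Fin 3) : a i ∈ 𝒞[z] := h.Qc (h.toB2.le i (h.fm i).aW)

theorem bz (h : HC z Q Qs r R Rs a b w c s t) (i : Fin 3) : b i ∈ 𝒞[z] := h.Qc (h.toB2.le i (h.fm i).bW)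

theorem aJ (h : HC z Q Qs r R Rs a b w c s t) (i : Fin 3) : a i ∈ JJ z a :=
  mem_JJ.2 ⟨mem_cent1.1 (az h i), fun j =>
    if e : i = j then e ▸ rfl else (h.QQ i j e (h.fm i).aW _ (h.fm j).aW).symm⟩

theorem ind {P : V5 → Prop} (h0 : P ![1, 0, 0, 0, 0]) (h1 : ∀ i, P (Pi.single (ix i) 1))
    (h4 : P ![0, 0, 0, 0, 1]) (ha : ∀ u v, P u → P v → P (u + v)) (v : V5) : P v := by
  have k : ∀ u, P u → ∀ n : ℕ, P ((n + 1) • u) := fun u hu n => by
    induction n with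
    | zero => rwa [zero_add, one_nsmul]
    | succ n ih => rw [succ_nsmul]; exact ha _ _ ih hu
  rw [(by decide +kernel : ∀ v : V5, v = ((v 0 - 1).val + 1) • ![1, 0, 0, 0, 0] +
    ((v 1 - 1).val + 1) • Pi.single (ix 0) 1 + ((v 2 - 1).val + 1) • Pi.single (ix 1) 1 +
    ((v 3 - 1).val + 1) • Pi.single (ix 2) 1 + ((v 4 - 1).val + 1) • ![0, 0, 0, 0, 1]) v]
  exact ha _ _ (ha _ _ (ha _ _ (ha _ _ (k _ h0 _) (k _ (h1 0) _)) (k _ (h1 1) _)) (k _ (h1 2) _)) (k _ h4 _)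

theorem act_of (h : HC z Q Qs r R Rs a b w c s t) {g : G} {M : V5 → V5} (hM : ∀ u v, M (u + v) = M u + M v)
    (h0 : g * z * g⁻¹ = ph z a w (M ![1, 0, 0, 0, 0]))
    (h1 : ∀ i, g * a i * g⁻¹ = ph z a w (M (Pi.single (ix i) 1)))
    (h4 : g * w * g⁻¹ = ph z a w (M ![0, 0, 0, 0, 1])) (v : V5) : g * ph z a w v * g⁻¹ = ph z a w (M v) :=
  ind (P := fun v => g * ph z a w v * g⁻¹ = ph z a w (M v)) (by rw [h.ph_z, h0]) (fun i => by rw [h.ph_a, h1])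
    (by rw [h.ph_w, h4]) (fun u v hu hv => by rw [hM, h.add, h.add, ← hu, ← hv, conj_mul]) v

theorem fx {g x : G} (e : g * x = x * g) : g * x * g⁻¹ = x := by rw [e, mul_inv_cancel_right]

end ActX

theorem HC.ph_mem (h : HC z Q Qs r R Rs a b w c s t) (v : V5) : ph z a w v ∈ JJ z a := by
  have hz : z ∈ JJ z a := ActX.mem_JJ.2 ⟨rfl, fun i => mem_cent1.1 (mem_cent1_comm.1 (ActX.az h i))⟩
  exact mul_mem (mul_mem (mul_mem (mul_mem (pow_mem hz _) (pow_mem (ActX.aJ h 0) _)) (pow_mem (ActX.aJ h 1) _))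
    (pow_mem (ActX.aJ h 2) _)) (pow_mem h.wJ _)

theorem HC.act_b (h : HC z Q Qs r R Rs a b w c s t) (i : Fin 3) (v : V5) :
    b i * ph z a w v * (b i)⁻¹ = ph z a w (bM i v) := by
  refine ActX.act_of h (fun u v => funext fun k => ?_) ?_ (fun j => ?_) ?_ v
  · simp only [bM, Pi.add_apply]
    split_ifs <;> ring
  · rw [(by decide +kernel : ∀ i, bM i ![1, 0, 0, 0, 0] = ![1, 0, 0, 0, 0]), h.ph_z,
      ActX.fx (mem_cent1.1 (ActX.bz h i))]
  · by_cases e : i = j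
    · subst e
      rw [(by decide +kernel : ∀ i, bM i (Pi.single (ix i) 1) = Pi.single (ix i) 1 + ![1, 0, 0, 0, 0]), h.add,
        h.ph_a, h.ph_z, (h.fm i).ba]
    · rw [(by decide +kernel : ∀ i j, i ≠ j → bM i (Pi.single (ix j) 1) = Pi.single (ix j) 1) i j e, h.ph_a,
        ActX.fx (h.QQ i j e (h.fm i).bW _ (h.fm j).aW).symm]
  · rw [(by decide +kernel : ∀ i, bM i ![0, 0, 0, 0, 1] =
      ![0, 0, 0, 0, 1] + -Pi.single (ix i) 1 + ![1, 0, 0, 0, 0]), h.add, h.add, h.ph_neg, h.ph_a, h.ph_z, h.ph_w,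
      h.bw]

theorem HC.act_r (h : HC z Q Qs r R Rs a b w c s t) (i : Fin 3) (v : V5) :
    r i * ph z a w v * (r i)⁻¹ = ph z a w (rM i v) := by
  refine ActX.act_of h (fun u v => funext fun k => ?_) ?_ (fun j => ?_) ?_ v
  · simp only [rM, Pi.add_apply]
    split_ifs <;> ring
  · rw [(by decide +kernel : ∀ i, rM i ![1, 0, 0, 0, 0] = ![1, 0, 0, 0, 0]), h.ph_z,
      ActX.fx (mem_cent1.1 (h.toB2.rz i))]
  · by_cases e : i = j
    · subst e
      rw [(by decide +kernel : ∀ i, rM i (Pi.single (ix i) 1) = -Pi.single (ix i) 1), h.ph_neg, h.ph_a,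
        (h.fm i).ρa]
    · rw [(by decide +kernel : ∀ i j, i ≠ j → rM i (Pi.single (ix j) 1) = Pi.single (ix j) 1) i j e, h.ph_a,
        ActX.fx (h.rc i j e _ (h.fm j).aW).symm]
  · rw [(by decide +kernel : ∀ i, rM i ![0, 0, 0, 0, 1] = ![0, 0, 0, 0, 1]), h.ph_w, ActX.fx (h.wr i).symm]

theorem HC.act_t (h : HC z Q Qs r R Rs a b w c s t) (v : V5) : t * ph z a w v * t⁻¹ = ph z a w (tM v) := by
  refine ActX.act_of h (fun u v => funext fun k => ?_) ?_ (fun j => ?_) ?_ v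
  · fin_cases k <;> rfl
  · exact h.tz.trans h.ph_w.symm
  · rw [(by decide +kernel : ∀ j, tM (Pi.single (ix j) 1) = Pi.single (ix j) 1), h.ph_a, ActX.fx (h.ta j)]
  · refine Eq.trans ?_ h.ph_z.symm
    rw [← h.tz, show t * (t * z * t⁻¹) * t⁻¹ = t * t * z * (t * t)⁻¹ by group, h.tt, one_mul, inv_one, mul_one]

theorem ActX.norm_of_act (h : HC z Q Qs r R Rs a b w c s t) {g : G} {M : V5 → V5}
    (e : ∀ v, g * ph z a w v * g⁻¹ = ph z a w (M v)) : g ∈ 𝒩(JJ z a) :=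
  inv_mem_iff.1 (H42.mem_normalizer_of_conj_mem fun j hj => h.cen0 _ fun v => by
    have : Commute j (g * ph z a w v * g⁻¹) := e v ▸ h.ab (h.ph_mem (M v)) j hj
    have := this.conj g⁻¹
    rwa [show g⁻¹ * (g * ph z a w v * g⁻¹) * g⁻¹⁻¹ = ph z a w v by group] at this)

theorem HC.Q_N (h : HC z Q Qs r R Rs a b w c s t) : Q ≤ 𝒩(JJ z a) := fun q hq => by
  obtain ⟨k, m, n, rfl⟩ := h.toB2.nf h.fm hq
  have h0 := h.ph_mem ![1, 0, 0, 0, 0]
  rw [h.ph_z] at h0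
  have h1 := fun i => pow_mem (le_normalizer (ActX.aJ h i)) (m i)
  have h2 := fun i => pow_mem (ActX.norm_of_act h (h.act_b i)) (n i)
  exact mul_mem (mul_mem (pow_mem (le_normalizer h0) _) (mul_mem (mul_mem (h1 0) (h1 1)) (h1 2)))
    (mul_mem (mul_mem (h2 0) (h2 1)) (h2 2))

theorem HC.r_N (h : HC z Q Qs r R Rs a b w c s t) (i : Fin 3) : r i ∈ 𝒩(JJ z a) :=
  ActX.norm_of_act h (h.act_r i)

theorem HC.t_N (h : HC z Q Qs r R Rs a b w c s t) : t ∈ 𝒩(JJ z a) :=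
  ActX.norm_of_act h h.act_t

theorem Pm.N {σ : Equiv.Perm (Fin 3)} {n : G} (h : Pm z a r w σ n) : n ∈ 𝒩(JJ z a) :=
  inv_mem_iff.1 (H42.mem_normalizer_of_conj_mem fun j hj => by
    obtain ⟨h1, h2⟩ := ActX.mem_JJ.1 hj
    have k : ∀ x y : G, n * x * n⁻¹ = y → j * y = y * j → n⁻¹ * j * n⁻¹⁻¹ * x = x * (n⁻¹ * j * n⁻¹⁻¹) :=
      fun x y e1 e2 => by
        have := (show Commute j y from e2).conj n⁻¹
        rwa [← e1, show n⁻¹ * (n * x * n⁻¹) * n⁻¹⁻¹ = x by group] at this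
    exact ActX.mem_JJ.2 ⟨k z z (ActX.fx h.z) h1, fun i => k _ _ (h.a i) (h2 _)⟩)

theorem HC.mem_E0 (h : HC z Q Qs r R Rs a b w c s t) {g : G} : g ∈ E0 z a w ↔ ∃ v : V5, v 1 = 0 ∧ g = ph z a w v := by
  refine ⟨fun hg => ?_, ?_⟩
  · induction hg using closure_induction with
    | mem x hx =>
      rcases hx with rfl | rfl | rfl | rfl
      exacts [⟨_, rfl, h.ph_z.symm⟩, ⟨_, rfl, (h.ph_a 1).symm⟩, ⟨_, rfl, (h.ph_a 2).symm⟩, ⟨_, rfl, h.ph_w.symm⟩]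
    | one => exact ⟨0, rfl, h.ph_zero.symm⟩
    | mul x y _ _ hx hy =>
      obtain ⟨u, hu, rfl⟩ := hx
      obtain ⟨v, hv, rfl⟩ := hy
      exact ⟨u + v, by rw [Pi.add_apply, hu, hv, add_zero], (h.add u v).symm⟩
    | inv x _ hx =>
      obtain ⟨u, hu, rfl⟩ := hx
      exact ⟨-u, by rw [Pi.neg_apply, hu, neg_zero], (h.ph_neg u).symm⟩
  · rintro ⟨v, hv, rfl⟩
    rw [ph, hv, ZMod.val_zero, pow_zero, mul_one]
    exact mul_mem (mul_mem (mul_mem (pow_mem (subset_closure (by simp)) _) (pow_mem (subset_closure (by simp)) _))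
      (pow_mem (subset_closure (by simp)) _)) (pow_mem (subset_closure (by simp)) _)

theorem HC.W0_le (h : HC z Q Qs r R Rs a b w c s t) : W0 b r t ≤ 𝒩(JJ z a) ⊓ KK (a 0) (r 0) := by
  have k1 : ∀ i, i ≠ 0 → b i ∈ 𝒩(JJ z a) ⊓ KK (a 0) (r 0) := fun i n => ⟨ActX.norm_of_act h (h.act_b i),
    mem_cent1.2 (h.QQ i 0 n (h.fm i).bW _ (h.fm 0).aW).symm, mem_cent1.2 (h.rc 0 i n.symm _ (h.fm i).bW)⟩
  have k2 : ∀ i, i ≠ 0 → r i ∈ 𝒩(JJ z a) ⊓ KK (a 0) (r 0) := fun i n =>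
    ⟨h.r_N i, mem_cent1.2 (h.rc i 0 n _ (h.fm 0).aW).symm, h.toB2.Rr 0 (h.rR i)⟩
  refine (closure_le _).2 ?_
  rintro _ (rfl | rfl | rfl | rfl | rfl)
  exacts [k1 1 (by decide), k1 2 (by decide), k2 1 (by decide), k2 2 (by decide),
    ⟨h.t_N, mem_cent1.2 (h.ta 0), mem_cent1.2 (h.tr 0)⟩]

theorem HC.nE0 (h : HC z Q Qs r R Rs a b w c s t) : 𝒩(JJ z a) ⊓ 𝒞[r 0] ≤ 𝒩(E0 z a w) := fun n hn => H42.mem_normalizer_of_conj_mem fun g hg => by
  obtain ⟨v, hv, rfl⟩ := h.mem_E0.1 hg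
  obtain ⟨M, -, e⟩ := h.iso n hn.1
  have k : ∀ v : V5, rM 0 v = v ↔ v 1 = 0 := by decide +kernel
  have h1 : ph z a w v ∈ 𝒞[r 0] := mem_cent1.2 (mul_inv_eq_iff_eq_mul.1 (by rw [h.act_r, (k v).2 hv])).symm
  have h2 := mem_cent1.1 (mul_mem (mul_mem (mem_inf.1 hn).2 h1) (inv_mem (mem_inf.1 hn).2))
  rw [e] at h2
  exact h.mem_E0.2 ⟨M v, (k _).1 (h.inj (by rw [← h.act_r, ActX.fx h2.symm])), e v⟩

namespace ActX

/-- the generators of `W0` -/
def gM : Fin 5 → V5 → V5 := ![bM 1, bM 2, rM 1, rM 2, tM]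

/-- representatives of the orbits -/
def st (x : ZMod 3) : V5 :=
  if x = 0 then ![1, 0, 0, 0, 0] else if x = 1 then ![0, 0, 1, 1, 0] else Pi.single (ix 2) 1

/-- the distance to the representative -/
def rk (v : V5) : ℕ :=
  (0x464553643353442532644535436554443533453343423536425461332221221221120120576667700 >>>
    (4 * ((v 0).val + 3 * (v 2).val + 9 * (v 3).val + 27 * (v 4).val))) % 16

theorem down : ∀ v : V5, v 1 = 0 → v ≠ 0 → v = st (F v) ∨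
    ∃ k, gM k v 1 = 0 ∧ gM k v ≠ 0 ∧ F (gM k v) = F v ∧ rk (gM k v) < rk v := by decide +kernel

theorem orb (h : HC z Q Qs r R Rs a b w c s t) (v : V5) (h1 : v 1 = 0) (h0 : v ≠ 0) :
    ∃ n ∈ W0 b r t, n * ph z a w (st (F v)) * n⁻¹ = ph z a w v := by
  induction hn : rk v using Nat.strong_induction_on generalizing v with
  | _ m ih =>
    rcases down v h1 h0 with e | ⟨k, k1, k2, k3, k4⟩
    · exact ⟨1, one_mem _, by rw [← e]; simp⟩
    obtain ⟨n, hn', e⟩ := ih _ (hn ▸ k4) _ k1 k2 rfl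
    obtain ⟨g, hg, e'⟩ : ∃ g ∈ W0 b r t, g * ph z a w v * g⁻¹ = ph z a w (gM k v) := by
      fin_cases k
      exacts [⟨_, subset_closure (by simp), h.act_b 1 v⟩, ⟨_, subset_closure (by simp), h.act_b 2 v⟩,
        ⟨_, subset_closure (by simp), h.act_r 1 v⟩, ⟨_, subset_closure (by simp), h.act_r 2 v⟩,
        ⟨_, subset_closure (by simp), h.act_t v⟩]
    refine ⟨g⁻¹ * n, mul_mem (inv_mem hg) hn', ?_⟩
    rw [k3, ← e'] at e
    calc _ = g⁻¹ * (n * ph z a w (st (F v)) * n⁻¹) * g := by group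
      _ = _ := by rw [e]; group

end ActX

theorem HC.orbZ (h : HC z Q Qs r R Rs a b w c s t) {v : V5} (h1 : v 1 = 0) (h0 : v ≠ 0) (hF : F v = 0) :
    ∃ n ∈ W0 b r t, n * z * n⁻¹ = ph z a w v := by
  simpa only [ActX.st, hF, if_true, h.ph_z] using ActX.orb h v h1 h0

theorem HC.orbA (h : HC z Q Qs r R Rs a b w c s t) {v : V5} (h1 : v 1 = 0) (hF : F v = -1) :
    ∃ n ∈ W0 b r t, n * a 2 * n⁻¹ = ph z a w v := by
  have := ActX.orb h v h1 (by rintro rfl; revert hF; decide)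
  rwa [hF, show ActX.st (-1) = Pi.single (ix 2) 1 by decide +kernel, h.ph_a] at this

theorem HC.orbX (h : HC z Q Qs r R Rs a b w c s t) {v : V5} (h1 : v 1 = 0) (hF : F v = 1) :
    ∃ n ∈ W0 b r t, n * (a 1 * a 2) * n⁻¹ = ph z a w v := by
  have := ActX.orb h v h1 (by rintro rfl; revert hF; decide)
  rwa [hF, show ActX.st 1 = ![0, 0, 1, 1, 0] by decide +kernel, h.ph_x] at this

end Cfsg.Agent.TE6
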