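import Cfsg.Agent.TE6.PAct
import Cfsg.Agent.TE6.Ty
import Cfsg.Agent.F42.LocR
import Cfsg.Agent.T3.YLa

/-! Tools for the centraliser of `z`: decompositions and types. -/

set_option autoImplicit false

namespace Cfsg.Agent.TE6.PB

open Subgroup H49 T3.Fr2 F3
open T3 (mem_St)

variable {G : Type*} [Group G] [Finite G] {z w c s t : G} {Q R : Subgroup G} {Qs Rs : Fin 3 → Subgroup G}
  {r a b : Fin 3 → G}

omit [Finite G] in
theorem st_of_comm {g x : G} (hz : g ∈ 𝒞[z]) (e : Commute g x) : g ∈ T3.St z x :=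
  mem_St.2 ⟨hz, by rw [e.eq]; simp⟩

omit [Finite G] in
theorem st_conj {g j x : G} (hg : g ∈ 𝒞[z]) (hj : j ∈ T3.St z x) : g * j * g⁻¹ ∈ T3.St z (g * x * g⁻¹) :=
  mem_St.2 ⟨mul_mem (mul_mem hg hj.1) (inv_mem hg), by
    have := hj.2
    rw [← Z_conj hg this] at this
    convert this using 1; group⟩

omit [Finite G] in
theorem third : ∀ i j k l : Fin 3, i ≠ j → i ≠ k → j ≠ k → l ≠ i → l = j ∨ l = k := by decide

omit [Finite G] in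
theorem Pm.mem_z {σ : Equiv.Perm (Fin 3)} {n : G} (hn : Pm z a r w σ n) : n ∈ 𝒞[z] := mem_cent1.2 hn.z

omit [Finite G] in
theorem Pm.ca {σ : Equiv.Perm (Fin 3)} {n : G} (hn : Pm z a r w σ n) {i : Fin 3} (e : σ i = i) :
    n ∈ KK (a i) (r i) :=
  ⟨mem_cent1.2 (mul_inv_eq_iff_eq_mul.1 ((hn.a i).trans (congrArg a e))),
    mem_cent1.2 (mul_inv_eq_iff_eq_mul.1 ((hn.r i).trans (congrArg r e)))⟩

omit [Finite G] in
theorem Pm.mem_J {σ : Equiv.Perm (Fin 3)} {n : G} (hn : Pm z a r w σ n) (e : ∀ i, σ i = i) : n ∈ JJ z a :=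
  Ty.memJ.2 ⟨Pm.mem_z hn, fun i => mem_cent1.1 (Pm.ca hn (e i)).1⟩

variable (h : HC z Q Qs r R Rs a b w c s t)
include h

omit [Finite G] in
theorem st_Q {q x : G} (hq : q ∈ Q) (hx : x ∈ Q) : q ∈ T3.St z x := mem_St.2 ⟨h.Qc hq, h.comm q hq x hx⟩

omit [Finite G] in
theorem Rs_le (i : Fin 3) : Rs i ≤ R := by
  rw [← h.Rsup]
  fin_cases i
  exacts [le_sup_left.trans le_sup_left, le_sup_right.trans le_sup_left, le_sup_right]

omit [Finite G] in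
theorem Rdec {u : G} (hu : u ∈ R) : ∃ us : Fin 3 → G, (∀ i, us i ∈ Rs i) ∧ u = us 0 * us 1 * us 2 := by
  rw [← h.Rsup, mem_sup_of_norm_right (norm_of_cent (sup_le (h.RR 0 2 (by decide)) (h.RR 1 2 (by decide))))] at hu
  obtain ⟨y, hy, u2, h2, rfl⟩ := hu
  obtain ⟨u0, h0, u1, h1, rfl⟩ := (mem_sup_of_norm_right (norm_of_cent (h.RR 0 1 (by decide)))).1 hy
  exact ⟨![u0, u1, u2], fun i => by fin_cases i; exacts [h0, h1, h2], rfl⟩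

theorem aQ (i : Fin 3) : a i ∈ Q := h.toB2.le i (h.fm i).aW
theorem bQ (i : Fin 3) : b i ∈ Q := h.toB2.le i (h.fm i).bW
theorem aZ (i : Fin 3) : a i ∉ zpowers z := h.toB2.aZ (h.fm i)
theorem ba (i : Fin 3) : bt z (b i) (a i) = 1 := Bas2.ba h.toB2 (h.fm i)
theorem bZ (i : Fin 3) : b i ∉ zpowers z := fun e =>
  absurd ((ba h i).symm.trans (Fa.bt_Z_left h.toE1 (aQ h i) e)) (by decide)

theorem free {i : Fin 3} {u : G} (hu : u ∈ Rs i) (e : u ∈ T3.St z (a i)) : u = 1 :=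
  (h.xq i).free h.z3 hu (h.fm i).aW (aZ h i) e.2

theorem ufix {us : Fin 3 → G} (hu : ∀ i, us i ∈ Rs i) {i : Fin 3} (e : us 0 * us 1 * us 2 ∈ T3.St z (a i)) :
    us i = 1 :=
  free h (hu i) (Bas1a.canc i e fun j n =>
    st_of_comm ((h.xq j).Rc (hu j)) (h.RQ j i n (hu j) _ (h.fm i).aW).symm)

theorem pmQ {σ : Equiv.Perm (Fin 3)} {n : G} (hn : Pm z a r w σ n) (i : Fin 3) :
    cj n (Qs i) = Qs (σ i) := by
  obtain ⟨j, e⟩ := h.perm n (Pm.mem_z hn) i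
  by_cases d : j = σ i
  · rw [e, d]
  · exact absurd (h.toB2.inter d ⟨e ▸ hn.a i ▸ conj_mem_cj.2 (h.fm i).aW, (h.fm _).aW⟩) (aZ h _)

theorem cjdec {σ : Equiv.Perm (Fin 3)} {q u n : G} (hq : q ∈ Q) (hu : u ∈ R) (hn : Pm z a r w σ n) (i : Fin 3) :
    cj (q * u * n) (Qs i) = Qs (σ i) := by
  rw [cj_mul, pmQ h hn, cj_eq_of_mem_norm (mul_mem (h.toB2.QN _ hq) (h.RN _ hu))]

theorem sig_fix {σ : Equiv.Perm (Fin 3)} {q u n : G} (hq : q ∈ Q) (hu : u ∈ R) (hn : Pm z a r w σ n)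
    {i : Fin 3} (e : q * u * n ∈ 𝒩(Qs i)) : σ i = i :=
  Bas2.Qs_inj h.toB2 ((cjdec h hq hu hn i).symm.trans (cj_eq_of_mem_norm e))

/-- an element that fixes `a i` modulo `Z` -/
theorem stdec {σ : Equiv.Perm (Fin 3)} {q u n : G} (hq : q ∈ Q) (hu : u ∈ R) (hn : Pm z a r w σ n)
    {i : Fin 3} (e : q * u * n ∈ T3.St z (a i)) : σ i = i ∧ u ∈ T3.St z (a i) := by
  have e1 := sig_fix h hq hu hn (Ty.nrm h.toB2 h.fm e).2
  exact ⟨e1, (mul_mem_cancel_left (st_Q h hq (aQ h i))).1 ((mul_mem_cancel_right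
    (st_of_comm (Pm.mem_z hn) (mem_cent1.1 (Pm.ca hn e1).1))).1 e)⟩

theorem ty_x {j x : G} {i : Fin 3} (hx : x ∈ Q) (c : Commute j x) (e : b i * j * (b i)⁻¹ = j * x) :
    ty z b j i = -bt z (b i) x := by
  have e1 : j * b i * j⁻¹ = x⁻¹ * b i := by
    calc _ = j * (b i * j * (b i)⁻¹)⁻¹ * b i := by group
      _ = _ := by rw [e, c.eq]; group
  rw [ty, e1, Fa.bt_mul_right h.toE1 (bQ h i) (inv_mem hx) (bQ h i), Fa.bt_self h.toE1 (bQ h i),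
    add_zero, Fa.bt_inv_right h.toE1 (bQ h i) hx]

theorem ty_comm {j : G} {i : Fin 3} (e : Commute j (b i)) : ty z b j i = 0 := by
  rw [ty, e.eq, mul_inv_cancel_right, Fa.bt_self h.toE1 (bQ h i)]

theorem ty_one {j : G} {i : Fin 3} (hj : j ∈ JJ z a) (e : b i * j * (b i)⁻¹ = j * (a i)⁻¹ * z) :
    ty z b j i = 1 := by
  obtain ⟨jz, ja⟩ := Ty.memJ.1 hj
  rw [ty_x h (mul_mem (inv_mem (aQ h i)) h.zQ) ((ja i).inv_right.mul_right (mem_cent1.1 jz))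
    (e.trans (mul_assoc ..)), Fa.bt_mul_right h.toE1 (bQ h i) (inv_mem (aQ h i)) h.zQ,
    Fa.bt_inv_right h.toE1 (bQ h i) (aQ h i), ba h, Fa.bt_Z_right h.toE1 (bQ h i) (mem_zpowers z)]
  decide

theorem ty_w (i : Fin 3) : ty z b w i = 1 := ty_one h h.wJ (h.bw i)

theorem ty_of_Q {q : G} (hq : q ∈ Q) (i : Fin 3) : ty z b q i = 0 :=
  (ty_Q h.toB2 h.fm fun i => st_Q h hq (aQ h i)).2 hq i

theorem ty_pow {g : G} {i : Fin 3} (hg : g ∈ T3.St z (a i)) (n : ℕ) : ty z b (g ^ n) i = n * ty z b g i := by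
  induction n with
  | zero => rw [pow_zero, ty_of_Q h (one_mem _), Nat.cast_zero, zero_mul]
  | succ n ih => rw [pow_succ, ty_mul h.toB2 h.fm (pow_mem hg n) hg, ih, Nat.cast_succ, add_mul, one_mul]

theorem ty_mulJ {j k : G} (hj : j ∈ JJ z a) (hk : k ∈ JJ z a) (i : Fin 3) :
    ty z b (j * k) i = ty z b j i + ty z b k i := ty_mul h.toB2 h.fm (Ty.J_St hj i) (Ty.J_St hk i)

theorem ty_zpw (e : ZMod 3) (i : Fin 3) : ty z b (zp w e) i = e := by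
  rw [zp, ty_pow h (Ty.J_St h.wJ i), ty_w h, mul_one, ZMod.natCast_zmod_val]

theorem ph_eq (v : V5) : ∃ q ∈ Q, ph z a w v = q * zp w (v 4) :=
  ⟨_, mul_mem (mul_mem (mul_mem (pow_mem h.zQ _) (pow_mem (aQ h 0) _)) (pow_mem (aQ h 1) _))
    (pow_mem (aQ h 2) _), rfl⟩

theorem ty_ph (v : V5) (i : Fin 3) : ty z b (ph z a w v) i = v 4 := by
  obtain ⟨q, hq, e⟩ := ph_eq h v
  rw [e, ty_mul h.toB2 h.fm (st_Q h hq (aQ h i)) (zp_mem (Ty.J_St h.wJ i) _), ty_of_Q h hq, ty_zpw h, zero_add]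

theorem ty_c : ∃ e : ZMod 3, ty z b c 0 = 0 ∧ ty z b c 1 = e ∧ ty z b c 2 = -e ∧ (e = 0 → c = 1) := by
  rcases h.cb with rfl | ⟨e0, e1, e2⟩
  · exact ⟨0, ty_of_Q h (one_mem _) _, ty_of_Q h (one_mem _) _, ty_of_Q h (one_mem _) _, fun _ => rfl⟩
  refine ⟨1, ty_comm h e0, ty_one h h.cJ e1, ?_, fun e => absurd e (by decide)⟩
  obtain ⟨jz, ja⟩ := Ty.memJ.1 h.cJ
  rw [ty_x h (mul_mem (aQ h 2) (inv_mem h.zQ)) ((ja 2).mul_right (Commute.inv_right (mem_cent1.1 jz)))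
    (e2.trans (mul_assoc ..)), Fa.bt_mul_right h.toE1 (bQ h 2) (aQ h 2) (inv_mem h.zQ), ba h,
    Fa.bt_Z_right h.toE1 (bQ h 2) (inv_mem (mem_zpowers z)), add_zero]

theorem sum0 {j : G} (hj : j ∈ JJ z a) : ty z b j 0 + ty z b j 1 + ty z b j 2 = 0 := by
  obtain ⟨v, k, rfl⟩ := h.memJ j hj
  obtain ⟨e, e0, e1, e2, -⟩ := ty_c h
  simp only [ty_mulJ h (h.ph_mem v) (pow_mem h.cJ k), ty_ph h, ty_pow h (Ty.J_St h.cJ _), e0, e1, e2]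
  exact (by decide : ∀ x y e : ZMod 3, x + y * 0 + (x + y * e) + (x + y * -e) = 0) _ _ _

theorem two0 {j : G} (hj : j ∈ JJ z a) {i k : Fin 3} (n : i ≠ k) (e1 : ty z b j i = 0) (e2 : ty z b j k = 0) :
    j ∈ Q := by
  have key : ∀ (f : Fin 3 → ZMod 3) (i k : Fin 3), i ≠ k → f 0 + f 1 + f 2 = 0 → f i = 0 → f k = 0 →
      ∀ l, f l = 0 := by decide
  exact (ty_Q h.toB2 h.fm (Ty.J_St hj)).1 (key _ i k n (sum0 h hj) e1 e2)

/-- an element that is trivial on two factors modulo `Z` -/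
theorem tv2 {i j k : Fin 3} (ij : i ≠ j) (ik : i ≠ k) (jk : j ≠ k) {g : G} (hz : g ∈ 𝒞[z])
    (h1 : Tv z (Qs j) g) (h2 : Tv z (Qs k) g) : ∃ q ∈ Q, ∃ u ∈ Rs i, g = q * u := by
  obtain ⟨q, hq, u, hu, σ, n, hn, rfl⟩ := h.dec g hz
  obtain ⟨e1, s1⟩ := stdec h hq hu hn ⟨hz, h1 _ (h.fm j).aW⟩
  obtain ⟨e2, s2⟩ := stdec h hq hu hn ⟨hz, h2 _ (h.fm k).aW⟩
  have nJ := Pm.mem_J hn (Bas2.p_two σ j k jk e1 e2)
  obtain ⟨us, hus, rfl⟩ := Rdec h hu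
  have uR : us 0 * us 1 * us 2 ∈ Rs i := Bas1a.fill i (hus i) fun l n => by
    rcases third i j k l ij ik jk n with rfl | rfl
    exacts [ufix h hus s1 ▸ one_mem _, ufix h hus s2 ▸ one_mem _]
  generalize us 0 * us 1 * us 2 = u at *
  have k : ∀ l, i ≠ l → Tv z (Qs l) (q * u * n) → ty z b n l = 0 := fun l d tv =>
    (ty_zero h.toB2 h.fm (Ty.J_St nJ l)).2 fun x hx => ((mul_mem_cancel_left (H := T3.St z x) (mul_mem
      (st_Q h hq (h.toB2.le l hx)) (st_of_comm (h.Rc hu) (h.RQ i l d uR x hx).symm))).1 ⟨hz, tv x hx⟩).2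
  exact ⟨q * (u * n * u⁻¹), mul_mem hq (Fa.conjQ h.toE1 (h.Rc hu) (two0 h nJ jk (k j ij h1) (k _ ik h2))),
    u, uR, by group⟩

theorem qr {i j k : Fin 3} (ij : i ≠ j) (ik : i ≠ k) (jk : j ≠ k) : Q ⊓ 𝒞[r i] = Qs j ⊔ Qs k := by
  refine le_antisymm (fun q hq => ?_) (sup_le
    (le_inf (h.toB2.le j) fun x hx => mem_cent1.2 (h.rc i j ij x hx))
    (le_inf (h.toB2.le k) fun x hx => mem_cent1.2 (h.rc i k ik x hx)))
  have e := (h.toB2.cent_r hq.1 i).1 (mem_cent1.1 hq.2)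
  obtain ⟨u, hu, rfl⟩ := h.toB2.dec hq.1
  refine Bas1a.fill i (mem_sup_left (Bas2.ZQs h.toB2 j ((h.xq i).cen _ (hu i) fun x hx =>
    (Bas1a.canc i e (fun l n => h.QQ l i n (hu l)) x hx).symm))) fun l n => ?_
  rcases third i j k l ij ik jk n with rfl | rfl
  exacts [mem_sup_left (hu _), mem_sup_right (hu _)]

theorem Qr_le (i : Fin 3) : Q ⊓ 𝒞[r i] ≤ 𝒞(Qs i) := fun _ hq => (h.toB2.cent_r hq.1 i).1 (mem_cent1.1 hq.2)

theorem Qr_KK (i : Fin 3) : Q ⊓ 𝒞[r i] ≤ KK (a i) (r i) := fun _ hq =>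
  ⟨cent_le_cent1 (h.fm i).aW (Qr_le h i hq), hq.2⟩

theorem Rchar {i : Fin 3} {d : G} : d ∈ Rs i ↔ d ∈ 𝒞(Q ⊓ 𝒞[r i]) ∧ d ∈ 𝒞[r i] ∧ d ^ 4 = 1 := by
  obtain ⟨j, k, ij, ik, jk⟩ : ∃ j k, i ≠ j ∧ i ≠ k ∧ j ≠ k := by revert i; decide
  rw [qr h ij ik jk, cent_sup]
  refine ⟨fun hd => ⟨⟨h.RQ i j ij hd, h.RQ i k ik hd⟩, mem_cent1.2 ((h.xq i).q8.comm_r hd),
    (h.xq i).q8.pow4 hd⟩, fun ⟨⟨h1, h2⟩, h3, h4⟩ => ?_⟩
  obtain ⟨q, hq, u, hu, rfl⟩ := tv2 h ij ik jk (cent_le_cent1 (h.zs j) h1)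
    (fun x hx => by rw [← h1 x hx]; simp) (fun x hx => by rw [← h2 x hx]; simp)
  have qZ : q ∈ zpowers z := Bas1a.cenQ h.toB2 hq fun l => by
    by_cases d : l = i
    · exact d ▸ Qr_le h i ⟨hq, (mul_mem_cancel_right (mem_cent1.2 ((h.xq i).q8.comm_r hu))).1 h3⟩
    rcases third i j k l ij ik jk d with rfl | rfl
    exacts [(mul_mem_cancel_right (h.RQ i l ij hu)).1 h1, (mul_mem_cancel_right (h.RQ i l ik hu)).1 h2]
  rw [Commute.mul_pow (Z_comm ((h.xq i).Rc hu) qZ), (h.xq i).q8.pow4 hu, mul_one, pow_succ, h.exp q hq,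
    one_mul] at h4
  rwa [h4, one_mul]

theorem cjR {g : G} (hg : g ∈ 𝒩(Q)) {i j : Fin 3} (e : g * r i * g⁻¹ = r j) : cj g (Rs i) = Rs j := by
  ext x
  rw [mem_cj, Rchar h, Rchar h, ← mem_cj, ← mem_cj, cj_centralizer, cj_inf, cj_cent1, e,
    cj_eq_of_mem_norm hg, show g⁻¹ * x * g = g⁻¹ * x * g⁻¹⁻¹ by rw [inv_inv], conj_pow, conj_eq_one_iff]

theorem nR {g : G} (hz : g ∈ 𝒞[z]) {i : Fin 3} (e : Commute g (r i)) : g ∈ 𝒩(Rs i) :=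
  mem_norm_iff_cj.2 (cjR h (Fa.cQ h.toE1 hz) (mul_inv_eq_iff_eq_mul.2 e))

/-- an element trivial on `Qᵢ/Z` that commutes with `rᵢ` centralises `Rᵢ` -/
theorem cenR {g : G} (hz : g ∈ 𝒞[z]) {i : Fin 3} (e : Commute g (r i)) (tv : Tv z (Qs i) g) :
    g ∈ 𝒞(Rs i) := fun u hu => by
  have uz := (h.xq i).Rc hu
  have k := st_conj uz (inv_mem (show g ∈ T3.St z (u⁻¹ * a i * u) from ⟨hz, tv _
    (conj_mem_of_norm' (h.xq i).Rn hu (h.fm i).aW)⟩))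
  rw [show u * (u⁻¹ * a i * u) * u⁻¹ = a i by group] at k
  have := free h (mul_mem (conj_mem_of_norm le_rfl (nR h hz e) hu) (inv_mem hu)) (by
    have := mul_mem (show g ∈ T3.St z (a i) from ⟨hz, tv _ (h.fm i).aW⟩) k
    rwa [← mul_assoc, ← mul_assoc] at this)
  rw [mul_inv_eq_one, mul_inv_eq_iff_eq_mul] at this
  exact this.symm

theorem ty_cent {j : G} (hj : j ∈ JJ z a) {i : Fin 3} (e : j ∈ 𝒞(Rs i)) : ty z b j i = 0 := by
  obtain ⟨jz, ja⟩ := Ty.memJ.1 hj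
  obtain ⟨u, hu, k⟩ := (h.xq i).tr _ (h.fm i).aW _ (h.fm i).bW (aZ h i) (bZ h i)
  have c1 : Commute j u := (e u hu).symm
  have := (show Commute j _ from (Z_comm jz k).symm).inv_right.mul_right
    ((c1.mul_right (ja i)).mul_right c1.inv_right)
  exact ty_comm h (by rwa [mul_inv_rev, inv_inv, inv_mul_cancel_right] at this)

theorem ty_conj {σ : Equiv.Perm (Fin 3)} {n j : G} (hn : Pm z a r w σ n) (hj : j ∈ JJ z a) (i : Fin 3) :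
    ty z b (n * j * n⁻¹) (σ i) = ty z b j i := by
  have wJ : zp w (-ty z b j i) ∈ JJ z a := zp_mem h.wJ _
  have k := (ty_zero h.toB2 h.fm (Ty.J_St (mul_mem hj wJ) i)).1 (by
    rw [ty_mulJ h hj wJ, ty_zpw h, add_neg_cancel])
  have nj : n * j * n⁻¹ ∈ JJ z a := conj_mem_of_norm le_rfl hn.N hj
  have k2 := (ty_zero h.toB2 h.fm (Ty.J_St (mul_mem nj wJ) (σ i))).2 fun x hx => by
    rw [← pmQ h hn] at hx
    obtain ⟨y, hy, rfl⟩ := mem_cj'.1 hx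
    have := (st_conj (Pm.mem_z hn) (show _ ∈ T3.St z y from ⟨(mul_mem hj wJ).1.1.1, k y hy⟩)).2
    rwa [← conj_mul (a := j) (b := n), Ty.zp_conj, hn.w.eq, mul_inv_cancel_right] at this
  rwa [ty_mulJ h nj wJ, ty_zpw h, add_neg_eq_zero] at k2

theorem ph_smul (m : ZMod 3) (v : V5) : ph z a w (m • v) = zp (ph z a w v) m := by
  obtain rfl | rfl | rfl : m = 0 ∨ m = 1 ∨ m = 1 + 1 := by revert m; decide
  · rw [zero_smul, h.ph_zero, zp_zero]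
  · rw [one_smul, zp_one]
  · rw [add_smul, one_smul, h.add]; exact (pow_two _).symm

theorem toA {j : Fin 3} {p : G} (hp : p ∈ Qs j) : ∃ u ∈ Rs j, ∃ e m : ZMod 3,
    u * p * u⁻¹ = zp z e * zp (a j) m ∧ (m = 0 → p ∈ zpowers z) := by
  by_cases d : p ∈ zpowers z
  · exact ⟨1, one_mem _, lg z p, 0, by simp [zp_lg h.z3 d, zp_zero], fun _ => d⟩
  obtain ⟨u, hu, e⟩ := (h.xq j).tr _ hp _ (h.fm j).aW d (aZ h j)
  exact ⟨u, hu, _, 1, by rw [zp_lg h.z3 e, zp_one, inv_mul_cancel_right], fun e => absurd e (by decide)⟩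

end Cfsg.Agent.TE6.PB
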