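import Cfsg.Agent.TE6.PAct
import Cfsg.Agent.TE6.PB0

set_option autoImplicit false

namespace Cfsg.Agent.TE6

open Subgroup H49 T3.Fr2 F3 PB

variable {G : Type*} [Group G] [Finite G] {z w c s t : G} {Q R : Subgroup G} {Qs Rs : Fin 3 → Subgroup G}
  {r a b : Fin 3 → G}

theorem HC.Qr (h : HC z Q Qs r R Rs a b w c s t) {i j k : Fin 3} (ij : i ≠ j) (ik : i ≠ k) (jk : j ≠ k) :
    Q ⊓ 𝒞[r i] = Qs j ⊔ Qs k := qr h ij ik jk

theorem HC.faithK (h : HC z Q Qs r R Rs a b w c s t) {i j k : Fin 3} (ij : i ≠ j) (ik : i ≠ k) (jk : j ≠ k)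
    {g : G} (hz : g ∈ 𝒞[z]) (hK : g ∈ KK (a i) (r i)) (tv : ∀ q ∈ Qs j ⊔ Qs k, g * q * g⁻¹ * q⁻¹ ∈ zpowers z) :
    g ∈ Qs j ⊔ Qs k := by
  obtain ⟨q, hq, u, hu, rfl⟩ := tv2 h ij ik jk hz (fun x hx => tv x (mem_sup_left hx))
    fun x hx => tv x (mem_sup_right hx)
  obtain rfl := free h hu ((mul_mem_cancel_left (st_Q h hq (aQ h i))).1 (st_of_comm hz (mem_cent1.1 hK.1)))
  exact qr h ij ik jk ▸ ⟨mul_mem hq (one_mem _), hK.2⟩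

theorem HC.nRi (h : HC z Q Qs r R Rs a b w c s t) (i : Fin 3) : 𝒩(zpowers z) ⊓ 𝒞[r i] ≤ 𝒩(Rs i) :=
  fun _ hg => mem_norm_iff_cj.2 (cjR h (h.nQ hg.1) (mul_inv_eq_iff_eq_mul.2 (mem_cent1.1 hg.2)))

theorem HC.PmQ (h : HC z Q Qs r R Rs a b w c s t) {σ : Equiv.Perm (Fin 3)} {n : G} (hn : Pm z a r w σ n) (i : Fin 3) :
    cj n (Qs i) = Qs (σ i) := pmQ h hn i

theorem HC.PmR (h : HC z Q Qs r R Rs a b w c s t) {σ : Equiv.Perm (Fin 3)} {n : G} (hn : Pm z a r w σ n) (i : Fin 3) :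
    cj n (Rs i) = Rs (σ i) := cjR h (Fa.cQ h.toE1 (Pm.mem_z hn)) (hn.r i)

theorem HC.phR (h : HC z Q Qs r R Rs a b w c s t) (i : Fin 3) {v : V5} (hv : v (ix i) = 0) :
    ph z a w v ∈ 𝒩(Rs i) ∧ (ph z a w v ∈ 𝒞(Rs i) ↔ v 4 = 0) := by
  have e : rM i v = v := funext fun k => by
    rw [rM]
    split_ifs with d
    · rw [d, hv, neg_zero]
    · rfl
  have cr : Commute (ph z a w v) (r i) := (mul_inv_eq_iff_eq_mul.1 ((h.act_r i v).trans (congrArg _ e))).symm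
  have hz := (Ty.memJ.1 (h.ph_mem v)).1
  exact ⟨nR h hz cr, fun d => (ty_ph h v i).symm.trans (ty_cent h (h.ph_mem v) d), fun d =>
    cenR h hz cr ((ty_zero h.toB2 h.fm (Ty.J_St (h.ph_mem v) i)).1 ((ty_ph h v i).trans d))⟩

theorem HC.cR0 (h : HC z Q Qs r R Rs a b w c s t) : c ∈ 𝒞(Rs 0) :=
  let ⟨_, e, _⟩ := ty_c h
  cenR h (Ty.memJ.1 h.cJ).1 (h.cr 0) ((ty_zero h.toB2 h.fm (Ty.J_St h.cJ 0)).1 e)

theorem HC.c_ph (h : HC z Q Qs r R Rs a b w c s t) {k : ℕ} {v : V5} (e : c ^ k = ph z a w v) : c ^ k = 1 := by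
  obtain ⟨x, e0, e1, -, e3⟩ := ty_c h
  have k0 := ty_ph h v 0
  have k1 := ty_ph h v 1
  rw [← e, ty_pow h (Ty.J_St h.cJ _)] at k0 k1
  rw [e0, mul_zero] at k0
  rw [e1, ← k0, mul_eq_zero] at k1
  rcases k1 with d | d
  · rw [← zp_natCast (h.Jexp c h.cJ), d, zp_zero]
  · rw [e3 d, one_pow]

theorem HC.wcQ (h : HC z Q Qs r R Rs a b w c s t) {j k : Fin 3} (jk : j ≠ k) {g : G} (hg : g * z * g⁻¹ ∈ Qs j ⊔ Qs k) :
    g * z * g⁻¹ ∈ zpowers z := by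
  obtain ⟨p, hp, q, hq, e⟩ := (mem_sup_of_norm_right (norm_of_cent (h.QQ j k jk))).1 hg
  obtain ⟨u, hu, x, m, e1, d1⟩ := toA h hp
  obtain ⟨u', hu', x', m', e2, d2⟩ := toA h hq
  have e3 : u * u' * g * z * (u * u' * g)⁻¹ = ph z a w ((x • ![1, 0, 0, 0, 0] + m • Pi.single (ix j) 1) +
      (x' • ![1, 0, 0, 0, 0] + m' • Pi.single (ix k) 1)) := by
    simp only [h.add, ph_smul h, h.ph_z, h.ph_a, ← e1, ← e2]
    have c1 := h.RQ k j jk.symm hu' p hp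
    have c2 := h.RQ j k jk hu _ (conj_mem_of_norm (h.xq k).Rn hu' hq)
    calc _ = u * (u' * (g * z * g⁻¹) * u'⁻¹) * u⁻¹ := by group
      _ = u * p * u⁻¹ * (u * (u' * q * u'⁻¹) * u⁻¹) := by rw [e, ← mul_assoc u', ← c1]; group
      _ = _ := by rw [← c2, mul_inv_cancel_right]
  obtain ⟨v, -, hF, e4⟩ := (h.om _ (h.ph_mem _)).1 (isConj_iff.2 ⟨_, e3⟩)
  rw [← h.inj e4] at hF
  have key : ∀ j k : Fin 3, j ≠ k → ∀ x m x' m' : ZMod 3, F ((x • ![1, 0, 0, 0, 0] + m • Pi.single (ix j) 1) +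
      (x' • ![1, 0, 0, 0, 0] + m' • Pi.single (ix k) 1)) = 0 → m = 0 ∧ m' = 0 := by decide +kernel
  exact e ▸ mul_mem (d1 (key j k jk _ _ _ _ hF).1) (d2 (key j k jk _ _ _ _ hF).2)

theorem HC.inv_mem (h : HC z Q Qs r R Rs a b w c s t) (i : Fin 3) {g : G} (hz : g ∈ 𝒞[z]) (g3 : g ^ 3 = 1)
    (e : r i * g * (r i)⁻¹ = g⁻¹) : g ∈ Qs i := by
  have k1 : g * g ∈ Q ⊔ R := by
    have := mul_mem (conj_mem_of_norm h.nR hz (mem_sup_right (h.rR i))) (InvMemClass.inv_mem (mem_sup_right (h.rR i)))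
    rwa [show g * r i * g⁻¹ * (r i)⁻¹ = g * (r i * g * (r i)⁻¹)⁻¹ by group, e, inv_inv] at this
  have k2 : g ∈ Q ⊔ R := by
    have := mul_mem k1 k1
    rwa [show g * g * (g * g) = g ^ 3 * g by rw [pow_three]; group, g3, one_mul] at this
  obtain ⟨q, hq, u, hu, rfl⟩ := h.toB2.mem_QR k2
  have uz := h.Rc hu
  have k3 : u ^ 3 ∈ Q ⊓ R := ⟨by
    have := InvMemClass.inv_mem (mul_mem (mul_mem hq (Fa.conjQ h.toE1 uz hq)) (Fa.conjQ h.toE1 (mul_mem uz uz) hq))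
    rwa [inv_eq_of_mul_eq_one_right (b := u ^ 3) (by rw [← g3, pow_three, pow_three]; group)] at this,
    pow_mem hu 3⟩
  have k4 := h.toB2.R4 hu
  rw [h.toB2.QR, mem_bot] at k3
  rw [pow_succ, k3, one_mul] at k4
  subst k4
  exact Bas2.mem_of_inv h.toB2 (mul_mem hq (one_mem _)) (by rw [e]; simp)

end Cfsg.Agent.TE6
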