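import Cfsg.Agent.TE6.PBas1

set_option autoImplicit false
set_option linter.unusedSectionVars false

namespace Cfsg.Agent.TE6

open Subgroup H49 T3.Fr2 F3

variable {G : Type*} [Group G] [Finite G] {z w c s t : G} {Q R : Subgroup G} {Qs Rs : Fin 3 → Subgroup G}
  {r a b : Fin 3 → G}

namespace PB

theorem nYX {x g : G} (h1 : Commute g x) (h2 : g * c * g⁻¹ ∈ closure ({x, c} : Set G)) : g ∈ YX x c := by
  refine ⟨mem_cent1.2 h1, mem_norm_of_cj_le (cj_le_iff.2 ((closure_le _).2 ?_))⟩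
  rintro _ (rfl | rfl)
  · rw [SetLike.mem_coe, mem_cj, inv_inv, h1.eq, mul_inv_cancel_right]
    exact subset_closure (Or.inl rfl)
  · rwa [SetLike.mem_coe, mem_cj, inv_inv]

theorem cYX {x g : G} (h1 : Commute g x) (h2 : Commute g c) : g ∈ YX x c :=
  nYX h1 (by rw [h2.eq, mul_inv_cancel_right]; exact subset_closure (Or.inr rfl))

variable (h : HC z Q Qs r R Rs a b w c s t)
include h

theorem Qsplit (i : Fin 3) {q : G} (hq : q ∈ Q) : ∃ p ∈ Qs i, ∃ q' ∈ Q ⊓ 𝒞[r i], q = p * q' := by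
  have k : ∀ l, Qs l ≤ Qs i ⊔ Q ⊓ 𝒞[r i] := fun l => by
    by_cases d : i = l
    · exact d ▸ le_sup_left
    · exact (le_inf (h.toB2.le l) fun x hx => mem_cent1.2 (h.rc i l d x hx)).trans le_sup_right
  exact (mem_sup_of_norm_right (norm_of_cent (cent_symm (Qr_le h i)))).1
    ((h.sup.symm.le.trans (sup_le (sup_le (k 0) (k 1)) (k 2))) hq)

theorem Rsplit (i : Fin 3) {u : G} (hu : u ∈ R) : ∃ p ∈ Rs i, ∃ u' ∈ R ⊓ 𝒞(Qs i), u = p * u' := by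
  have k : ∀ l, Rs l ≤ Rs i ⊔ R ⊓ 𝒞(Qs i) := fun l => by
    by_cases d : l = i
    · exact d ▸ le_sup_left
    · exact (le_inf (Rs_le h l) (h.RQ l i d)).trans le_sup_right
  exact (mem_sup_of_norm_right (norm_inf (norm_of_le (Rs_le h i)) (norm_cent (h.xq i).Rn))).1
    ((h.Rsup.symm.le.trans (sup_le (sup_le (k 0) (k 1)) (k 2))) hu)

theorem R_KK (i : Fin 3) : R ⊓ 𝒞(Qs i) ≤ KK (a i) (r i) := fun _ hu =>
  ⟨cent_le_cent1 (h.fm i).aW hu.2, h.toB2.Rr i hu.1⟩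

theorem R_st {i : Fin 3} {u : G} (hu : u ∈ R) (e : u ∈ T3.St z (a i)) : u ∈ KK (a i) (r i) := by
  obtain ⟨p, hp, u', hu', rfl⟩ := Rsplit h i hu
  rw [free h hp ((mul_mem_cancel_right (st_of_comm (h.Rc hu'.1) (mem_cent1.1 (R_KK h i hu').1))).1 e),
    one_mul]
  exact R_KK h i hu'

theorem bt_pow {u x : G} (hu : u ∈ Q) (hx : x ∈ Q) (n : ℕ) : bt z (u ^ n) x = n * bt z u x := by
  rw [← zp_natCast (h.exp u hu), Fa.bt_zp_left h.toE1 hu hx]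

theorem pA {i : Fin 3} {p : G} (hp : p ∈ Qs i) (e : Commute p (a i)) : ∃ x y : ℕ, p = z ^ x * a i ^ y := by
  obtain ⟨x, y, l, rfl⟩ := (h.fm i).nf p hp
  have c1 : Commute (z ^ x * a i ^ y) (a i) :=
    (Commute.pow_left (mem_cent1.1 (h.Qc (aQ h i))).symm x).mul_left ((Commute.refl _).pow_left y)
  have := (Fa.bt_zero h.toE1 (pow_mem (bQ h i) l) (aQ h i)).2 (by have := c1.inv_left.mul_left e; rwa [inv_mul_cancel_left] at this)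
  rw [bt_pow h (bQ h i) (aQ h i), ba h, mul_one] at this
  exact ⟨x, y, by rw [← zp_natCast (h.exp _ (bQ h i)) l, this, zp_zero, mul_one]⟩

theorem normJ {g y : G} (hy : y ∈ JJ z a) (e : ∀ i, ty z b y i ≠ 0) (hz : g ∈ 𝒞[z]) (hg : g ∈ 𝒞[y]) :
    g ∈ 𝒩(JJ z a) := by
  refine mem_norm_of_cj_le fun x hx => ?_
  obtain ⟨j, hj, rfl⟩ := mem_cj'.1 hx
  refine Ty.memJ.2 ⟨mul_mem (mul_mem hz hj.1.1.1) (inv_mem hz), fun i => Ty.cjc (y := g⁻¹ * a i * g⁻¹⁻¹)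
    (by group) (h.ab hj _ ?_).symm⟩
  have m := Fa.conjQ h.toE1 (inv_mem hz) (aQ h i)
  have c1 : Commute y g := (mem_cent1.1 hg).symm
  refine Ty.memJ.2 ⟨h.Qc m, fun k => mem_cent1.1 ((h.toB2.comm_A h.fm hy.1.1.1
    fun l => (Ty.J_St hy l).2).2.2.2 _ m ?_ k fun tv => e k ((ty_zero h.toB2 h.fm (Ty.J_St hy k)).2 tv))⟩
  rw [((c1.inv_right.mul_right ((Ty.memJ.1 hy).2 i)).mul_right c1.inv_right.inv_right).eq]
  simp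

theorem zJ : z ∈ JJ z a := Ty.memJ.2 ⟨self_mem_cent1 z, fun i => (mem_cent1.1 (h.Qc (aQ h i))).symm⟩

theorem xQ : a 1 * a 2 ∈ Q := mul_mem (aQ h 1) (aQ h 2)

theorem xJ : a 1 * a 2 ∈ JJ z a := h.ph_x ▸ h.ph_mem _

theorem aJ (i : Fin 3) : a i ∈ JJ z a := h.ph_a i ▸ h.ph_mem _

theorem J_YX : JJ z a ≤ YX (a 1 * a 2) c := fun _ hj => cYX (h.ab hj _ (xJ h)).symm (h.ab hj _ h.cJ).symm

theorem bt_x : bt z (b 1) (a 1 * a 2) = 1 ∧ bt z (b 2) (a 1 * a 2) = 1 := by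
  rw [Fa.bt_mul_right h.toE1 (bQ h 1) (aQ h 1) (aQ h 2), Fa.bt_mul_right h.toE1 (bQ h 2) (aQ h 1) (aQ h 2),
    ba h, ba h, I2a.bt_off h.toB2 (by decide) (h.fm 1).bW (h.fm 2).aW,
    I2a.bt_off h.toB2 (by decide) (h.fm 2).bW (h.fm 1).aW]
  exact ⟨add_zero _, zero_add _⟩

theorem b0x : Commute (b 0) (a 1 * a 2) :=
  Commute.mul_right (h.QQ 0 1 (by decide) (h.fm 0).bW _ (h.fm 1).aW).symm
    (h.QQ 0 2 (by decide) (h.fm 0).bW _ (h.fm 2).aW).symm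

theorem τx : Commute ((b 1)⁻¹ * b 2) (a 1 * a 2) :=
  (Fa.bt_zero h.toE1 (mul_mem (inv_mem (bQ h 1)) (bQ h 2)) (xQ h)).1 (by
    rw [Fa.bt_mul_left h.toE1 (inv_mem (bQ h 1)) (bQ h 2) (xQ h), Fa.bt_inv_left h.toE1 (bQ h 1) (xQ h),
      (bt_x h).1, (bt_x h).2, neg_add_cancel])

theorem τc : c = 1 ∨ (b 1)⁻¹ * b 2 * c * ((b 1)⁻¹ * b 2)⁻¹ = c * (a 1 * a 2) := by
  refine h.cb.imp_right fun ⟨_, e1, e2⟩ => ?_
  have c1 := h.QQ 1 2 (by decide) (h.fm 1).bW _ (h.fm 2).aW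
  have e3 : b 1 * (c * (a 1 * a 2)) * (b 1)⁻¹ = b 2 * c * (b 2)⁻¹ := by
    calc _ = b 1 * c * (b 1)⁻¹ * (b 1 * a 1 * (b 1)⁻¹) * (b 1 * a 2 * (b 1)⁻¹) := by group
      _ = c * ((a 1)⁻¹ * (z * a 1) * z * a 2 * z) * z⁻¹ := by
        rw [e1, (h.fm 1).ba, ← c1, mul_inv_cancel_right]; group
      _ = c * (z * z * z * a 2) * z⁻¹ := by
        rw [← mem_cent1.1 (h.Qc (aQ h 1)), mul_assoc _ (a 2), mem_cent1.1 (h.Qc (aQ h 2))]; group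
      _ = _ := by rw [e2, ← pow_three', Fa.z3' h.toE1, one_mul]
  calc _ = (b 1)⁻¹ * (b 2 * c * (b 2)⁻¹) * b 1 := by group
    _ = _ := by rw [← e3]; group

theorem R0x {u : G} (hu : u ∈ Rs 0) : Commute u (a 1 * a 2) :=
  Commute.mul_right (h.RQ 0 1 (by decide) hu _ (h.fm 1).aW).symm (h.RQ 0 2 (by decide) hu _ (h.fm 2).aW).symm

theorem pm_x {σ : Equiv.Perm (Fin 3)} {n : G} (hn : Pm z a r w σ n) (e : σ 0 = 0) :
    n ∈ YX (a 1 * a 2) c := by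
  rcases (by decide : ∀ σ : Equiv.Perm (Fin 3), σ 0 = 0 → (∀ i, σ i = i) ∨ (σ 1 = 2 ∧ σ 2 = 1)) σ e with
    d | ⟨d1, d2⟩
  · exact J_YX h (Pm.mem_J hn d)
  have nc : n * c * n⁻¹ ∈ JJ z a := conj_mem_of_norm le_rfl hn.N h.cJ
  obtain ⟨x, e0, e1, e2, -⟩ := ty_c h
  have k0 := ty_conj h hn h.cJ 0
  have k2 := ty_conj h hn h.cJ 2
  rw [e] at k0
  rw [d2] at k2
  have jZ := Ty.cen h.toB2 (two0 h (mul_mem nc h.cJ) (i := 0) (k := 1) (by decide)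
    (by rw [ty_mulJ h nc h.cJ, k0, e0, add_zero]) (by rw [ty_mulJ h nc h.cJ, k2, e1, e2, neg_add_cancel]))
    fun i => (Ty.cjc ((hn.r (σ.symm i)).trans (by rw [σ.apply_symm_apply])) (h.cr _)).mul_left (h.cr i)
  have κ : t⁻¹ * (n⁻¹ * t * n) ∈ JJ z a := by
    refine Ty.memJ.2 ⟨mem_cent1.2 (mul_inv_eq_iff_eq_mul.1 ?_), fun i => mul_inv_eq_iff_eq_mul.1 ?_⟩
    · calc _ = t⁻¹ * (n⁻¹ * (t * (n * z * n⁻¹) * t⁻¹) * n) * t := by group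
        _ = _ := by
          rw [hn.z.eq, mul_inv_cancel_right, h.tz, mul_assoc n⁻¹, ← hn.w.eq, inv_mul_cancel_left, ← h.tz]
          group
    · calc _ = t⁻¹ * (n⁻¹ * (t * (n * a i * n⁻¹) * t⁻¹) * n) * t := by group
        _ = t⁻¹ * a i * t := by rw [hn.a, (h.ta _).eq, mul_inv_cancel_right, ← hn.a]; group
        _ = _ := by rw [mul_assoc, ← (h.ta i).eq, inv_mul_cancel_left]
  have c1 : Commute (n⁻¹ * t * n) c := by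
    simpa using h.tc.mul_left (show Commute _ c from (h.ab κ _ h.cJ).symm)
  have c2 : Commute t (n * c * n⁻¹ * c) := Commute.mul_right
    (Ty.cjc (ρ := n) (by group) c1.symm).symm h.tc
  rw [← zp_lg h.z3 jZ] at c2
  have c3 := ty_zpw h (lg z (n * c * n⁻¹ * c)) 0
  rw [← h.tz, ← Ty.zp_conj, c2.eq, mul_inv_cancel_right, ty_of_Q h (zp_mem h.zQ _)] at c3
  have c4 := zp_lg h.z3 jZ
  rw [← c3, zp_zero] at c4
  refine nYX (mul_inv_eq_iff_eq_mul.1 ?_) ?_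
  · rw [← conj_mul, hn.a, hn.a, d1, d2, (I2a.aa h.toB2 h.fm 1 2).eq]
  · rw [eq_inv_of_mul_eq_one_left c4.symm]
    exact inv_mem (subset_closure (Or.inr rfl))

theorem qx : Q ⊓ 𝒞[a 1 * a 2] = closure {z, a 0, a 1, a 2, b 0, (b 1)⁻¹ * b 2} := by
  refine le_antisymm (fun q hq => ?_) ((closure_le _).2 ?_)
  · obtain ⟨k, m, n, rfl⟩ := h.toB2.nf h.fm hq.1
    have m1 : z ^ k * (a 0 ^ m 0 * a 1 ^ m 1 * a 2 ^ m 2) ∈ 𝒞[a 1 * a 2] :=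
      (J_YX h (mul_mem (pow_mem (zJ h) _) (mul_mem (mul_mem (pow_mem (aJ h 0) _)
        (pow_mem (aJ h 1) _)) (pow_mem (aJ h 2) _)))).1
    have m2 := (mul_mem_cancel_left m1).1 hq.2
    rw [mul_assoc, mul_mem_cancel_left (pow_mem (mem_cent1.2 (b0x h)) _), mem_cent1,
      ← Fa.bt_zero h.toE1 (mul_mem (pow_mem (bQ h 1) _) (pow_mem (bQ h 2) _)) (xQ h),
      Fa.bt_mul_left h.toE1 (pow_mem (bQ h 1) _) (pow_mem (bQ h 2) _) (xQ h), bt_pow h (bQ h 1) (xQ h),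
      bt_pow h (bQ h 2) (xQ h), (bt_x h).1, (bt_x h).2, mul_one, mul_one, ← Nat.cast_add] at m2
    have e : b 1 ^ n 1 * b 2 ^ n 2 = ((b 1)⁻¹ * b 2) ^ n 2 := by
      rw [(Commute.inv_left (h.QQ 1 2 (by decide) (h.fm 1).bW _ (h.fm 2).bW).symm).mul_pow, inv_pow,
        eq_inv_of_mul_eq_one_left (show b 1 ^ n 1 * b 1 ^ n 2 = 1 by
          rw [← pow_add, ← zp_natCast (h.exp _ (bQ h 1)), m2, zp_zero])]
    rw [mul_assoc (b 0 ^ n 0), e]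
    refine mul_mem (mul_mem ?_ (mul_mem (mul_mem ?_ ?_) ?_)) (mul_mem ?_ ?_) <;>
      exact pow_mem (subset_closure (by simp)) _
  · rintro _ (rfl | rfl | rfl | rfl | rfl | rfl)
    exacts [⟨h.zQ, mem_cent1_comm.1 (h.Qc (xQ h))⟩, ⟨aQ h 0, (J_YX h (aJ h 0)).1⟩,
      ⟨aQ h 1, (J_YX h (aJ h 1)).1⟩, ⟨aQ h 2, (J_YX h (aJ h 2)).1⟩, ⟨bQ h 0, mem_cent1.2 (b0x h)⟩,
      ⟨Q.mul_mem (Q.inv_mem (bQ h 1)) (bQ h 2), mem_cent1.2 (τx h)⟩]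

theorem b0_YX : b 0 ∈ YX (a 1 * a 2) c :=
  cYX (b0x h) (h.cb.elim (fun e => e ▸ Commute.one_right _) fun e => e.1.symm)

theorem τ_YX : (b 1)⁻¹ * b 2 ∈ YX (a 1 * a 2) c := (τc h).elim
  (fun e => cYX (τx h) (e ▸ Commute.one_right _)) fun e =>
    nYX (τx h) (e ▸ mul_mem (subset_closure (Or.inr rfl)) (subset_closure (Or.inl rfl)))

theorem R0_YX : Rs 0 ≤ YX (a 1 * a 2) c := fun u hu => cYX (R0x h hu) (h.cR0 u hu)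

theorem czx' {g : G} (hz : g ∈ 𝒞[z]) (hx : g ∈ 𝒞[a 1 * a 2]) :
    ∃ q ∈ Q ⊓ 𝒞[a 1 * a 2], ∃ u ∈ Rs 0, ∃ σ n, Pm z a r w σ n ∧ σ 0 = 0 ∧ g = q * u * n := by
  obtain ⟨q, hq, u, hu, σ, n, hn, e⟩ := h.dec g hz
  have k := I2a.comp h.toB2 (σ := σ) (u := fun i => g * ![1, a 1, a 2] i * g⁻¹) (v := ![1, a 1, a 2])
    (fun i => by
      rw [← cjdec h hq hu hn, ← e, conj_mem_cj]
      fin_cases i
      exacts [one_mem _, (h.fm 1).aW, (h.fm 2).aW])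
    (fun i => by fin_cases i; exacts [one_mem _, (h.fm 1).aW, (h.fm 2).aW])
    (by
      rw [conj_mul, conj_mul]
      change g * (1 * a 1 * a 2) * g⁻¹ * (1 * a 1 * a 2)⁻¹ ∈ _
      rw [one_mul, mem_cent1.1 hx]
      simp)
  have va : ∀ i : Fin 3, i ≠ 0 → ![1, a 1, a 2] i = a i := fun i d => by
    fin_cases i
    exacts [absurd rfl d, rfl, rfl]
  have k1 : ∀ i, i ≠ 0 → σ i ≠ 0 := fun i d e0 => by
    have := k i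
    rw [e0, va i d, Matrix.cons_val_zero, inv_one, mul_one] at this
    have e2 := Z_conj (inv_mem hz) this
    rw [show g⁻¹ * (g * a i * g⁻¹) * g⁻¹⁻¹ = a i by group] at e2
    exact aZ h i (e2 ▸ this)
  have s0 : σ 0 = 0 := (by decide : ∀ σ : Equiv.Perm (Fin 3), (∀ i, i ≠ 0 → σ i ≠ 0) → σ 0 = 0) σ k1
  have k2 : ∀ j, j ≠ 0 → u ∈ T3.St z (a j) := fun j d => by
    obtain ⟨i, rfl⟩ := σ.surjective j
    have d' : i ≠ 0 := fun e => d (e ▸ s0)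
    have := k i
    rw [va i d', va _ d, e] at this
    refine (mul_mem_cancel_left (st_Q h hq (aQ h _))).1 ⟨mul_mem (h.Qc hq) (h.Rc hu), ?_⟩
    rwa [show q * u * n * a i * (q * u * n)⁻¹ = q * u * (n * a i * n⁻¹) * (q * u)⁻¹ by group, hn.a] at this
  obtain ⟨us, hus, rfl⟩ := Rdec h hu
  have u0 : us 0 * us 1 * us 2 ∈ Rs 0 := Bas1a.fill 0 (hus 0) fun j d => ufix h hus (k2 j d) ▸ one_mem _
  exact ⟨q, ⟨hq, (Subgroup.mul_mem_cancel_right _ (mem_cent1.2 (R0x h u0))).1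
    ((Subgroup.mul_mem_cancel_right _ (pm_x h hn s0).1).1 (e ▸ hx))⟩, _, u0, σ, n, hn, s0, e⟩

theorem cn' {v : V5} (e : v 4 ≠ 0) {g : G} (hz : g ∈ 𝒞[z]) (hg : g ∈ 𝒞[ph z a w v]) : g ∈ 𝒩(JJ z a) :=
  normJ h (h.ph_mem v) (fun i => by rwa [ty_ph h]) hz hg

end PB

open PB

theorem HC.fusS (h : HC z Q Qs r R Rs a b w c s t) {g : G} {A : Subgroup G} (h1 : A ≤ JJ z a) (h2 : cj g A ≤ JJ z a) :
    ∃ n ∈ 𝒩(JJ z a), ∀ u ∈ A, n * u * n⁻¹ = g * u * g⁻¹ := by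
  have p3 : IsPi {3} (JJ z a) := isPi_of_isPGroup Nat.prime_three fun j =>
    ⟨1, Subtype.ext (by simpa using h.Jexp j j.2)⟩
  obtain ⟨P, hP, le⟩ := exists_sylowOf_ge p3 (h.ab.trans (cent_anti h2))
  obtain ⟨k, hk, e⟩ := sylowOf_subJ hP (X := cj g (JJ z a))
    (cj_centralizer g A ▸ cj_mono g (h.ab.trans (cent_anti h1))) (p3.cj g)
  rw [cj_cj] at e
  refine ⟨k * g, mem_norm_iff_cj.2 (h.uq P _ (hP.pi.isPGroup Nat.prime_three) le e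
    (cj_centralizer _ (JJ z a) ▸ cj_mono _ h.ab) (card_cj _ _).ge), fun u hu => ?_⟩
  rw [show k * g * u * (k * g)⁻¹ = k * (g * u * g⁻¹) * k⁻¹ by group, ← hk _ (conj_mem_cj.2 hu),
    mul_inv_cancel_right]

theorem HC.cx (h : HC z Q Qs r R Rs a b w c s t) (i : Fin 3) {g : G} (hz : g ∈ 𝒞[z]) (hg : Commute g (a i)) :
    ∃ k : ℕ, a i ^ k * g ∈ KK (a i) (r i) := by
  obtain ⟨q, hq, u, hu, σ, n, hn, rfl⟩ := h.dec g hz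
  obtain ⟨e1, e2⟩ := stdec h hq hu hn (st_of_comm hz hg)
  have m1 := R_st h hu e2
  have m2 := Pm.ca hn e1
  obtain ⟨p, hp, q', hq', rfl⟩ := Qsplit h i hq
  obtain ⟨x, y, rfl⟩ := pA h hp (mem_cent1.1 ((Subgroup.mul_mem_cancel_right _ (Qr_KK h i hq').1).1
    ((Subgroup.mul_mem_cancel_right _ m1.1).1 ((Subgroup.mul_mem_cancel_right _ m2.1).1 (mem_cent1.2 hg)))))
  refine ⟨2 * y, ?_⟩
  rw [Z_comm (h.Qc (pow_mem (aQ h i) y)) (pow_mem (mem_zpowers z) x), ← mul_assoc, ← mul_assoc, ← mul_assoc,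
    ← mul_assoc, ← pow_add, show 2 * y + y = 3 * y by ring, pow_mul, h.exp _ (aQ h i), one_pow, one_mul]
  exact mul_mem (mul_mem (mul_mem (pow_mem (Qr_KK h i ⟨h.zQ, mem_cent1_comm.1 (h.toB2.rz i)⟩) x)
    (Qr_KK h i hq')) m1) m2

theorem HC.crK (h : HC z Q Qs r R Rs a b w c s t) (i : Fin 3) {g : G} (hz : g ∈ 𝒞[z]) (hg : Commute g (r i)) :
    ∃ u ∈ Rs i, u⁻¹ * g ∈ KK (a i) (r i) := by
  have gN := h.toB2.norm_of hz (h.fm i).aW (aZ h i) (Bas2.mem_of_inv h.toB2 (i := i)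
    (Fa.conjQ h.toE1 hz (aQ h i)) (by
      rw [show r i * (g * a i * g⁻¹) * (r i)⁻¹ = r i * g * a i * (r i * g)⁻¹ by group, ← hg.eq,
        show g * r i * a i * (g * r i)⁻¹ = g * (r i * a i * (r i)⁻¹) * g⁻¹ by group, (h.fm i).ρa, conj_mul]
      simp))
  obtain ⟨q, hq, u, hu, σ, n, hn, rfl⟩ := h.dec g hz
  have m2 := Pm.ca hn (sig_fix h hq hu hn gN)
  have m3 : q ∈ Q ⊓ 𝒞[r i] := ⟨hq, (Subgroup.mul_mem_cancel_right _ (h.toB2.Rr i hu)).1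
    ((Subgroup.mul_mem_cancel_right _ m2.2).1 (mem_cent1.2 hg))⟩
  obtain ⟨p, hp, u', hu', rfl⟩ := Rsplit h i hu
  refine ⟨p, hp, ?_⟩
  rw [← mul_assoc q, ((Rchar h).1 hp).1 q m3, mul_assoc p, mul_assoc p, inv_mul_cancel_left]
  exact mul_mem (mul_mem (Qr_KK h i m3) (R_KK h i hu')) m2

theorem HC.cK (h : HC z Q Qs r R Rs a b w c s t) : 𝒞[z] ⊓ KK (a 0) (r 0) ≤ 𝒩(JJ z a) ⊓ KK (a 0) (r 0) ⊔ Rs 1 ⊔ Rs 2 := by
  intro g hg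
  obtain ⟨q, hq, u, hu, σ, n, hn, rfl⟩ := h.dec g hg.1
  obtain ⟨e1, e2⟩ := stdec h hq hu hn (st_of_comm hg.1 (mem_cent1.1 hg.2.1))
  have m2 := Pm.ca hn e1
  have m3 := (mul_mem_cancel_right (R_st h hu e2)).1 ((mul_mem_cancel_right m2).1 hg.2)
  obtain ⟨us, hus, rfl⟩ := Rdec h hu
  rw [ufix h hus e2, one_mul]
  exact mul_mem (mul_mem (mem_sup_left (mem_sup_left ⟨h.Q_N hq, m3⟩))
    (mul_mem (mem_sup_left (mem_sup_right (hus 1))) (mem_sup_right (hus 2))))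
    (mem_sup_left (mem_sup_left ⟨hn.N, m2⟩))

theorem HC.cN (h : HC z Q Qs r R Rs a b w c s t) {u v : V5} (hu : F u = 0) (u0 : u ≠ 0) (huv : B u v ≠ 0) :
    𝒞[ph z a w u] ⊓ 𝒞[ph z a w v] ≤ 𝒩(JJ z a) := by
  obtain ⟨g0, e0⟩ := isConj_iff.1 ((h.om _ (h.ph_mem u)).2 ⟨u, u0, hu, rfl⟩)
  obtain ⟨n, hn, e1⟩ := h.fus g0 z (zJ h) (e0 ▸ h.ph_mem u)
  obtain ⟨M, hM, e2⟩ := h.iso n hn
  obtain ⟨v, rfl⟩ := M.surjective v
  obtain rfl : M ![1, 0, 0, 0, 0] = u := h.inj (by rw [← e2, h.ph_z, e1, e0])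
  rw [B, ← map_add, hM, hM, hM] at huv
  intro g hg
  rw [← e2, ← e2, h.ph_z, ← cj_cent1, ← cj_cent1, ← cj_inf, mem_cj] at hg
  have := cn' h ((by decide +kernel : ∀ v : V5, F (![1, 0, 0, 0, 0] + v) - F ![1, 0, 0, 0, 0] - F v ≠ 0 →
    v 4 ≠ 0) v huv) hg.1 hg.2
  rwa [mul_mem_cancel_right hn, mul_mem_cancel_left (InvMemClass.inv_mem hn)] at this

theorem HC.czx (h : HC z Q Qs r R Rs a b w c s t) {g : G} (hz : g ∈ 𝒞[z]) (hx : g ∈ 𝒞[a 1 * a 2]) :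
    g ∈ YX (a 1 * a 2) c ∧ ∃ q ∈ Q ⊓ 𝒞[a 1 * a 2], ∃ u ∈ Rs 0, ∃ σ n, Pm z a r w σ n ∧ σ 0 = 0 ∧ g = q * u * n := by
  obtain ⟨q, hq, u, hu, σ, n, hn, s0, e⟩ := czx' h hz hx
  refine ⟨e ▸ mul_mem (mul_mem ((closure_le _).2 ?_ (qx h ▸ hq)) (R0_YX h hu)) (pm_x h hn s0),
    q, hq, u, hu, σ, n, hn, s0, e⟩
  rintro _ (rfl | rfl | rfl | rfl | rfl | rfl)
  exacts [J_YX h (zJ h), J_YX h (aJ h 0), J_YX h (aJ h 1), J_YX h (aJ h 2), b0_YX h, τ_YX h]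

theorem HC.Qx (h : HC z Q Qs r R Rs a b w c s t) : Q ⊓ 𝒞[a 1 * a 2] = closure {z, a 0, a 1, a 2, b 0, (b 1)⁻¹ * b 2} :=
  qx h

theorem HC.mem_YX (h : HC z Q Qs r R Rs a b w c s t) : JJ z a ≤ YX (a 1 * a 2) c ∧ r 0 ∈ YX (a 1 * a 2) c ∧ t ∈ YX (a 1 * a 2) c ∧
    b 0 ∈ YX (a 1 * a 2) c ∧ (b 1)⁻¹ * b 2 ∈ YX (a 1 * a 2) c ∧ Rs 0 ≤ YX (a 1 * a 2) c ∧
    (c = 1 ∨ (b 1)⁻¹ * b 2 * c * ((b 1)⁻¹ * b 2)⁻¹ = c * (a 1 * a 2)) :=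
  ⟨J_YX h, R0_YX h (h.xq 0).q8.mem, cYX ((h.ta 1).mul_right (h.ta 2)) h.tc, b0_YX h, τ_YX h, R0_YX h, τc h⟩

end Cfsg.Agent.TE6
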