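import Cfsg.Agent.TE6.PBas1
import Cfsg.Agent.U6.Defs
import Cfsg.Agent.T3.Fr0

/-! The configuration `U6.UA` inside `C(aᵢ, rᵢ)`. -/

set_option autoImplicit false

namespace Cfsg.Agent.TE6

open Subgroup H49

variable {G : Type*} [Group G] [Finite G] {z w c s t : G} {Q R : Subgroup G} {Qs Rs : Fin 3 → Subgroup G}
  {r a b : Fin 3 → G}

section
variable {L : Type*} [Group L] {K S T : Subgroup L}

theorem pua_Z {u v : K} : u ∈ zpowers v ↔ (u : L) ∈ zpowers (v : L) :=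
  ⟨fun ⟨k, e⟩ => ⟨k, congrArg Subtype.val e⟩, fun ⟨k, e⟩ => ⟨k, Subtype.ext e⟩⟩

theorem pua_c {u v : K} : u ∈ 𝒞[v] ↔ (u : L) ∈ 𝒞[(v : L)] := by
  rw [mem_cent1, mem_cent1, Subtype.ext_iff]; rfl

theorem pua_cent (h : S ≤ 𝒞(T)) : S.subgroupOf K ≤ 𝒞(T.subgroupOf K) :=
  le_cent_iff.2 fun _ hu _ hv => Subtype.ext (le_cent_iff.1 h _ hu _ hv)

theorem pua_cj (u : K) : cj u (S.subgroupOf K) = (cj (u : L) S).subgroupOf K := by
  ext v; simp [mem_subgroupOf]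

theorem pua_norm {u : K} (hu : (u : L) ∈ 𝒩(S)) : u ∈ 𝒩(S.subgroupOf K) := by
  rw [mem_norm_iff_cj, pua_cj, mem_norm_iff_cj.1 hu]

theorem pua_q8 {ρ : K} (h : T3.Q8 S (ρ : L)) (hS : S ≤ K) : T3.Q8 (S.subgroupOf K) ρ :=
  ⟨(card_subgroupOf_of_le hS).trans h.card, h.mem, fun e => h.ne (congrArg Subtype.val e), Subtype.ext h.sq,
    fun x hx => (h.el x hx).imp Subtype.ext (Or.imp Subtype.ext Subtype.ext)⟩

end

theorem pua_third : ∀ i j k l : Fin 3, i ≠ j → i ≠ k → j ≠ k → l = i ∨ l = j ∨ l = k := by decide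

theorem pua_p : ∀ (p : Equiv.Perm (Fin 3)) (i j k : Fin 3), i ≠ j → i ≠ k → j ≠ k → p i = i →
    (p j = j ∧ p k = k) ∨ (p j = k ∧ p k = j) := by decide

theorem HC.ua (h : HC z Q Qs r R Rs a b w c s t) {i j k : Fin 3} (ij : i ≠ j) (ik : i ≠ k) (jk : j ≠ k) :
    ∃ z' r1 r2 : KK (a i) (r i), z'.1 = z ∧ r1.1 = r j ∧ r2.1 = r k ∧
      U6.UA z' r1 r2 ((Qs j ⊔ Qs k).subgroupOf _) ((Qs j).subgroupOf _) ((Qs k).subgroupOf _)
        ((Rs j).subgroupOf _) ((Rs k).subgroupOf _) ∧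
      Qs j ⊔ Qs k ≤ KK (a i) (r i) ∧ Rs j ⊔ Rs k ≤ KK (a i) (r i) ∧ w ∈ KK (a i) (r i) ∧ t ∈ KK (a i) (r i) := by
  have aQ := (h.fm i).aW
  have QK : ∀ l, i ≠ l → Qs l ≤ KK (a i) (r i) := fun l n =>
    le_inf ((h.QQ l i n.symm).trans (cent_le_cent1 aQ)) (le_cent1_iff.2 (h.rc i l n))
  have RK : ∀ l, i ≠ l → Rs l ≤ KK (a i) (r i) := fun l n =>
    le_inf ((h.RQ l i n.symm).trans (cent_le_cent1 aQ)) ((h.RR l i n.symm).trans (cent_le_cent1 (h.xq i).q8.mem))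
  have QK' := sup_le (QK j ij) (QK k ik)
  have QQ := sup_le (h.le j) (h.le k)
  have wK : w ∈ KK (a i) (r i) := ⟨by
    rcases pua_third 0 1 2 i (by decide) (by decide) (by decide) with rfl | rfl | rfl
    exacts [h.wJ.1.1.2, h.wJ.1.2, h.wJ.2], mem_cent1.2 (h.wr i)⟩
  have tK : t ∈ KK (a i) (r i) := ⟨mem_cent1.2 (h.ta i), mem_cent1.2 (h.tr i)⟩
  refine ⟨⟨z, QK j ij (h.zs j)⟩, ⟨r j, RK j ij (h.xq j).q8.mem⟩, ⟨r k, RK k ik (h.xq k).q8.mem⟩, rfl, rfl, rfl,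
    ⟨⟨?_, mem_sup_left (h.zs j), fun u hu => pua_c.2 (h.Qc (QQ hu)),
      fun u hu v hv => pua_Z.2 (h.comm _ (QQ hu) _ (QQ hv)), fun u hu e => pua_Z.2 ?_,
      fun u hu => Subtype.ext (h.exp _ (QQ hu)), ?_, fun g hg => pua_norm ?_, fun g hg e => ?_,
      fun g hg => pua_Z.2 (h.wcQ jk hg)⟩, h.zs j, h.zs k, (card_subgroupOf_of_le (QK j ij)).trans (h.cards j),
      (card_subgroupOf_of_le (QK k ik)).trans (h.cards k), (subgroupOf_sup (QK j ij) (QK k ik)).symm,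
      pua_q8 (h.xq j).q8 (RK j ij), pua_q8 (h.xq k).q8 (RK k ik), pua_cent (h.QQ j k jk), pua_cent (h.RQ j k jk),
      pua_cent (h.RQ k j jk.symm), pua_cent (h.RR j k jk), fun u hu => pua_Z.2 (h.inv j _ hu),
      fun u hu => pua_Z.2 (h.inv k _ hu), fun g hg => ?_, ⟨t, tK⟩, pua_c.2 ?_, fun e => ?_⟩,
    QK', sup_le (RK j ij) (RK k ik), wK, tK⟩
  · exact (orderOf_mk ..).trans h.z3
  · refine F3.Bas1a.cenQ h.toB2 (QQ hu) fun l => ?_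
    have k1 : ∀ l, Qs l ≤ Qs j ⊔ Qs k → (u : G) ∈ 𝒞(Qs l) := fun l hl v hv =>
      congrArg Subtype.val (e ⟨v, QK' (hl hv)⟩ (hl hv)).symm
    rcases pua_third i j k l ij ik jk with rfl | rfl | rfl
    exacts [sup_le (h.QQ j l ij.symm) (h.QQ k l ik.symm) hu, k1 _ le_sup_left, k1 _ le_sup_right]
  · have c := card_sup_mul_card_inf (.inl ((h.le j).trans (h.QN k)))
    rw [le_antisymm (h.inter jk) (zpowers_le.2 ⟨h.zs j, h.zs k⟩), Nat.card_zpowers, h.z3, h.cards, h.cards] at c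
    rw [card_subgroupOf_of_le QK']
    omega
  · rw [← h.Qr ij ik jk]
    refine norm_inf (zpowers_le.2 (h.nQ (mem_norm_of_cj_le ?_))) (zpowers_le.2 ?_) (mem_zpowers (g : G))
    · rw [cj_zpowers, zpowers_le]
      exact pua_Z.1 (conj_mem_of_norm le_rfl hg (mem_zpowers _))
    · exact le_normalizer g.2.2
  · exact h.faithK ij ik jk (pua_c.1 hg) g.2 fun q hq => pua_Z.1 (e ⟨q, QK' hq⟩ hq)
  · have gz := pua_c.1 hg
    obtain ⟨σ, s1, s2⟩ := h.permHom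
    rcases pua_p _ i j k ij ik jk ((s2 ⟨_, gz⟩ i).1 (h.norm_of gz aQ (h.aZ (h.fm i)) (by
      rw [mem_cent1.1 g.2.1, mul_inv_cancel_right]; exact aQ))) with e | e
    · exact .inl ⟨pua_norm ((s2 ⟨_, gz⟩ j).2 e.1), pua_norm ((s2 ⟨_, gz⟩ k).2 e.2)⟩
    · exact .inr ⟨by rw [pua_cj, s1 ⟨_, gz⟩, e.1], by rw [pua_cj, s1 ⟨_, gz⟩, e.2]⟩
  · exact (show t * z * t⁻¹ ∈ _ from h.tz ▸ h.wJ.1.1.1)
  · have e' : t * z * t⁻¹ ∈ zpowers z := pua_Z.1 e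
    rw [h.tz] at e'
    have := h.bw i
    rw [T3.conj_Z e' (h.Qc (h.le i (h.fm i).bW)), mul_assoc, left_eq_mul, inv_mul_eq_one] at this
    exact h.aZ (h.fm i) (this ▸ mem_zpowers z)

end Cfsg.Agent.TE6
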