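/-
Project TE6: fusion in a group in which the normaliser of an elementary abelian `2`-subgroup controls the elements
of order three of a subgroup.
-/
import Cfsg.Agent.U6S.Fus

set_option autoImplicit false

namespace Cfsg.Agent.TE6.SE6

open Subgroup
open U6S (Gd le_of_norm exists_conj)

variable {X : Type*} [Group X] [Finite X]

/-- the abstract situation -/
structure Sit (A L H : Subgroup X) (t0 u1 u2 : X) : Prop where
  nm : H = normalizer (A : Set X)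
  sq : ∀ a ∈ A, a * a = 1
  le : L ≤ H
  se : ∀ y ∈ L, y ≠ 1 → y ^ 3 = 1 → ∀ g, g * y * g⁻¹ ∈ H → g ∈ H
  gA : ∀ a ∈ A, Gd L a
  cl : ∀ t ∈ H, t * t = 1 → Gd L t ∨ ∃ h, h * t * h⁻¹ = t0
  m1 : u1 ∈ A
  m2 : u2 ∈ A
  c1 : t0 * u1 = u1 * t0
  c2 : t0 * u2 = u2 * t0
  n0 : t0 ∉ A
  g1 : Gd L (t0 * u1)
  g2 : Gd L (t0 * u2)
  nc : ∀ h ∈ H, h * u1 * h⁻¹ ≠ u2
  sp : ∀ N < A, (∃ h ∈ H, h * u1 * h⁻¹ ∉ N) ∧ ∃ h ∈ H, h * u2 * h⁻¹ ∉ N
  nn : ∀ N, A ≤ N → N ≤ H → (∀ h ∈ H, ∀ x ∈ N, h * x * h⁻¹ ∈ N) → N ≤ A ∨ ∃ t ∈ N, t * t = 1 ∧ t ∉ A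

namespace Sit

variable {A L H : Subgroup X} {t0 u1 u2 : X} (s : Sit A L H t0 u1 u2)
include s

omit [Finite X] in
theorem cj {h a : X} (hh : h ∈ H) : a ∈ A ↔ h * a * h⁻¹ ∈ A := mem_normalizer_iff.1 (s.nm ▸ hh) a

omit [Finite X] in
theorem comm {a b : X} (ha : a ∈ A) (hb : b ∈ A) : a * b = b * a := by
  rw [← inv_eq_of_mul_eq_one_right (s.sq _ (A.mul_mem ha hb)), _root_.mul_inv_rev,
    inv_eq_of_mul_eq_one_right (s.sq _ ha), inv_eq_of_mul_eq_one_right (s.sq _ hb)]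

omit [Finite X] in
theorem two : IsPGroup 2 A := fun a => ⟨1, Subtype.ext (by rw [pow_one, pow_two]; exact s.sq a a.2)⟩

theorem fus {t g : X} (h : Gd L t) (h' : Gd L (g * t * g⁻¹)) : ∃ h ∈ H, h * t * h⁻¹ = g * t * g⁻¹ := by
  haveI : Fact (Nat.Prime 3) := ⟨Nat.prime_three⟩
  obtain ⟨y, a1, a2, a3, a4⟩ := h
  obtain ⟨z, b1, b2, b3, b4⟩ := h'
  have k : ∀ {y : X}, y ^ 3 = 1 → IsPGroup 3 (zpowers y) := fun e => IsPGroup.of_card_dvd_pow (n := 1) (by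
    rw [Nat.card_zpowers, pow_one]; exact orderOf_dvd_of_pow_eq_one e)
  obtain ⟨T, h1, h2, c, h3, h4⟩ := exists_conj (C := centralizer {g * t * g⁻¹}) (k b3)
    (k (y := g * y * g⁻¹) (by rw [conj_pow, a3, mul_one, mul_inv_cancel]))
    (zpowers_le.2 (mem_centralizer_singleton_iff.2 b4)) (zpowers_le.2 (mem_centralizer_singleton_iff.2 (by
      calc _ = g * (y * t) * g⁻¹ := by group
        _ = _ := by rw [a4]; group)))
  have h5 : T ≤ H := le_of_norm h1 fun r hr => s.se z b1 b2 b3 r (hr z ⟨h2 (mem_zpowers z), s.le b1⟩)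
  refine ⟨c * g, s.se y a1 a2 a3 _ (by simpa [mul_assoc] using h5 (h4 _ (mem_zpowers _))), ?_⟩
  calc _ = c * (g * t * g⁻¹) * c⁻¹ := by group
    _ = _ := by rw [mem_centralizer_singleton_iff.1 h3, mul_inv_cancel_right]

theorem inA {a g : X} (ha : a ∈ A) (h : Gd L (g * a * g⁻¹)) : g * a * g⁻¹ ∈ A := by
  obtain ⟨h, h1, h2⟩ := s.fus (s.gA a ha) h
  exact h2 ▸ (s.cj h1).1 ha

theorem not_both {f g : X} (h1 : f * u1 * f⁻¹ ∈ H) (h2 : g * u2 * g⁻¹ ∈ H) : f * u1 * f⁻¹ ∈ A ∨ g * u2 * g⁻¹ ∈ A := by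
  by_contra! c
  have k : ∀ {a g : X}, a ∈ A → g * a * g⁻¹ ∈ H → g * a * g⁻¹ ∉ A → ∃ h, h * (g * a * g⁻¹) * h⁻¹ = t0 :=
    fun {a g} ha h h' => (s.cl _ h (by rw [conj_mul, s.sq a ha, mul_one, mul_inv_cancel])).resolve_left
      fun e => h' (s.inA ha e)
  obtain ⟨a, ha⟩ := k s.m1 h1 c.1
  obtain ⟨b, hb⟩ := k s.m2 h2 c.2
  have e : ((b * g)⁻¹ * (a * f)) * u1 * ((b * g)⁻¹ * (a * f))⁻¹ = u2 :=
    calc _ = (b * g)⁻¹ * (a * (f * u1 * f⁻¹) * a⁻¹) * (b * g) := by group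
      _ = _ := by rw [ha, ← hb]; group
  obtain ⟨h, h3, h4⟩ := s.fus (g := (b * g)⁻¹ * (a * f)) (s.gA _ s.m1) (e ▸ s.gA _ s.m2)
  exact s.nc h h3 (h4.trans e)

theorem weak {r : X} (h : ∀ a ∈ A, r * a * r⁻¹ ∈ H) : r ∈ H := by
  by_cases c : A ≤ A.comap (MulAut.conj r).toMonoidHom
  · rw [s.nm]
    exact mem_normalizer_fintype c
  obtain ⟨⟨a, a1, a2⟩, b, b1, b2⟩ := s.sp (A ⊓ A.comap (MulAut.conj r).toMonoidHom)
    (lt_of_le_of_ne inf_le_left fun e => c (e.ge.trans inf_le_right))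
  have a3 := (s.cj a1).1 s.m1
  have b3 := (s.cj b1).1 s.m2
  rcases s.not_both (f := r * a) (g := r * b) (by simpa [mul_assoc] using h _ a3) (by simpa [mul_assoc] using h _ b3)
    with e | e
  · exact absurd ⟨a3, by simpa [mul_assoc] using e⟩ a2
  · exact absurd ⟨b3, by simpa [mul_assoc] using e⟩ b2

theorem le_H {T : Subgroup X} (h : IsPGroup 2 T) (h' : A ≤ T) : T ≤ H :=
  le_of_norm h fun _ hr => s.weak fun a ha => hr a ⟨h' ha, s.nm ▸ le_normalizer ha⟩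

theorem strong {a g : X} (ha : a ∈ A) (h : g * a * g⁻¹ ∈ H) : g * a * g⁻¹ ∈ A := by
  refine (s.cl _ h (by rw [conj_mul, s.sq a ha, mul_one, mul_inv_cancel])).elim (s.inA ha) fun ⟨b, hb⟩ => ?_
  exfalso
  have e : (b * g)⁻¹ * t0 * (b * g) = a := by rw [← hb]; group
  generalize (b * g) = f at e
  obtain ⟨T, h1, h2, c, h3, h4⟩ := exists_conj (C := centralizer {a}) s.two
    (Q := (A ⊓ centralizer {t0}).map (MulAut.conj f⁻¹).toMonoidHom) ((s.two.to_inf_left).map _)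
    (fun x hx => mem_centralizer_singleton_iff.2 (s.comm hx ha)) (by
      rintro _ ⟨x, hx, rfl⟩
      rw [mem_centralizer_singleton_iff, ← e]
      calc _ = f⁻¹ * (x * t0) * f := by simp [mul_assoc]
        _ = _ := by rw [mem_centralizer_singleton_iff.1 hx.2]; simp [mul_assoc])
  have k1 : ∀ u ∈ A, t0 * u = u * t0 → c * f⁻¹ * u * (c * f⁻¹)⁻¹ ∈ H := fun u hu e => by
    simpa [mul_assoc] using s.le_H h1 h2 (h4 _ ⟨u, ⟨hu, mem_centralizer_singleton_iff.2 e.symm⟩, rfl⟩)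
  have k2 : ∀ u ∈ A, Gd L (t0 * u) → c * f⁻¹ * u * (c * f⁻¹)⁻¹ ∉ A := fun u hu h5 h6 => by
    have e2 : (c * f⁻¹)⁻¹ * (a * (c * f⁻¹ * u * (c * f⁻¹)⁻¹)) * (c * f⁻¹)⁻¹⁻¹ = t0 * u :=
      calc _ = f * (c⁻¹ * (a * c)) * f⁻¹ * u := by group
        _ = _ := by rw [← mem_centralizer_singleton_iff.1 h3, ← e]; group
    have := s.inA (g := (c * f⁻¹)⁻¹) (mul_mem ha h6) (e2 ▸ h5)
    rw [e2, mul_mem_cancel_right hu] at this
    exact s.n0 this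
  exact (s.not_both (k1 _ s.m1 s.c1) (k1 _ s.m2 s.c2)).elim (k2 _ s.m1 s.g1) (k2 _ s.m2 s.g2)

theorem top (hO : pPrimeCore 2 X = ⊥) : H = ⊤ := by
  obtain ⟨S, hS⟩ := s.two.exists_le_sylow
  have hM := H8.core_eq_bot_of_normal hO (normalClosure (A : Set X))
  obtain ⟨-, -, ⟨T, h1, h2⟩, -⟩ := S2775.result S A ⟨⟨fun a b => Subtype.ext (s.comm a.2 b.2)⟩⟩
    ⟨hS, fun a ha g h => s.strong ha (s.le_H S.2 hS h)⟩ _ rfl _ (MonoidHom.id _) Function.surjective_id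
    (by rw [hM]; exact MonoidHom.ker_id)
  rw [Subgroup.map_id] at h1 h2
  have hA : A ≤ normalClosure (A : Set X) := subset_normalClosure
  have hN : (normalClosure (A : Set X)).Normal := inferInstance
  have hB : normalClosure (A : Set X) ≤ A → H = ⊤ := fun h => by
    rw [s.nm, normalizer_eq_top_iff, ← le_antisymm h hA]; exact hN
  generalize normalClosure (A : Set X) = M at *
  have h3 : ∀ x ∈ (T : Subgroup M), (x : X) ∈ H := fun x hx =>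
    s.le_H (T.2.map M.subtype) (fun a ha => ⟨⟨a, hA ha⟩, h1 ha, rfl⟩) ⟨x, hx, rfl⟩
  rcases s.nn (M ⊓ H) (le_inf hA (s.nm ▸ le_normalizer)) inf_le_right
    (fun h hh x hx => ⟨hN.conj_mem x hx.1 h, H.mul_mem (H.mul_mem hh hx.2) (H.inv_mem hh)⟩) with h | ⟨t, h4, h5, h6⟩
  · have h4 : ∀ x : M, x ∈ (T : Subgroup M) ↔ (x : X) ∈ A := fun x => ⟨fun hx => h ⟨x.2, h3 x hx⟩, fun hx => h1 hx⟩
    have h5 : normalizer ((T : Subgroup M) : Set M) ≤ centralizer (T : Set M) := fun x hx y hy => by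
      refine Subtype.ext (s.comm ((h4 y).1 hy) (h ⟨x.2, s.weak fun a ha => h3 (x * ⟨a, hA ha⟩ * x⁻¹) ?_⟩))
      exact (mem_normalizer_iff.1 hx _).1 ((h4 _).2 ha)
    have h6 := MonoidHom.ker_transferSylow_isComplement' T h5
    have h7 : (MonoidHom.transferSylow T h5).ker = ⊥ := eq_bot_iff.2 (hM ▸ H8.le_pPrimeCore_two inferInstance (by
      rw [← h6.index_eq_card, ← Nat.not_even_iff_odd, even_iff_two_dvd]
      exact T.not_dvd_index))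
    rw [h7, isComplement'_bot_left] at h6
    exact hB fun x hx => (h4 ⟨x, hx⟩).1 (h6 ▸ mem_top _)
  exfalso
  have h7 : IsPGroup 2 (A ⊔ zpowers t : Subgroup X) := IsPGroup.to_sup_of_normal_left' s.two
    (IsPGroup.of_card_dvd_pow (n := 1) (by
      rw [Nat.card_zpowers, pow_one]; exact orderOf_dvd_of_pow_eq_one ((pow_two t).trans h5)))
    (s.nm ▸ zpowers_le.2 h4.2)
  obtain ⟨T', h8⟩ := (h7.comap_subtype (K := M)).exists_le_sylow
  obtain ⟨m, rfl⟩ := MulAction.exists_smul_eq M T' T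
  have h9 : ∀ x : M, (x : X) ∈ A ⊔ zpowers t → m * x * m⁻¹ ∈ ((m • T' : Sylow 2 M) : Subgroup M) :=
    fun x hx => ⟨x, h8 hx, rfl⟩
  have h10 : m * ⟨t, h4.1⟩ * m⁻¹ ∈ A.subgroupOf M := h2 ▸ mem_sup_right (subset_closure
    ⟨h9 _ (mem_sup_right (mem_zpowers t)), by
      rw [conj_pow, show (⟨t, h4.1⟩ : M) ^ 2 = 1 from Subtype.ext ((pow_two t).trans h5), mul_one, mul_inv_cancel]⟩)
  exact h6 ((s.cj (s.weak fun a ha => h3 _ (h9 ⟨a, hA ha⟩ (mem_sup_left ha)))).2 h10)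

end Sit

end Cfsg.Agent.TE6.SE6
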