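import Cfsg.Agent.TE6.PWT
import Cfsg.Agent.H46.PAction

set_option autoImplicit false

namespace Cfsg.Agent.TE6

open Subgroup H49

variable {G : Type*} [Group G] [Finite G]

namespace PSTX

variable {t u : G} {S : Subgroup G} {n : ℕ}

/-- the elements that centralise `C_S(u)` are commutators with `u` up to sign -/
theorem surj (h : XE t S n) (hu : u ∈ 𝒩(S)) (st : ∀ y ∈ S, y * u * y⁻¹ ≠ u * t) {w : G}
    (hw : w ∈ S ⊓ 𝒞((S ⊓ 𝒞[u] : Subgroup G))) : ∃ y ∈ S, ∃ e ∈ zpowers t, u * w = y * u * y⁻¹ * e := by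
  have ut : t ∈ 𝒞[u] := mem_cent1_comm.1 (h.nr hu)
  let F : (S ⧸ (𝒞[u]).subgroupOf S) × zpowers t → (S ⊓ 𝒞((S ⊓ 𝒞[u] : Subgroup G)) : Subgroup G) := fun q =>
    ⟨u⁻¹ * q.1.out * u⁻¹⁻¹ * (q.1.out : G)⁻¹ * q.2, mul_mem (mem_inf.2 ⟨mul_mem
      (conj_mem_of_norm le_rfl (inv_mem hu) q.1.out.2) (inv_mem q.1.out.2), fun c hc =>
        (h.k1 (inv_mem hu) hc.1 (show Commute c u from mem_cent1.1 hc.2).inv_right q.1.out.2).eq⟩)
      (zpowers_le.2 (mem_inf.2 ⟨h.rX, le_cent1_iff.1 (inf_le_left.trans h.rc)⟩) q.2.2)⟩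
  have inj : Function.Injective F := by
    rintro ⟨q, e, he⟩ ⟨q', e', he'⟩ k
    have k1 : u⁻¹ * q.out * u⁻¹⁻¹ * (q.out : G)⁻¹ * e = u⁻¹ * q'.out * u⁻¹⁻¹ * (q'.out : G)⁻¹ * e' :=
      congrArg Subtype.val k
    have m := mul_mem (inv_mem q.out.2) q'.out.2
    have k2 : (q.out : G)⁻¹ * q'.out * u * ((q.out : G)⁻¹ * q'.out)⁻¹ = u * (e * e'⁻¹) := by
      calc _ = (q.out : G)⁻¹ * u * (u⁻¹ * q'.out * u⁻¹⁻¹ * (q'.out : G)⁻¹ * e') * e'⁻¹ * q.out := by group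
        _ = u * ((q.out : G)⁻¹ * (e * e'⁻¹) * q.out) := by rw [← k1]; group
        _ = _ := by
          rw [mul_assoc _ (e * e'⁻¹), ← (PWTX.zc (h.rc q.out.2) (mul_mem he (inv_mem he'))).eq, inv_mul_cancel_left]
    have k3 := ((PWTX.mz h).1 (mul_mem he (inv_mem he'))).resolve_right fun l => st _ m (l ▸ k2)
    rw [k3, mul_one] at k2
    refine Prod.ext ?_ (Subtype.ext (mul_inv_eq_one.1 k3))
    exact q.out_eq' ▸ q'.out_eq' ▸ QuotientGroup.eq.2 (mem_cent1.2 (mul_inv_eq_iff_eq_mul.1 k2))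
  have c1 := PWTX.pair' h (B := S ⊓ 𝒞[u]) inf_le_left ⟨h.rX, ut⟩
  have c2 := card_inf_mul_relIndex (𝒞[u]) S
  have p : 0 < Nat.card ↥(S ⊓ 𝒞[u]) := Nat.card_pos
  obtain ⟨⟨q, e⟩, k⟩ := ((Nat.bijective_iff_injective_and_card F).2 ⟨inj, by
    rw [Nat.card_prod, PWTX.cz h]
    refine Nat.eq_of_mul_eq_mul_right p ?_
    rw [c1, ← c2, inf_comm S]
    change relIndex _ _ * 2 * _ = _
    ring⟩).2 ⟨w, hw⟩
  refine ⟨_, q.out.2, _, e.2, ?_⟩
  rw [← show u⁻¹ * q.out * u⁻¹⁻¹ * (q.out : G)⁻¹ * e = w from congrArg Subtype.val k]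
  group

end PSTX

theorem XE.st {t u d : G} {S : Subgroup G} {n : ℕ} (h : XE t S n) (hu : u ∈ 𝒩(S)) (u2 : u * u = 1 ∨ u * u = t)
    (hd : d ∈ 𝒩(S)) (d3 : d ^ 3 = 1) (e : d * u * d⁻¹ * u⁻¹ ∈ S) :
    (∃ y ∈ S, y * u * y⁻¹ = u * t) ∨ ∃ y ∈ S, Commute (y * d * y⁻¹) u := by
  refine or_iff_not_imp_left.2 fun st => ?_
  push Not at st
  have : Fact (Nat.Prime 3) := ⟨Nat.prime_three⟩
  have dt : Commute d t := mem_cent1.1 (h.nr hd)
  have hs : u⁻¹ * (d * u * d⁻¹) ∈ S := by simpa [mul_assoc] using conj_mem_of_norm' le_rfl hu e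
  have k : ∀ c ∈ S ⊓ 𝒞[u], Commute c (d * u * d⁻¹) := fun c hc => by
    have cu : Commute c u := mem_cent1.1 hc.2
    rcases h.cm c hc.1 _ hs with l | l
    · simpa using cu.mul_right l
    · refine absurd ?_ (st _ (conj_mem_of_norm' le_rfl hd hc.1))
      calc _ = d⁻¹ * (c * u) * c⁻¹ * (c * (u⁻¹ * (d * u * d⁻¹))) * c⁻¹ * d := by group
        _ = u * d⁻¹ * (c * t * c⁻¹) * d := by rw [cu.eq, l]; group
        _ = _ := by rw [mem_cent1.1 (h.rc hc.1), mul_inv_cancel_right, mul_assoc, ← dt.eq]; group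
  have nU : d ∈ 𝒩((S ⊓ 𝒞[u] : Subgroup G)) := mem_norm_of_le_cj fun c hc => by
    rw [cj_inf, cj_eq_of_mem_norm hd, cj_cent1]
    exact ⟨hc.1, mem_cent1.2 (k c hc).eq⟩
  have nW := norm_inf (zpowers_le.2 hd) (norm_cent (zpowers_le.2 nU))
  have hW : u⁻¹ * (d * u * d⁻¹) ∈ S ⊓ 𝒞((S ⊓ 𝒞[u] : Subgroup G)) :=
    ⟨hs, fun c hc => ((show Commute c u from mem_cent1.1 hc.2).inv_right.mul_right (k c hc)).eq⟩
  obtain ⟨w, hw, hc⟩ := H46.exists_mul_mem_centralizer (p := 3) (x := u) (IsPGroup.of_card_dvd_pow (n := 1) (by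
    rw [Nat.card_zpowers]; exact orderOf_dvd_of_pow_eq_one d3))
    (fun l => h.two.2 (l.trans (card_dvd_of_le inf_le_left))) nW fun a ha => by
      obtain ⟨i, rfl⟩ := (mem_powers_iff_mem_zpowers.2 ha : ∃ i, d ^ i = a)
      clear ha
      induction i with
      | zero => simp
      | succ i ih =>
        have := mul_mem hW (conj_mem_of_norm nW (mem_zpowers d) ih)
        convert this using 1
        simp only [pow_succ']
        group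
  obtain ⟨y, hy, z, hz, l⟩ := PSTX.surj h hu st hw
  have c1 : Commute d (y * u * y⁻¹ * z) := l ▸ hc d (mem_zpowers d)
  have c2 := (c1.mul_right (PWTX.zc (h.nr hd) hz).inv_right).map (MulAut.conj y⁻¹)
  exact ⟨y⁻¹, inv_mem hy, by simpa [mul_assoc] using c2⟩

end Cfsg.Agent.TE6
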