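import Cfsg.Agent.TE6.PWT
import Cfsg.Agent.O83.Fr
import Cfsg.Agent.T3.YLa

set_option autoImplicit false
set_option linter.unusedSectionVars false

namespace Cfsg.Agent.TE6

open Subgroup H49

variable {G : Type*} [Group G] [Finite G] {t x c : G} {H S D : Subgroup G} {Y : Type*} [Group Y] [Finite Y]
  {f : H →* Y} {Γ : Subgroup O83.O4} {e : O83.V → Y} {σ : O83.O4 → Y} {i : Y} {π : Y → O83.V8}

namespace WD

theorem isP3 {A : Subgroup G} (h3 : ∀ a ∈ A, a ^ 3 = 1) : IsPGroup 3 A :=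
  fun a => ⟨1, Subtype.ext (by simpa using h3 a a.2)⟩

/-- Burnside's transfer theorem with a characteristic complement -/
theorem burn {A W : Subgroup G} (le : A ≤ W) (h3 : ∀ a ∈ A, a ^ 3 = 1) (hc : W ⊓ 𝒩(A) ≤ 𝒞(A))
    (hs : ∀ g ∈ W ⊓ 𝒩(A), g * g ∈ A) :
    ∃ N : Subgroup G, N ≤ W ∧ 𝒩(W) ≤ 𝒩(N) ∧ ¬ 3 ∣ Nat.card N ∧ ∀ w ∈ W, ∃ n ∈ N, ∃ a ∈ A, w = n * a := by
  have : Fact (Nat.Prime 3) := ⟨Nat.prime_three⟩
  obtain ⟨P, hP, hAP⟩ := H42.exists_sylIn (isP3 h3) le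
  have hPA : P = A := by
    by_contra ne
    obtain ⟨g, hg, hg'⟩ := SetLike.exists_of_lt (H42.lt_inf_normalizer hP.isP (lt_of_le_of_ne hAP (Ne.symm ne)))
    obtain ⟨k, hk⟩ := hP.isP ⟨g, hg.1⟩
    have hk' : g ^ 3 ^ k = 1 := congrArg Subtype.val hk
    obtain ⟨m, hm⟩ : Odd (3 ^ k) := Odd.pow (by decide)
    have h2 := pow_mem (hs g ⟨hP.le hg.1, hg.2⟩) m
    apply hg'
    rw [← inv_mem_iff]
    convert h2 using 1
    rw [hm, pow_succ, pow_mul, pow_two] at hk'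
    exact (eq_inv_of_mul_eq_one_left hk').symm
  subst hPA
  obtain ⟨N, h1, h2, h4, h5⟩ := T3.YLa.burnside hP hc
  refine ⟨N, h1, le_norm_iff.2 fun g hg n hn => ?_, h4, h5⟩
  obtain ⟨m, hm, a, ha, e⟩ := h5 _ (conj_mem_of_norm le_rfl hg (h1 hn))
  have aN : a ∈ 𝒩(N) := h2 (le ha)
  have k : (a * (a⁻¹ * m * a)) ^ Nat.card N = 1 := by
    rw [show a * (a⁻¹ * m * a) = m * a by group, ← e, conj_pow,
      orderOf_dvd_iff_pow_eq_one.1 (N.orderOf_dvd_natCard hn)]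
    group
  rw [e]
  exact mul_mem hm (T3.YLa.mem_of_mul_pow aN (conj_mem_of_norm' le_rfl aN hm) (h3 a ha) h4 k)

theorem x3 (h : WS t x c H S D f Γ e σ i π) : x ^ 3 = 1 := h.x3 ▸ pow_orderOf_eq_one x

theorem xA : x ∈ closure ({x, c} : Set G) := subset_closure (by simp)

theorem cA : c ∈ closure ({x, c} : Set G) := subset_closure (by simp)

theorem memA (h : WS t x c H S D f Γ e σ i π) {a : G} (ha : a ∈ closure ({x, c} : Set G)) :
    ∃ m n : ℕ, a = x ^ m * c ^ n := by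
  induction ha using closure_induction with
  | mem y hy =>
    rcases hy with rfl | rfl
    · exact ⟨1, 0, by simp⟩
    · exact ⟨0, 1, by simp⟩
  | one => exact ⟨0, 0, by simp⟩
  | mul y z _ _ hy hz =>
    obtain ⟨m, n, rfl⟩ := hy
    obtain ⟨m', n', rfl⟩ := hz
    refine ⟨m + m', n + n', ?_⟩
    rw [pow_add, pow_add, mul_assoc, ← mul_assoc (c ^ n), ((h.xc (c ^ n)).pow_right m').eq]
    group
  | inv y _ hy =>
    obtain ⟨m, n, rfl⟩ := hy
    refine ⟨2 * m, 2 * n, ?_⟩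
    rw [inv_eq_iff_mul_eq_one, mul_assoc, ← mul_assoc (c ^ n), ((h.xc (c ^ n)).pow_right (2 * m)).eq,
      mul_assoc, ← pow_add, ← mul_assoc, ← pow_add, show m + 2 * m = 3 * m by ring,
      show n + 2 * n = 3 * n by ring, pow_mul, pow_mul, x3 h, h.c3]
    simp

theorem A3 (h : WS t x c H S D f Γ e σ i π) {a : G} (ha : a ∈ closure ({x, c} : Set G)) : a ^ 3 = 1 := by
  obtain ⟨m, n, rfl⟩ := memA h ha
  rw [((h.xc (c ^ n)).pow_right m).symm.mul_pow, ← pow_mul, ← pow_mul, mul_comm m, mul_comm n, pow_mul, pow_mul,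
    x3 h, h.c3]
  simp

theorem Ac (h : WS t x c H S D f Γ e σ i π) {g : G} (hg : Commute g c) : g ∈ 𝒞(closure ({x, c} : Set G)) :=
  fun a ha => by
    obtain ⟨m, n, rfl⟩ := memA h ha
    exact (((h.xc g).pow_right m).mul_right (hg.pow_right n)).symm.eq

theorem Aab (h : WS t x c H S D f Γ e σ i π) : closure ({x, c} : Set G) ≤ 𝒞(closure ({x, c} : Set G)) :=
  fun a ha => Ac h (by
    obtain ⟨m, n, rfl⟩ := memA h ha
    exact ((h.xc c).pow_right m).symm.mul_left ((Commute.refl c).pow_left n))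

theorem AH (h : WS t x c H S D f Γ e σ i π) : closure ({x, c} : Set G) ≤ H := h.Hdef ▸ le_normalizer

theorem AS (h : WS t x c H S D f Γ e σ i π) : closure ({x, c} : Set G) ≤ 𝒞(S) := by
  rw [closure_le]
  rintro _ (rfl | rfl)
  · exact fun s _ => (h.xc s).eq
  · exact h.cS

theorem tH (h : WS t x c H S D f Γ e σ i π) : t ∈ H := h.SH h.xe.rX

theorem memH (h : WS t x c H S D f Γ e σ i π) {g : G} (hg : g * c * g⁻¹ ∈ closure ({x, c} : Set G)) : g ∈ H := by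
  rw [h.Hdef]
  refine mem_norm_of_cj_le fun a ha => ?_
  obtain ⟨a', ha', rfl⟩ := mem_cj'.1 ha
  obtain ⟨m, n, rfl⟩ := memA h ha'
  rw [← mul_assoc, ((h.xc g).pow_right m).eq, mul_assoc, mul_assoc, ← mul_assoc g, ← conj_pow]
  exact mul_mem (pow_mem xA m) (pow_mem hg n)

/-- `C_H(S) = A⟨t⟩` -/
theorem cH (h : WS t x c H S D f Γ e σ i π) {g : G} (hg : g ∈ H) (hc : g ∈ 𝒞(S)) :
    g ∈ closure ({x, c} : Set G) ∨ g * t ∈ closure ({x, c} : Set G) := by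
  have r1 : f ⟨g, hg⟩ * σ O83.r0 = σ O83.r0 * f ⟨g, hg⟩ := (h.rng _).1 ⟨_, rfl⟩
  obtain ⟨y, hy, hN⟩ := h.hm _ r1
  have k := h.cf.cS h.sd hy hN (fun y hy => by
    rw [← h.fS] at hy
    obtain ⟨s, hs, rfl⟩ := hy
    rw [← map_mul, ← map_mul]
    exact congrArg f (Subtype.ext (hc s hs).symm))
  rcases k with k | k
  · exact Or.inl ((h.ker _).1 k)
  · refine Or.inr ((h.ker (⟨g, hg⟩ * ⟨t, tH h⟩)).1 ?_)
    rw [map_mul, k, ← h.ft ⟨t, tH h⟩ rfl, ← map_mul, ← map_one f]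
    exact congrArg f (Subtype.ext h.xe.rr)

/-- `C(S) = A⟨t⟩` -/
theorem cenS' (h : WS t x c H S D f Γ e σ i π) {g : G} (hc : g ∈ 𝒞(S)) :
    g ∈ closure ({x, c} : Set G) ∨ g * t ∈ closure ({x, c} : Set G) := by
  have tt := h.xe.rr
  obtain ⟨N, h1, h2, h3, h4⟩ := burn (AS h) (fun a ha => A3 h ha) (fun g hg => by
      rcases cH h (h.Hdef ▸ hg.2) hg.1 with k | k
      · exact Aab h k
      · have := mul_mem (Aab h k) (Ac h (h.tc c).symm)
        rwa [mul_assoc, tt, mul_one] at this)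
    (fun g hg => by
      rcases cH h (h.Hdef ▸ hg.2) hg.1 with k | k
      · exact mul_mem k k
      · have := mul_mem k k
        rwa [mul_assoc, ← mul_assoc t, ← (h.tc g).eq, mul_assoc, tt, mul_one] at this)
  have h5 := h.sig N h3 ((norm_cent (h.DH.trans h.nS)).trans h2)
  obtain ⟨n, hn, a, ha, rfl⟩ := h4 g hc
  rcases h.xe.cen n (h5 hn) (fun y hy => (h1 hn y hy).symm) with rfl | rfl
  · exact Or.inl (by simpa using ha)
  · right
    rwa [mul_assoc, (h.tc a).eq, ← mul_assoc, tt, one_mul]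

/-- an element of order three acting on an elementary abelian group fixes a point modulo a subgroup -/
theorem fix3 {D X : Subgroup G} {k : G} (ab : D ≤ 𝒞(D)) (h3 : ∀ d ∈ D, d ^ 3 = 1) (hk : k ∈ 𝒩(D))
    (k3 : k ^ 3 = 1) {d : G} (hd : d ∈ D) (hX : d ∉ X) : ∃ d ∈ D, d ∉ X ∧ k * d * k⁻¹ * d⁻¹ ∈ X := by
  have m : ∀ d ∈ D, k * d * k⁻¹ * d⁻¹ ∈ D := fun d hd => mul_mem (conj_mem_of_norm le_rfl hk hd) (inv_mem hd)
  by_contra hn
  push Not at hn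
  have n1 := hn d hd hX
  have n2 := hn _ (m d hd) n1
  have n3 := hn _ (m _ (m d hd)) n2
  apply n3
  convert X.one_mem using 1
  have hu := conj_mem_of_norm le_rfl hk hd
  have hv := conj_mem_of_norm le_rfl hk hu
  have e3 : k * (k * (k * d * k⁻¹) * k⁻¹) * k⁻¹ = d := by
    calc _ = k ^ 3 * d * (k ^ 3)⁻¹ := by rw [pow_three']; group
      _ = d := by rw [k3]; group
  set u := k * d * k⁻¹ with hu'
  set v := k * u * k⁻¹ with hv'
  have e1 : k * (u * d⁻¹) * k⁻¹ = v * u⁻¹ := by rw [hv', hu']; group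
  have e2 : k * (v * u⁻¹ * (u * d⁻¹)⁻¹) * k⁻¹ = d * v⁻¹ * (v * u⁻¹)⁻¹ := by
    calc _ = (k * v * k⁻¹) * (k * u * k⁻¹)⁻¹ * (k * (u * d⁻¹) * k⁻¹)⁻¹ := by group
      _ = _ := by rw [e3, e1, ← hv']
  rw [e1, e2]
  let _ : CommGroup D := { (inferInstance : Group D) with mul_comm := fun a b => Subtype.ext (ab b.2 a a.2) }
  have key : ∀ d u v : D, u ^ 3 = 1 → v ^ 3 = 1 → d * v⁻¹ * (v * u⁻¹)⁻¹ * (v * u⁻¹ * (u * d⁻¹)⁻¹)⁻¹ = 1 := by
    intro d u v hu hv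
    have : d * v⁻¹ * (v * u⁻¹)⁻¹ * (v * u⁻¹ * (u * d⁻¹)⁻¹)⁻¹ = u ^ 3 * (v ^ 3)⁻¹ := by
      simp only [mul_inv_rev, inv_inv, pow_succ, pow_zero, one_mul]
      calc _ = (d * d⁻¹) * (u * u * u * (v⁻¹ * (v⁻¹ * v⁻¹))) := by ac_rfl
        _ = _ := by rw [mul_inv_cancel, one_mul]
    rw [this, hu, hv]; simp
  exact congrArg Subtype.val (key ⟨d, hd⟩ ⟨u, hu⟩ ⟨v, hv⟩ (Subtype.ext (h3 u hu)) (Subtype.ext (h3 v hv)))

/-- `D` is a Sylow 3-subgroup of `S D` -/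
theorem sylD (h : WS t x c H S D f Γ e σ i π) : H42.SylIn 3 D (S ⊔ D) := by
  refine ⟨le_sup_right, isP3 h.D3, fun hd => ?_⟩
  have h1 : Nat.card ↥(D ⊔ S) ∣ Nat.card D * Nat.card S := card_sup_dvd (Or.inl (h.DH.trans h.nS))
  rw [sup_comm, ← H42.card_mul_relIndex (le_sup_right : D ≤ S ⊔ D)] at h1
  exact h.xe.two.2 (hd.trans (Nat.dvd_of_mul_dvd_mul_left Nat.card_pos h1))

theorem exD (h : WS t x c H S D f Γ e σ i π) : ∃ d ∈ D, d ∉ zpowers x := by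
  obtain ⟨d, hd, e1⟩ := h.Df O83.d1 rfl
  refine ⟨d, hd, fun k => ?_⟩
  have : f d = 1 := (h.ker d).2 (zpowers_le.2 xA k)
  exact absurd (h.cf.inj _ (e1 ▸ this)) (by decide)

end WD

open WD

theorem WS.cenS (h : WS t x c H S D f Γ e σ i π) : 𝒞(S) = closure {x, c, t} := by
  have le : closure ({x, c} : Set G) ≤ closure {x, c, t} := closure_mono (by
    rintro _ (rfl | rfl) <;> simp)
  have ht : t ∈ closure ({x, c, t} : Set G) := subset_closure (by simp)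
  apply le_antisymm
  · intro g hg
    rcases cenS' h hg with k | k
    · exact le k
    · exact (mul_mem_cancel_right ht).1 (le k)
  · rw [closure_le]
    rintro _ (rfl | rfl | rfl)
    · exact fun s _ => (h.xc s).eq
    · exact h.cS
    · exact fun s _ => (h.tc s).eq

theorem WS.nA (h : WS t x c H S D f Γ e σ i π) : 𝒩(S) = H := by
  refine le_antisymm (fun g hg => memH h ?_) h.nS
  rcases cenS' h (conj_mem_of_norm (norm_cent le_rfl) hg h.cS) with k | k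
  · exact k
  · have := A3 h k
    rw [(h.tc _).mul_pow, conj_pow, h.c3, pow_succ, pow_two, h.xe.rr] at this
    exact absurd (by simpa using this) h.xe.r1

theorem WS.sec (h : WS t x c H S D f Γ e σ i π) {g : G} (hg : g * c * g⁻¹ ∈ H) : g ∈ H := by
  have : Fact (Nat.Prime 3) := ⟨Nat.prime_three⟩
  have c3 : (g * c * g⁻¹) ^ 3 = 1 := by rw [conj_pow, h.c3]; group
  have TH : S ⊔ D ≤ H := sup_le h.SH h.DH
  have hp : IsPGroup 3 (zpowers (g * c * g⁻¹)) := isP3 fun a ha => by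
    obtain ⟨k, rfl⟩ := mem_zpowers_iff.1 ha
    rw [← zpow_natCast, ← zpow_mul, mul_comm, zpow_mul, zpow_natCast, c3, one_zpow]
  obtain ⟨P, hP, hcP⟩ := H42.exists_sylIn hp (zpowers_le.2 hg)
  have hQ := hP.inf_normal TH h.nD
  obtain ⟨s, hs, e1⟩ := (sylD h).exists_conj hQ.isP hQ.le
  have e2 : cj s (P ⊓ (S ⊔ D)) = D := by
    refine eq_of_le_of_card_ge (fun y hy => ?_) ?_
    · obtain ⟨y', hy', rfl⟩ := mem_cj'.1 hy
      exact e1 y' hy'
    · rw [card_cj, hQ.card_eq (sylD h)]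
  have n1 : g * c * g⁻¹ ∈ 𝒩(P ⊓ (S ⊔ D)) :=
    norm_inf (norm_of_le hcP) ((zpowers_le.2 hg).trans h.nD) (mem_zpowers _)
  have n2 : s * g * c * (s * g)⁻¹ ∈ 𝒩(D) := by
    rw [← e2, ← cj_normalizer]
    exact mem_cj'.2 ⟨_, n1, by group⟩
  obtain ⟨d0, h0, h0'⟩ := exD h
  obtain ⟨d, hd, hd', k⟩ := fix3 h.Dab h.D3 n2 (by rw [conj_pow, h.c3]; group) h0 h0'
  obtain ⟨m, hm⟩ := mem_zpowers_iff.1 k
  have h1 : (s * g)⁻¹ * d * (s * g)⁻¹⁻¹ ∈ H := memH h (by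
    have e3 : (s * g)⁻¹ * d * (s * g)⁻¹⁻¹ * c * ((s * g)⁻¹ * d * (s * g)⁻¹⁻¹)⁻¹ =
        (s * g)⁻¹ * (s * g * c * (s * g)⁻¹ * d * (s * g * c * (s * g)⁻¹)⁻¹ * d⁻¹)⁻¹ * (s * g) * c := by group
    rw [e3, ← hm, ((h.xc (s * g)⁻¹).zpow_right m).inv_right.eq, mul_assoc _ (s * g)⁻¹, inv_mul_cancel, mul_one]
    exact mul_mem (inv_mem (zpow_mem xA m)) cA)
  have h2 := h.se d hd hd' _ h1
  rw [h.nA, inv_mem_iff] at h2
  exact (mul_mem_cancel_left (TH hs)).1 h2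

end Cfsg.Agent.TE6
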