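import Cfsg.Agent.TE6.RTheta

set_option autoImplicit false

namespace Cfsg.Agent.E6S

open Matrix Subgroup Cfsg.Agent.H10 Cfsg.Agent.H29 Cfsg.Agent.H29.F4 Cfsg.Agent.H22.U6 Cfsg.Agent.CO1
  Cfsg.Agent.H97 Cfsg.Agent.MON.Cox Cfsg.Agent.E62

namespace Opp

variable {G : Type*} [Group G] {z e a b : G} {π π₁ : G → L6} {ι ι₁ : G → V0}

theorem icj (g x : G) : IsConj x (g * x * g⁻¹) := isConj_iff.2 ⟨g, rfl⟩

theorem sq_of (M : SD z π ι) {u : G} (h : IsConj z u) : u * u = 1 := by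
  obtain ⟨g, rfl⟩ := isConj_iff.1 h
  rw [show g * z * g⁻¹ * (g * z * g⁻¹) = g * (z * z) * g⁻¹ by group, M.lx.sq, mul_one, mul_inv_cancel]

theorem norm (M : SD z π ι) {h q : G} (hh : h ∈ Hz z) (hq : q ∈ Oz z) : h * q * h⁻¹ ∈ Oz z :=
  M.lx.norm h (mem_Cz.1 (Hz_le z hh)) q hq

theorem pi_q (M : SD z π ι) {u q : G} (hu : u ∈ Hz z) (hq : q ∈ Oz z) : π (q * u) = π u := by
  rw [M.mul _ (M.le hq) _ hu, (M.ker q (M.le hq)).2 hq, one_mul]

/-- the configuration of type `A3` -/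
structure Tri (z e a b : G) : Prop where
  la : LX (Oz a) a
  lb : LX (Oz b) b
  za : z ∈ Oz a
  eb : e ∈ Oz b
  ba : b ∈ Oz a
  ab : a ∈ Oz b
  zb : z * b * z⁻¹ = a * b
  ea : e * a * e⁻¹ = a * b
  zz : z * z = 1
  ee : e * e = 1
  three : (z * e) ^ 3 = 1

namespace Tri

variable (T : Tri z e a b)
include T

theorem comm : b * a = a * b := T.la.cen b T.ba

theorem zfa : z * a * z⁻¹ = a := mul_inv_eq_iff_eq_mul.2 (T.la.cen z T.za)

theorem efb : e * b * e⁻¹ = b := mul_inv_eq_iff_eq_mul.2 (T.lb.cen e T.eb)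

theorem ne : e ≠ z := fun h => by
  have := T.ea
  rw [h, T.zfa] at this
  exact T.lb.ne (left_eq_mul.1 this)

theorem one_of (h : (z * e) ^ 4 = 1) : False := by
  rw [pow_succ, T.three, one_mul] at h
  exact T.ne (by rw [eq_inv_of_mul_eq_one_right h, inv_eq_of_mul_eq_one_right T.zz])

theorem nz : z ∉ Cz e := fun h => T.one_of (by
  have := mem_Cz.1 h
  calc _ = z * (e * z) * e * (z * (e * z) * e) := by simp only [pow_succ, pow_zero, one_mul, mul_assoc]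
    _ = z * z * (e * e) * (z * z * (e * e)) := by rw [← this]; group
    _ = 1 := by rw [T.zz, T.ee, one_mul, one_mul])

theorem na : a ∉ Cz e := fun h => by
  have := T.ea
  rw [← mem_Cz.1 h, mul_inv_cancel_right] at this
  exact T.lb.ne (left_eq_mul.1 this)

theorem nza : z * a ∉ Cz e := fun h => T.one_of (by
  have h1 : e * z * e⁻¹ * (a * b) = z * a := by
    rw [← T.ea]
    calc _ = e * (z * a) * e⁻¹ := by group
      _ = _ := by rw [← mem_Cz.1 h, mul_inv_cancel_right]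
  have h2 : z * e * (z * e) = b := by
    rw [← T.comm, ← mul_assoc, mul_left_inj, inv_eq_of_mul_eq_one_right T.ee] at h1
    calc _ = z * (e * z * e) * (b * b) := by rw [T.lb.sq]; group
      _ = z * (e * z * e * b) * b := by group
      _ = b := by rw [h1, T.zz, one_mul]
  calc _ = z * e * (z * e) * (z * e * (z * e)) := by simp only [pow_succ, pow_zero, one_mul, mul_assoc]
    _ = 1 := by rw [h2, T.lb.sq])

theorem ne_ab : a ≠ b := fun h => by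
  have := T.ea
  rw [← h, T.la.sq] at this
  exact T.la.ne (by simpa using this)

theorem ecomm {x y : G} (hx : x ∈ Oz a ⊓ Oz b) (hy : y ∈ Oz a ⊓ Oz b) : x * y = y * x := by
  rw [← mul_inv_eq_iff_eq_mul]
  rcases T.la.comm x hx.1 y hy.1 with h | h
  · exact h
  rcases T.lb.comm x hx.2 y hy.2 with h' | h'
  · exact h'
  exact absurd (mul_right_cancel (h.symm.trans h')) T.ne_ab

theorem fix {x : G} (hx : x ∈ Oz a ⊓ Oz b) : ∃ y ∈ Oz a ⊓ Oz b, y ∈ Cz z ∧ y ∈ Cz e ∧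
    ((y = x ∨ y = a * x) ∨ (x ∉ Cz z ∧ (y = b * x ∨ y = a * (b * x)))) := by
  have ma : a ∈ Oz a ⊓ Oz b := ⟨T.la.mem, T.ab⟩
  have mb : b ∈ Oz a ⊓ Oz b := ⟨T.ba, T.lb.mem⟩
  have C : ∀ {u y : G}, u * y * u⁻¹ = y → y ∈ Cz u := fun h =>
    mem_Cz.2 (mul_inv_eq_iff_eq_mul.1 h).symm
  have cm : ∀ u x y : G, u * (x * y) * u⁻¹ = u * x * u⁻¹ * (u * y * u⁻¹) := fun u x y => by group
  have nx : z * x * z⁻¹ = a * x → x ∉ Cz z := fun h h' => by
    rw [← mem_Cz.1 h', mul_inv_cancel_right] at h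
    exact T.la.ne (right_eq_mul.1 h)
  rcases T.la.comm z T.za x hx.1 with h | h <;> rcases T.lb.comm e T.eb x hx.2 with h' | h'
  · exact ⟨x, hx, C h, C h', .inl (.inl rfl)⟩
  · refine ⟨a * x, mul_mem ma hx, C (by rw [cm, T.zfa, h]), C ?_, .inl (.inr rfl)⟩
    rw [cm, T.ea, h', mul_assoc, ← mul_assoc b, T.lb.sq, one_mul]
  · refine ⟨b * x, mul_mem mb hx, C ?_, C (by rw [cm, T.efb, h']), .inr ⟨nx h, .inl rfl⟩⟩
    rw [cm, T.zb, h, ← T.comm, mul_assoc, ← mul_assoc a, T.la.sq, one_mul]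
  · refine ⟨a * (b * x), mul_mem ma (mul_mem mb hx), C ?_, C ?_, .inr ⟨nx h, .inr rfl⟩⟩
    · rw [cm, cm, T.zfa, T.zb, h, ← T.comm, mul_assoc b, ← mul_assoc a a x, T.la.sq, one_mul]
    · rw [cm, cm, T.ea, T.efb, h', ← mul_assoc b b, T.lb.sq, one_mul, mul_assoc]

theorem rho : z * e * z * (z * e)⁻¹ = e := by
  rw [inv_eq_of_mul_eq_one_right ((pow_succ' (z * e) 2).symm.trans T.three), pow_two]
  calc _ = z * e * (z * z) * e * z * e := by group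
    _ = z * (e * e) * z * e := by rw [T.zz]; group
    _ = e := by rw [T.ee, mul_one, T.zz, one_mul]

end Tri

variable [Finite G]

theorem mem_cj {x u v : G} (g : G) (h : x ∈ Oz u) (e : g * u * g⁻¹ = v) : g * x * g⁻¹ ∈ Oz v :=
  e ▸ (mem_Oz_conj g).2 h

theorem exists_tri (M : SD z π ι) (ca : IsConj z a) (cb : IsConj z b) (za : z ∈ Oz a) (ba : b ∈ Oz a)
    (ab : a ∈ Oz b) (zb : z * b * z⁻¹ = a * b) : ∃ e, IsConj z e ∧ Tri z e a b := by
  obtain ⟨_, _, A⟩ := M.of_isConj ca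
  obtain ⟨_, _, B⟩ := M.of_isConj cb
  obtain ⟨_, _, C⟩ := M.of_isConj (zb ▸ cb.trans (icj z b))
  have cm := A.lx.cen b ba
  have zz := M.lx.sq
  have iz := M.lx.inv_eq
  have zfa : z * a * z⁻¹ = a := mul_inv_eq_iff_eq_mul.2 (A.lx.cen z za)
  have zc : z * (a * b) * z⁻¹ = b := by
    rw [← zb]
    calc _ = z * z * b * (z * z)⁻¹ := by group
      _ = b := by rw [zz]; group
  have ac := mem_cj z ab zb
  rw [zfa] at ac
  obtain ⟨s, hs, sa⟩ := C.lx.exists_conj ac A.lx.ne fun h => B.lx.ne (left_eq_mul.1 h)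
  rw [mul_assoc a b, cm, ← mul_assoc a a, A.lx.sq, one_mul] at sa
  have sc : s * (a * b) * s⁻¹ = a * b := mul_inv_eq_iff_eq_mul.2 (C.lx.cen s hs)
  have sb : s * b * s⁻¹ = a := by
    rw [show s * (a * b) * s⁻¹ = s * a * s⁻¹ * (s * b * s⁻¹) by group, sa, ← cm] at sc
    exact mul_left_cancel sc
  obtain ⟨y, hy⟩ : ∃ y, y = s * z * s⁻¹ := ⟨_, rfl⟩
  have yb : y ∈ Oz b := hy ▸ mem_cj s za sa
  have yy : y * y = 1 := sq_of M (hy ▸ icj s z)
  have iy := inv_eq_of_mul_eq_one_right yy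
  have ya : y * a * y⁻¹ = a * b := by
    conv_lhs => rw [hy, ← sb]
    calc _ = s * (z * b * z⁻¹) * s⁻¹ := by group
      _ = _ := by rw [zb, sc]
  have yfb : y * b * y⁻¹ = b := mul_inv_eq_iff_eq_mul.2 (B.lx.cen y yb)
  have yc : y * (a * b) * y⁻¹ = a := by
    rw [← ya]
    calc _ = y * y * a * (y * y)⁻¹ := by group
      _ = a := by rw [yy]; group
  have m3 : (z * y) ^ 3 ∈ Oz (a * b) := by
    have := mul_mem (mem_cj z yb zb) (mem_cj y za ya)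
    rwa [iz, iy, show z * y * z * (y * z * y) = (z * y) ^ 3 by
      simp only [pow_succ, pow_zero, one_mul, mul_assoc]] at this
  have r3 : ((z * y) ^ 4) ^ 3 = 1 := by
    rw [← pow_mul, show 4 * 3 = 3 * 2 * 2 from rfl, pow_mul, pow_mul, pow_two, pow_two]
    rcases C.lx.sqr _ m3 with h | h <;> rw [h]
    · exact one_mul 1
    · exact C.lx.sq
  have r1 : z * y * a * (z * y)⁻¹ = b := by
    rw [← zc, ← ya]; group
  have r2 : z * y * b * (z * y)⁻¹ = a * b := by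
    rw [← zb]; nth_rewrite 2 [← yfb]; group
  have r4 : z * y * (a * b) * (z * y)⁻¹ = a := by
    conv_rhs => rw [← zfa, ← yc]
    group
  have ra : (z * y) ^ 4 * a * ((z * y) ^ 4)⁻¹ = b := by
    calc _ = z * y * (z * y * (z * y * (z * y * a * (z * y)⁻¹) * (z * y)⁻¹) * (z * y)⁻¹) * (z * y)⁻¹ := by
          simp only [pow_succ, pow_zero, one_mul, mul_assoc, _root_.mul_inv_rev]
      _ = b := by rw [r1, r2, r4, r1]
  have zr : z * (z * y) ^ 4 * z⁻¹ = ((z * y) ^ 4)⁻¹ := by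
    rw [← conj_pow, ← inv_pow, _root_.mul_inv_rev, iz, iy, ← mul_assoc, zz, one_mul]
  generalize (z * y) ^ 4 = ρ at r3 ra zr
  have ze : z * (ρ * z * ρ⁻¹) = ρ := by
    rw [← iz]
    calc _ = z⁻¹ * ρ * z⁻¹ * ρ⁻¹ := by group
      _ = ρ⁻¹ * ρ⁻¹ := by nth_rewrite 1 [iz]; rw [zr]
      _ = ρ := by rw [← _root_.mul_inv_rev, inv_eq_iff_mul_eq_one, ← r3, pow_succ, pow_two]
  have e1 : ρ * z * ρ⁻¹ = z * ρ := by
    nth_rewrite 3 [← ze]
    rw [← mul_assoc, zz, one_mul]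
  refine ⟨_, icj ρ z, A.lx, B.lx, za, mem_cj ρ za ra, ba, ab, zb, ?_, zz, sq_of M (icj ρ z), ze.symm ▸ r3⟩
  rw [e1, ← zb, ← ra]
  group

/-- an element commuting with the image of a common neighbour lifts -/
theorem lift (M : SD z π ι) (ce : IsConj z e) (ne : e ≠ z) (h3 : (z * e) ^ 3 = 1)
    (cen : ∀ q ∈ Oz z, q ∈ Cz e → q = 1) {t : G} (h1 : Th z t) (h2 : Th e t) {l : L6}
    (hl : Commute l (π t)) : ∃ h ∈ Hz z, h ∈ Cz e ∧ π h = l := by
  obtain ⟨π', ι', T⟩ := M.of_isConj h1.1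
  obtain ⟨_, _, E⟩ := M.of_isConj ce
  have t1 := M.th_symm h1
  have t2 := E.th_symm h2
  have mem : ∀ k ∈ Cz z, k ∈ Cz t → k * e * k⁻¹ ∈ {y | Th t y ∧ ¬ Commute (π' z) (π' y)} :=
    fun k a b => ⟨t2.cj' b, T.th_nc t1 (t2.cj' b) (fun h => ne (by
      rw [← conj_eq_of_Cz a] at h
      exact (mul_left_cancel (mul_right_cancel h)).symm)) (by
      conv_lhs => rw [← conj_eq_of_Cz a]
      rw [show k * z * k⁻¹ * (k * e * k⁻¹) = k * (z * e) * k⁻¹ by group, conj_pow, h3, mul_one,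
        mul_inv_cancel])⟩
  obtain ⟨k, k1, k2, k3⟩ := M.th_cover h1 hl
  have bj : Function.Bijective fun q : ↥(Oz z ⊓ Cz t) =>
      (⟨_, mem q (Hz_le z (M.le q.2.1)) q.2.2⟩ : {y | Th t y ∧ ¬ Commute (π' z) (π' y)}) := by
    refine Function.Injective.bijective_of_nat_card_le (fun q q' h => ?_)
      (((Nat.card_coe_set_eq _).le.trans (T.th_count t1)).trans (M.th_card h1))
    have h' : (q : G) * e * (q : G)⁻¹ = q' * e * (q' : G)⁻¹ := congrArg Subtype.val h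
    refine Subtype.ext (inv_mul_eq_one.1 (cen _ (mul_mem (inv_mem q.2.1) q'.2.1) (Cz_of_conj ?_)))
    calc _ = (q : G)⁻¹ * (q' * e * (q' : G)⁻¹) * q := by group
      _ = e := by rw [← h']; group
  obtain ⟨q, hq⟩ := bj.2 ⟨_, mem k (Hz_le z k1) k2⟩
  have h' : (q : G) * e * (q : G)⁻¹ = k * e * k⁻¹ := congrArg Subtype.val hq
  refine ⟨(q : G)⁻¹ * k, mul_mem (M.le (inv_mem q.2.1)) k1, Cz_of_conj ?_,
    (pi_q M k1 (inv_mem q.2.1)).trans k3⟩
  calc _ = (q : G)⁻¹ * (k * e * k⁻¹) * q := by group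
    _ = e := by rw [← h']; group

theorem main (M : PD z a π ι) (P : PD a z π₁ ι₁) : ∃ e, OD z e π ι := by
  have D := M.toSD
  have A := P.toSD
  obtain ⟨g, g1, g2⟩ := opp
  obtain ⟨h, hh, rfl⟩ := A.surj g
  have ha : h * a * h⁻¹ = a := conj_eq_of_Cz (Hz_le a hh)
  obtain ⟨b, hb⟩ : ∃ b, h * z * h⁻¹ = b := ⟨_, rfl⟩
  have ba : b ∈ Oz a := hb ▸ norm A hh P.mem
  have ib : ι₁ b = π₁ h • v0 := by rw [← hb, A.conj _ hh _ P.mem, P.lab]
  have cb : IsConj z b := hb ▸ icj h z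
  obtain ⟨e, ce, T⟩ := exists_tri D M.icj cb P.mem ba (ha ▸ mem_cj h M.mem hb)
    ((A.lx.comm z P.mem b ba).resolve_left fun k =>
      g1 (ib ▸ (P.n1 b ba).1 (mem_Cz.2 (mul_inv_eq_iff_eq_mul.1 k).symm)))
  have exE : ∀ m ∈ N2, ∃ x ∈ Oz a ⊓ Oz b, ι₁ x = π₁ h • m := fun m hm => by
    obtain ⟨x, hx, rfl⟩ := A.onto m
    exact ⟨_, ⟨norm A hh hx, mem_cj h ((P.n2 x hx).2 hm) hb⟩, A.conj _ hh _ hx⟩
  have exJ : ∀ K, ∃ x ∈ Hz z, x ∈ Cz e ∧ π x = Tr K := fun K => by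
    obtain ⟨r, r1, r2, r3⟩ := M.onJ K
    obtain ⟨m, hm, m', hm', e1⟩ := g2 (ι₁ r)
    obtain ⟨x, hx, rfl⟩ := A.onto m
    obtain ⟨y, hy, e2⟩ := exE m' hm'
    have xz := (P.n2 x hx).2 hm
    obtain ⟨q, hq, rfl⟩ : ∃ q ∈ Oz z, r = q * y := by
      rcases A.uniq r1 (mul_mem hx hy.1) (by rw [A.add _ hx _ hy.1, e2, e1]) with k | k
      · exact ⟨x, xz, k⟩
      · exact ⟨a * x, mul_mem M.mem xz, by rw [k, mul_assoc]⟩
    have yz : y ∈ Cz z := ((Cz z).mul_mem_cancel_left (Hz_le z (D.le hq))).1 r2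
    have yH := (M.inJ y hy.1 yz).1
    rw [pi_q D yH hq] at r3
    obtain ⟨u, -, -, u2, (rfl | rfl) | ⟨n, -⟩⟩ := T.fix hy
    · exact ⟨u, yH, u2, r3⟩
    · exact ⟨_, mul_mem (D.le M.mem) yH, u2, (pi_q D yH M.mem).trans r3⟩
    · exact absurd yz n
  have cen : ∀ q ∈ Oz z, q ∈ Cz e → q = 1 := fun q q1 q2 => by
    by_cases h0 : ι q = 0
    · exact ((D.zero q q1).1 h0).resolve_right fun k => T.nz (k ▸ q2)
    let W : AddSubgroup V0 :=
      { carrier := {x | ∃ q ∈ Oz z, q ∈ Cz e ∧ ι q = x}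
        add_mem' := by
          rintro _ _ ⟨x, x1, x2, rfl⟩ ⟨y, y1, y2, rfl⟩
          exact ⟨_, mul_mem x1 y1, mul_mem x2 y2, D.add _ x1 _ y1⟩
        zero_mem' := ⟨1, one_mem _, one_mem _, (D.zero 1 (one_mem _)).2 (.inl rfl)⟩
        neg_mem' := by
          rintro _ ⟨x, x1, x2, rfl⟩
          exact ⟨x, x1, x2, eq_neg_of_add_eq_zero_left (add_self _)⟩ }
    obtain ⟨x, x1, x2, x3⟩ := v0_mem (W := W) (by
      rintro K _ ⟨x, x1, x2, rfl⟩
      obtain ⟨k, k1, k2, k3⟩ := exJ K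
      exact ⟨_, norm D k1 x1, mul_mem (mul_mem k2 x2) (inv_mem k2), k3 ▸ D.conj _ k1 _ x1⟩)
      ⟨q, q1, q2, rfl⟩ h0
    rcases D.uniq x1 M.mem (x3.trans M.lab.symm) with rfl | rfl
    · exact absurd x2 T.na
    · exact absurd x2 T.nza
  have ext : ∀ p ∈ Pl, p ∈ N2 → p + v0 ∈ Pl → ∃ t ∈ Oz a ⊓ Oz b, Th z t ∧ Th e t ∧
      (ι₁ t = π₁ h • p ∨ ι₁ t = π₁ h • (p + v0)) := fun p p1 p2 p3 => by
    obtain ⟨x, hx, e1⟩ := exE p p2
    obtain ⟨t, t1, t2, t3, t4⟩ := T.fix hx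
    have e2 : ι₁ (b * x) = π₁ h • (p + v0) := by rw [A.add _ ba _ hx.1, ib, e1, smul_add, add_comm]
    have t5 : ι₁ t = π₁ h • p ∨ ι₁ t = π₁ h • (p + v0) := by
      rcases t4 with (rfl | rfl) | ⟨-, rfl | rfl⟩
      · exact .inl e1
      · exact .inl ((A.zmul hx.1).trans e1)
      · exact .inr e2
      · exact .inr ((A.zmul (mul_mem ba hx.1)).trans e2)
    have t6 : IsConj a t := A.isConj_of_Pl t1.1 (by
      rcases t5 with k | k <;> rw [k]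
      · exact smul_Pl _ p1
      · exact smul_Pl _ p3)
    have t7 : Th z t := ⟨M.icj.trans t6, t2, fun k => A.lx.ne (isConj_one_left.1 (cen t k t3 ▸ t6)),
      a, M.icj, M.mem, A.sym t6 t1.1 fun k => T.na (k ▸ t3)⟩
    refine ⟨t, t1, t7, ?_, t5⟩
    have := t7.cj (z * e)
    rwa [T.rho, conj_eq_of_Cz (mul_mem (Cz_symm t2) (Cz_symm t3))] at this
  obtain ⟨p, p1, p', p2, p3, p4, p5, p6, p7, p8⟩ := ex_adj
  obtain ⟨t, t1, t2, t3, t4⟩ := ext p p1 p3 p5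
  obtain ⟨t', t1', t2', t3', t4'⟩ := ext p' p2 p4 p6
  have tH := D.th_mem t2
  have tH' := D.th_mem t2'
  have tne : π t ≠ π t' := fun k => by
    obtain rfl := mul_inv_eq_one.1 (cen _ (D.of_eq tH.1 tH'.1 k) (mul_mem t3.2.1 (inv_mem t3'.2.1)))
    rcases t4 with k1 | k1 <;> rcases t4' with k2 | k2 <;>
      have k3 := smul_left_cancel _ (k1.symm.trans k2)
    · exact p7 (k3 ▸ add_self p)
    · exact p8 (by rw [k3, add_right_comm, add_self, zero_add])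
    · exact p8 (by rw [← k3, ← add_assoc, add_self, zero_add])
    · exact p7 (add_right_cancel k3 ▸ add_self p)
  let K : Subgroup L6 :=
    { carrier := {l | ∃ h ∈ Hz z, h ∈ Cz e ∧ π h = l}
      mul_mem' := by
        rintro _ _ ⟨x, x1, x2, rfl⟩ ⟨y, y1, y2, rfl⟩
        exact ⟨_, mul_mem x1 y1, mul_mem x2 y2, D.mul _ x1 _ y1⟩
      one_mem' := ⟨1, one_mem _, one_mem _, D.one⟩
      inv_mem' := by
        rintro _ ⟨x, x1, x2, rfl⟩
        exact ⟨_, inv_mem x1, inv_mem x2, D.inv x1⟩ }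
  have hK : K = ⊤ := gen2 tH.2 tH'.2 tne (by
      rw [Commute, SemiconjBy, ← D.mul _ tH.1 _ tH'.1, ← D.mul _ tH'.1 _ tH.1, T.ecomm t1 t1'])
    (fun l hl => lift D ce T.ne T.three cen t2 t3 hl) fun l hl => lift D ce T.ne T.three cen t2' t3' hl
  have lf : ∀ l, ∃ h ∈ Hz z, h ∈ Cz e ∧ π h = l := fun l => hK.ge (mem_top l)
  refine ⟨e, D, ce, T.ne, T.three, cen, lf, fun s hs => ?_, a, b, M.icj, M.mem, M.ne.1, cb, ba,
    T.ne_ab.symm, mem_sup_right T.eb⟩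
  obtain ⟨l, rfl⟩ := isConj_iff.1 ((isConj_E6 tH.2).symm.trans (isConj_E6 hs))
  obtain ⟨k, k1, k2, rfl⟩ := lf l
  exact ⟨_, t2.cj' (Hz_le z k1), t3.cj' k2, D.cj k1 tH.1⟩

end Opp

theorem SD.exists_od {G : Type*} [Group G] [Finite G] {z : G} {π : G → L6} {ι : G → V0} (M : SD z π ι) :
    ∃ e, OD z e π ι := by
  obtain ⟨a, a1, a2, a3⟩ := M.nw
  obtain ⟨l, P⟩ := M.exists_pd a1 a2 a3
  obtain ⟨π', ι', A⟩ := M.of_isConj a1
  obtain ⟨l', P'⟩ := A.exists_pd a1.symm (M.sym a1 a2 a3) a3.symm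
  obtain ⟨e, O⟩ := Opp.main P P'
  refine ⟨e, M, O.icj, O.ne, O.three, O.cen, fun k => ?_, fun s hs => ?_, O.gen⟩
  · obtain ⟨h, h1, h2, h3⟩ := O.lf (l * k * l⁻¹)
    exact ⟨h, h1, h2, mul_left_cancel (mul_right_cancel h3)⟩
  · obtain ⟨t, t1, t2, t3⟩ := O.th _ (conj_E6 l hs)
    exact ⟨t, t1, t2, mul_left_cancel (mul_right_cancel t3)⟩

end Cfsg.Agent.E6S
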