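import Cfsg.Agent.TE6.RNW

/-! Project TE6 (port of E62 to index dividing six): commuting conjugates at distance two. -/

set_option autoImplicit false

namespace Cfsg.Agent.E6S

open Matrix Subgroup Cfsg.Agent.H10 Cfsg.Agent.H29 Cfsg.Agent.H29.F4 Cfsg.Agent.H22.U6 Cfsg.Agent.CO1
  Cfsg.Agent.H97 Cfsg.Agent.MON.Cox Cfsg.Agent.E62 Cfsg.Agent.H15

variable {G : Type*} [Group G] [Finite G] {z u u' : G} {π : G → L6} {ι : G → V0}

omit [Finite G] in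
/-- the orbit formula for conjugation by a subgroup -/
theorem card_orb (A : Subgroup G) (u : G) :
    ((fun a => a * u * a⁻¹) '' A).ncard * Nat.card (A ⊓ Cz u : Subgroup G) = Nat.card A := by
  let _ : MulAction A G := MulAction.compHom G (MulAut.conj.comp A.subtype)
  have h1 : MulAction.orbit A u = (fun a => a * u * a⁻¹) '' A :=
    Set.ext fun x => ⟨fun ⟨a, e⟩ => ⟨a, a.2, e⟩, fun ⟨a, h, e⟩ => ⟨⟨a, h⟩, e⟩⟩
  have h2 : MulAction.stabilizer A u = (A ⊓ Cz u).subgroupOf A := by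
    ext a
    rw [mem_subgroupOf, mem_inf, mem_Cz, ← mul_inv_eq_iff_eq_mul]
    exact ⟨fun e => ⟨a.2, e⟩, fun e => e.2⟩
  rw [← h1, ← MulAction.index_stabilizer, ← Nat.card_congr (subgroupOfEquivOfLe inf_le_left).toEquiv, ← h2,
    index_mul_card]

/-- the fixed vectors -/
noncomputable def fixV (l : L6) : AddSubgroup V0 := (DistribSMul.toAddMonoidHom V0 l).eqLocus (AddMonoidHom.id V0)

theorem mem_fixV {l : L6} {x : V0} : x ∈ fixV l ↔ l • x = x := Iff.rfl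

theorem card_fixV {l m : L6} (h : IsConj l m) : Nat.card (fixV m) = Nat.card {x : V0 | l • x = x} := by
  obtain ⟨g, rfl⟩ := isConj_iff.1 h
  refine (Nat.card_congr ((MulAction.toPerm g).subtypeEquiv fun x => ?_)).symm
  rw [mem_fixV, MulAction.toPerm_apply, mul_smul, mul_smul, inv_smul_smul, smul_left_cancel_iff]; rfl

theorem E6_sq {s : L6} (h : s ∈ E6) : s * s = 1 := by obtain ⟨v, -, -, rfl⟩ := h; exact tv_sq v

theorem E6_three {s t : L6} (hs : s ∈ E6) (ht : t ∈ E6) (h : ¬ Commute s t) : (s * t) ^ 3 = 1 :=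
  (tt_E6.2 s hs t ht).resolve_left fun e => h (by
    rw [pow_two, ← eq_inv_iff_mul_eq_one, _root_.mul_inv_rev, inv_eq_of_mul_eq_one_left (E6_sq hs),
      inv_eq_of_mul_eq_one_left (E6_sq ht)] at e
    exact e)

theorem Th.cj (h : Th z u) (g : G) : Th (g * z * g⁻¹) (g * u * g⁻¹) :=
  let ⟨h1, h2, h3, a, h4, h5, h6⟩ := h
  ⟨((isConj_cj g z).symm.trans h1).trans (isConj_cj g u), (mem_Cz_conj g).2 h2, (mem_Oz_conj g).not.2 h3,
    g * a * g⁻¹, ((isConj_cj g z).symm.trans h4).trans (isConj_cj g a), (mem_Oz_conj g).2 h5, (mem_Oz_conj g).2 h6⟩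

theorem Th.cj' (h : Th z u) {g : G} (hg : g ∈ Cz z) : Th z (g * u * g⁻¹) := by
  have := h.cj g
  rwa [conj_eq_of_Cz hg] at this

namespace SD

variable (M : SD z π ι)
include M

omit [Finite G] in
theorem pow_four {q : G} (hq : q ∈ Oz z) : q ^ 4 = 1 := by
  rw [show q ^ 4 = q * q * (q * q) by simp only [pow_succ, pow_zero, one_mul, mul_assoc]]
  rcases M.lx.sqr q hq with e | e <;> rw [e]
  exacts [one_mul 1, M.sq]

omit [Finite G] in
theorem ncard_pre (S : Set V0) : {q | q ∈ Oz z ∧ ι q ∈ S}.ncard ≤ 2 * S.ncard := by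
  choose s hs es using M.onto
  have : {q | q ∈ Oz z ∧ ι q ∈ S} ⊆ s '' S ∪ (fun x => z * s x) '' S := fun q hq =>
    (M.uniq hq.1 (hs _) (es (ι q)).symm).imp (fun e => ⟨_, hq.2, e.symm⟩) fun e => ⟨_, hq.2, e.symm⟩
  exact (Set.ncard_le_ncard this).trans ((Set.ncard_union_le _ _).trans
    (two_mul S.ncard ▸ add_le_add (Set.ncard_image_le S.toFinite) (Set.ncard_image_le S.toFinite)))

theorem sq_of (h : IsConj z u) : u * u = 1 := let ⟨_, _, Mu⟩ := M.of_isConj h; Mu.sq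

theorem th_symm (h : Th z u) : Th u z := by
  obtain ⟨h1, h2, h3, a, h4, h5, h6⟩ := h
  obtain ⟨π', ι', Mu⟩ := M.of_isConj h1
  exact ⟨h1.symm, Cz_symm h2, fun hz => h3 (Mu.sym h1.symm hz fun e => h3 (e ▸ M.zQ)), a, h1.symm.trans h4, h6, h5⟩

/-- the common neighbour -/
theorem th_mid (h : Th z u) : ∃ a, IsConj z a ∧ a ∈ Oz z ∧ a ≠ z ∧ a ∈ Oz u ∧ u ∈ Oz a ∧
    ∃ π' ι', PD a z π' ι' ∧ ι' u ∈ Pl ∧ ι' u ∈ N1 ∧ ι' u ∉ N2 := by
  have hz := (M.th_symm h).2.2.1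
  obtain ⟨h1, h2, h3, a, h4, h5, h6⟩ := h
  obtain ⟨π', ι', Mu⟩ := M.of_isConj h1
  obtain ⟨π', ι', Ma⟩ := M.of_isConj h4
  have n1 : a ≠ z := fun e => hz (e ▸ h6)
  have n2 : a ≠ u := fun e => h3 (e ▸ h5)
  have hu := Mu.sym (h1.symm.trans h4) h6 n2
  obtain ⟨l, P⟩ := Ma.exists_pd h4.symm (M.sym h4 h5 n1) n1.symm
  exact ⟨a, h4, h5, n1, h6, hu, _, _, P, P.toSD.mem_Pl (h4.symm.trans h1) hu n2.symm, (P.n1 u hu).1 h2,
    fun e => h3 ((P.n2 u hu).2 e)⟩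

theorem th_card (h : Th z u) : 2 ^ 15 ≤ Nat.card (Oz z ⊓ Cz u : Subgroup G) := by
  obtain ⟨a, h1, h2, h3, -, h5, π', ι', P, p1, p2, p3⟩ := M.th_mid h
  have c1 := card_orb (Oz z ⊓ Cz a) u
  have c2 : ((fun r => r * u * r⁻¹) '' (Oz z ⊓ Cz a : Subgroup G)).ncard ≤ 2 * 16 := by
    refine le_trans (Set.ncard_le_ncard ?_) ((P.toSD.ncard_pre _).trans (Nat.mul_le_mul_left 2 (coset16 p2 p3)))
    rintro _ ⟨r, hr, rfl⟩
    have r1 := P.toSD.norm hr.2 h5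
    have r2 := mul_mem r1 (inv_mem h5)
    refine ⟨r1, P.toSD.mem_Pl ((h1.symm.trans h.1).trans (isConj_cj r u)) r1 fun e => h.2.2.1 ?_, ?_⟩
    · have := M.norm (inv_mem (M.leC hr.1)) ((show r * u * r⁻¹ = a from e) ▸ h2 : r * u * r⁻¹ ∈ Oz z)
      simpa [mul_assoc] using this
    · rw [← P.toSD.inv' h5, ← P.add _ r1 _ (inv_mem h5), ← P.n2 _ r2]
      have := mul_mem hr.1 (M.norm h.2.1 (inv_mem hr.1))
      rwa [← mul_assoc, ← mul_assoc] at this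
  rw [M.card_cent h2 P.toSD.lx.ne h3] at c1
  have c3 : Nat.card (Oz z ⊓ Cz a ⊓ Cz u : Subgroup G) ≤ Nat.card (Oz z ⊓ Cz u : Subgroup G) :=
    card_le_of_le (inf_le_inf_right _ inf_le_left)
  have := Nat.mul_le_mul c2 c3
  omega

theorem th_H (h : Th z u) : u ∈ Hz z := by
  obtain ⟨a, h1, h2, h3, -, h5, -⟩ := M.th_mid h
  obtain ⟨l, P⟩ := M.exists_pd h1 h2 h3
  exact (P.inJ u h5 h.2.1).1

theorem th_le (h : Th z u) : Oz z ⊓ Cz u ≤ M.pre (fixV (π u)) := fun q hq =>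
  ⟨hq.1, by rw [mem_fixV, ← M.conj u (M.th_H h) q hq.1, conj_eq_of_Cz (Cz_symm hq.2)]⟩

theorem th_mem (h : Th z u) : u ∈ Hz z ∧ π u ∈ E6 := by
  have hu := M.th_H h
  have c := (M.th_card h).trans (card_le_of_le (M.th_le h))
  rw [M.card_pre] at c
  refine ⟨hu, ?_⟩
  rcases classes (x := π u) (by rw [← M.mul u hu u hu, M.sq_of h.1, M.one]) with e | e | e | e
  · exact (h.2.2.1 ((M.ker u hu).1 e)).elim
  · obtain ⟨g, e⟩ := isConj_iff.1 e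
    exact e ▸ conj_E6 g (tp_mem (by decide))
  · have := fix2; rw [← card_fixV e] at this; omega
  · have := fix3; rw [← card_fixV e] at this; omega

theorem th_eq (h : Th z u) : Oz z ⊓ Cz u = M.pre (fixV (π u)) :=
  eq_of_le_of_card_ge (M.th_le h) (by
    have := fix1
    have := M.th_card h
    rw [M.card_pre, card_fixV (isConj_E6 (M.th_mem h).2)]; omega)

theorem th_full (h : Th z u) {q : G} (hq : q ∈ Oz z) (e : π u • ι q = ι q) : q ∈ Cz u :=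
  ((M.th_eq h).ge ⟨hq, e⟩).2

theorem th_not (h : Th z u) : ¬ IsConj z (z * u) := fun hc => by
  obtain ⟨a, h1, h2, -, -, h5, π', ι', P, p1, -, p3⟩ := M.th_mid h
  have := P.toSD.mem_Pl (h1.symm.trans hc) (mul_mem P.mem h5) fun e => h.2.2.1 (by
    simpa using mul_mem (inv_mem M.zQ) (e ▸ h2 : z * u ∈ Oz z))
  rw [P.add _ P.mem _ h5, P.lab, add_comm] at this
  exact p3 (adj_N2 p1 this)

omit [Finite G] in
/-- duality: what centralises the preimage of the fixed space of `u` lies over `[V, u]` -/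
theorem dual (hu : u ∈ Hz z) (h2 : u * u = 1) {w : G} (hw : w ∈ Oz z)
    (h : ∀ b ∈ Oz z, π u • ι b = ι b → b * w = w * b) : ∃ x, ι w = π u • x + x := by
  let W := (DistribSMul.toAddMonoidHom V0 (π u) + AddMonoidHom.id V0).range
  by_contra hn
  obtain ⟨b, hb, h1, e⟩ := M.lx.sep (M.pre W) (fun q hq => hq.1) ⟨M.zQ, M.i_z ▸ W.zero_mem⟩ w hw
    fun ⟨_, x, e⟩ => hn ⟨x, e.symm⟩
  have hC := Hz_le z hu
  have hi : u⁻¹ = u := inv_eq_of_mul_eq_one_left h2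
  have hb' := M.norm hC hb
  have := M.lx.large ((u * b * u⁻¹)⁻¹ * b) fun q hq => by
    have e1 := h1 (u * q * u⁻¹ * q⁻¹) ⟨mul_mem (M.norm hC hq) (inv_mem hq), ι q, (M.comm' hu hq).symm⟩
    have e2 : u * (u * b * u⁻¹ * q * (u * b * u⁻¹)⁻¹ * q⁻¹) * u⁻¹ = u * b * u⁻¹ * q * (u * b * u⁻¹)⁻¹ * q⁻¹ := by
      rcases M.lx.comm _ hb' q hq with e | e <;> rw [e]
      · group
      · rw [mul_inv_cancel_right, conj_eq_of_Cz hC]
    have e3 : b * q * b⁻¹ * q⁻¹ * q = q * (b * q * b⁻¹ * q⁻¹) := by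
      rcases M.lx.comm _ hb q hq with e | e <;> rw [e]
      · group
      · rw [mul_inv_cancel_right, M.lx.cen q hq]
    have e4 : b * q * b⁻¹ * q⁻¹ * (u * q * u⁻¹) = u * q * u⁻¹ * (b * q * b⁻¹ * q⁻¹) := by
      rcases M.lx.comm _ hb q hq with e | e <;> rw [e]
      · group
      · rw [mul_inv_cancel_right, M.lx.cen _ (M.norm hC hq)]
    have e5 : u * b * u⁻¹ * q * (u * b * u⁻¹)⁻¹ * q⁻¹ = b * q * b⁻¹ * q⁻¹ :=
      calc _ = u * u * (b * (u⁻¹ * q * u) * b⁻¹ * (u⁻¹ * q * u)⁻¹) * (u * u)⁻¹ := by rw [← e2]; group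
        _ = b * (u * q * u⁻¹ * q⁻¹) * (q * b⁻¹ * (u * q * u⁻¹)⁻¹) := by
          rw [h2, hi, one_mul, inv_one, mul_one, _root_.mul_inv_rev, _root_.mul_inv_rev, hi]; group
        _ = u * q * u⁻¹ * (q⁻¹ * (b * q * b⁻¹ * q⁻¹ * q)) * (u * q * u⁻¹)⁻¹ := by rw [e1]; group
        _ = u * q * u⁻¹ * (b * q * b⁻¹ * q⁻¹) * (u * q * u⁻¹)⁻¹ := by rw [e3]; group
        _ = _ := by rw [← e4]; group
    calc _ = (u * b * u⁻¹)⁻¹ * (b * q * b⁻¹ * q⁻¹) * (q * b) := by group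
      _ = _ := by rw [← e5]; group
  have e0 := (M.zero _ (mul_mem (inv_mem hb') hb)).2 this
  rw [M.add _ (inv_mem hb') _ hb, M.inv' hb', M.conj u hu b hb, add_eq_zero_V0] at e0
  rw [h b hb e0, mul_inv_cancel_right] at e
  exact M.lx.ne (by simpa using e.symm)

theorem fib (h : Th z u) (h1 : IsConj z u') (h2 : u' ∈ Hz z) (e : π u = π u')
    (hf : ∀ q ∈ Oz z, π u' • ι q = ι q → q ∈ Cz u') : ∃ q ∈ Oz z, u' = q * u * q⁻¹ := by
  have hu := M.th_H h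
  have hw := M.of_eq h2 hu e.symm
  obtain ⟨x, hx⟩ := M.dual hu (M.sq_of h.1) hw fun b hb e' =>
    (mem_Cz.1 (mul_mem (Cz_symm (hf b hb (e ▸ e'))) (inv_mem (Cz_symm (M.th_full h hb e'))))).symm
  obtain ⟨q, hq, rfl⟩ := M.onto x
  have hc := mul_mem (M.norm (Hz_le z hu) hq) (inv_mem hq)
  rw [← M.comm' hu hq, ← M.inv' hc] at hx
  rcases M.uniq hw (inv_mem hc) hx with e' | e'
  · exact ⟨q, hq, by rw [mul_inv_eq_iff_eq_mul.1 e']; group⟩
  · refine (M.th_not (h.cj' (M.leC hq)) ?_).elim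
    rwa [mul_inv_eq_iff_eq_mul.1 e', show z * (u * q * u⁻¹ * q⁻¹)⁻¹ * u = z * (q * u * q⁻¹) by group] at h1

theorem th_fib (h : Th z u) (h' : Th z u') (e : π u = π u') : ∃ q ∈ Oz z, u' = q * u * q⁻¹ :=
  M.fib h h'.1 (M.th_H h') e fun _ hq => M.th_full h' hq

theorem th_ex {s : L6} (hs : s ∈ E6) : ∃ u, Th z u ∧ π u = s := by
  obtain ⟨a, h1, h2, h3⟩ := M.nw
  obtain ⟨π', ι', Ma⟩ := M.of_isConj h1
  obtain ⟨l, P⟩ := Ma.exists_pd h1.symm (M.sym h1 h2 h3) h3.symm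
  obtain ⟨p, p1, p2, p3⟩ := ex_mid
  obtain ⟨u, hu, rfl⟩ := P.onto p
  have hc := P.toSD.isConj_of_Pl hu p1
  have h : Th z u := ⟨h1.trans hc, (P.n1 u hu).2 p2, fun e => p3 ((P.n2 u hu).1 e), a, h1, h2,
    P.toSD.sym hc hu (P.toSD.ne_of_Pl p1)⟩
  obtain ⟨g, rfl⟩ := isConj_iff.1 ((isConj_E6 (M.th_mem h).2).symm.trans (isConj_E6 hs))
  obtain ⟨k, hk, rfl⟩ := M.surj g
  exact ⟨_, h.cj' (Hz_le z hk), M.cj hk (M.th_H h)⟩

theorem th_of (h : IsConj z u) (hu : u ∈ Hz z) (hs : π u ∈ E6)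
    (hf : ∀ q ∈ Oz z, π u • ι q = ι q → q ∈ Cz u) : Th z u := by
  obtain ⟨u0, h0, e⟩ := M.th_ex hs
  obtain ⟨q, hq, rfl⟩ := M.fib h0 h hu e hf
  exact h0.cj' (M.leC hq)

theorem th_cover (h : Th z u) {l : L6} (hl : Commute l (π u)) : ∃ k ∈ Hz z, k ∈ Cz u ∧ π k = l := by
  obtain ⟨k, hk, rfl⟩ := M.surj l
  obtain ⟨q, hq, e⟩ := M.th_fib h (h.cj' (Hz_le z hk)) (by rw [M.cj hk (M.th_H h), hl.eq, mul_inv_cancel_right])
  refine ⟨q⁻¹ * k, mul_mem (inv_mem (M.le hq)) hk, Cz_of_conj ?_,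
    by rw [M.mul _ (inv_mem (M.le hq)) _ hk, M.ker' (inv_mem hq), one_mul]⟩
  rw [show q⁻¹ * k * u * (q⁻¹ * k)⁻¹ = q⁻¹ * (k * u * k⁻¹) * q by group, e]; group

theorem th_three (h : Th z u) (h' : Th z u') (e : ¬ Commute (π u) (π u')) : (u * u') ^ 3 = 1 := by
  obtain ⟨hu, su⟩ := M.th_mem h
  obtain ⟨hu', su'⟩ := M.th_mem h'
  have hr := mul_mem hu hu'
  have h3 : (u * u') ^ 3 ∈ Oz z := (M.ker _ (pow_mem hr 3)).1 (by
    rw [← E6_three su su' e, ← M.mul u hu u' hu']; exact map_pow M.hom ⟨_, hr⟩ 3)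
  have q1 := M.sq_of h.1
  have inv : u * (u * u') * u⁻¹ = (u * u')⁻¹ := by
    rw [← mul_assoc, q1, one_mul, _root_.mul_inv_rev, inv_eq_of_mul_eq_one_left (M.sq_of h'.1)]
  have e1 : ((u * u') ^ 2)⁻¹ * u * ((u * u') ^ 2)⁻¹⁻¹ = u * (u * u') ^ 4 := by
    rw [inv_inv, ← inv_pow (u * u'), ← inv, conj_pow]; group
  have h'' := h.cj' (inv_mem (pow_mem (Hz_le z hr) 2))
  rw [e1] at h''
  have e2 : π (u * (u * u') ^ 4) = π u' := by
    rw [pow_succ', ← mul_assoc, ← mul_assoc, q1, one_mul, M.mul _ hu' _ (M.le h3), M.ker' h3, mul_one]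
  obtain ⟨q, hq, e3⟩ := M.th_fib h'' h' e2
  obtain ⟨y, y', f1, f2, e4⟩ := sum_fix su su' e (ι q)
  obtain ⟨b, hb, rfl⟩ := M.onto y
  obtain ⟨c, hc, rfl⟩ := M.onto y'
  have c1 := conj_eq_of_Cz (M.th_full h hb f1)
  have c2 := conj_eq_of_Cz (M.th_full h'' hc (e2.symm ▸ f2))
  have e5 : u' = b * (u * (u * u') ^ 4) * b⁻¹ := by
    have c3 := conj_eq_of_Cz (Cz_symm h''.2.1)
    generalize u * (u * u') ^ 4 = w at e3 c2 c3 ⊢
    rcases M.uniq hq (mul_mem hb hc) (e4.trans (M.add b hb c hc).symm) with rfl | rfl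
    · rw [e3, show b * c * w * (b * c)⁻¹ = b * (c * w * c⁻¹) * b⁻¹ by group, c2]
    · rw [e3, ← M.lx.cen _ (mul_mem hb hc),
        show b * c * z * w * (b * c * z)⁻¹ = b * (c * (z * w * z⁻¹) * c⁻¹) * b⁻¹ by group, c3, c2]
  rw [e5, ← c1, conj_mul, c1, ← mul_assoc u, q1, one_mul, conj_pow, ← pow_mul, mul_comm 4, pow_mul,
    M.pow_four h3, mul_one, mul_inv_cancel]

theorem th_nc (h : Th z u) (h' : Th z u') (hne : u ≠ u') (e : (u * u') ^ 3 = 1) : ¬ Commute (π u) (π u') := by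
  intro hc
  obtain ⟨hu, su⟩ := M.th_mem h
  obtain ⟨hu', su'⟩ := M.th_mem h'
  have hr := mul_mem hu hu'
  have e1 : (π u * π u') ^ 3 = 1 := by
    rw [← M.mul u hu u' hu', ← M.one, ← e]; exact (map_pow M.hom ⟨_, hr⟩ 3).symm
  rw [pow_succ, hc.mul_pow, pow_two, pow_two, E6_sq su, E6_sq su', one_mul, one_mul, ← M.mul u hu u' hu'] at e1
  have := M.pow_four ((M.ker _ hr).1 e1)
  rw [pow_succ, e, one_mul] at this
  exact hne (mul_left_cancel ((M.sq_of h.1).trans this.symm))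

theorem th_F (h : Th z u) (x : V0) : ∃ f ∈ Oz z, f ∈ Oz u ∧ ι f = π u • x + x := by
  obtain ⟨a, h1, h2, h3, h4, h5, -⟩ := M.th_mid h
  obtain ⟨l, P⟩ := M.exists_pd h1 h2 h3
  obtain ⟨g, e⟩ := Lv_conj (P.toSD.th_mem h).2 (P.inJ u h5 h.2.1).2
  have P' := P.twist g
  obtain ⟨π', ι', Mu⟩ := M.of_isConj h.1
  obtain ⟨q, hq, rfl⟩ := M.onto x
  have hu := M.th_H h
  obtain ⟨f, f1, f2, e'⟩ := span_t (W := P'.toSD.img (Oz u)) (fun m hm => by
    obtain ⟨k, k1, k2, rfl⟩ := P'.toSD.th_cover h (e ▸ hm)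
    exact ⟨_, Mu.norm k2 h4, M.norm (Hz_le z k1) h2, by rw [← P'.lab]; exact P'.conj k k1 a h2⟩) (Lv g • l • ι q)
  refine ⟨f, f2, f1, ?_⟩
  have hc := mul_mem (M.norm h.2.1 hq) (inv_mem hq)
  rw [← M.comm' hu hq]
  rcases P'.toSD.uniq f2 hc (e'.trans (e ▸ (P'.toSD.comm' hu hq).symm)) with e | e <;> rw [e]
  exact M.zmul hc

/-- at most `2 ^ 15` elements of `Th z` do not commute with `u` modulo `Oz z` -/
theorem th_count (h : Th z u) : {y | Th z y ∧ ¬ Commute (π u) (π y)}.ncard ≤ 2 ^ 15 := by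
  classical
  have := Finset.card_le_mul_card_image_of_maps_to (f := π)
    (s := {y | Th z y ∧ ¬ Commute (π u) (π y)}.toFinite.toFinset)
    (t := {t ∈ E6 | ¬ Commute (π u) t}.toFinite.toFinset) (fun y hy => by
      rw [Set.Finite.mem_toFinset] at hy ⊢
      exact ⟨(M.th_mem hy.1).2, hy.2⟩) 64 fun t ht => by
      rw [Set.Finite.mem_toFinset] at ht
      obtain ⟨y, hy, rfl⟩ := M.th_ex ht.1
      have c1 := card_orb (Oz z) y
      have c2 := Nat.mul_le_mul_left ((fun a => a * y * a⁻¹) '' Oz z).ncard (M.th_card hy)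
      rw [c1, M.card] at c2
      rw [← Set.ncard_coe_finset]
      refine (Set.ncard_le_ncard (t := (fun a => a * y * a⁻¹) '' Oz z) fun y' hy' => ?_).trans (by omega)
      rw [Finset.mem_coe, Finset.mem_filter, Set.Finite.mem_toFinset] at hy'
      obtain ⟨q, hq, e⟩ := M.th_fib hy hy'.1.1 hy'.2.symm
      exact ⟨q, hq, e.symm⟩
  rw [← Set.ncard_eq_toFinset_card, ← Set.ncard_eq_toFinset_card] at this
  have := card_nc (M.th_mem h).2
  omega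

/-- the third type of element in a fibre -/
theorem th_far {e q : G} (h : Th z u) (he : Th e u) (hze : IsConj z e) (hne : e ≠ z) (h3 : (z * e) ^ 3 = 1)
    (hq : q ∈ Oz z) (h0 : π u • ι q + ι q ≠ 0) (h1 : π u • ι q + ι q ∉ Pl) :
    (q * u * q⁻¹ * e) ^ 3 = 1 := by
  obtain ⟨π', ι', Mu⟩ := M.of_isConj h.1
  obtain ⟨π'', ι'', Me⟩ := M.of_isConj hze
  have hz := M.th_symm h
  have he' := Me.th_symm he
  obtain ⟨f, f1, f2, e1⟩ := M.th_F h (ι q)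
  have hu := M.th_H h
  have hc := mul_mem (M.norm h.2.1 hq) (inv_mem hq)
  have hcj := isConj_cj q u
  rw [← e1] at h0 h1
  rcases M.uniq (inv_mem hc) f1 ((M.inv' hc).trans ((M.comm' hu hq).trans e1.symm)) with e2 | e2
  · obtain ⟨b, hb, e3⟩ := Mu.lx.exists_conj f2 (fun e => h0 (e ▸ M.i_one)) fun e => h.2.2.1 (e ▸ f1)
    rw [show q * u * q⁻¹ = (u * q * u⁻¹ * q⁻¹)⁻¹ * u by group, e2, Mu.lx.cen f f2, ← e3] at hcj
    exact (h1 (M.mem_Pl ((h.1.trans hcj).trans (isConj_cj b f).symm) f1 fun e => h0 (e ▸ M.i_z))).elim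
  · have e3 : q * u * q⁻¹ = z * (f * u) := by rw [← mul_assoc, ← e2]; group
    have hfu := mul_mem f2 Mu.zQ
    obtain ⟨z1, z2⟩ := Mu.th_mem hz
    have e4 : π' (z * (f * u)) = π' z := by rw [Mu.mul _ z1 _ (Mu.le hfu), Mu.ker' hfu, mul_one]
    rw [e3] at hcj ⊢
    refine Mu.th_three (Mu.th_of hcj (mul_mem z1 (Mu.le hfu)) (e4 ▸ z2) fun r hr e => ?_) he'
      (e4 ▸ Mu.th_nc hz he' hne.symm h3)
    have rz := Mu.th_full hz hr (e4 ▸ e)
    refine Cz_symm (mul_mem (Cz_symm rz) (mul_mem (Cz_symm (Cz_of_conj ?_)) (Cz_symm (Mu.leC hr))))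
    refine (Mu.lx.comm r hr f f2).resolve_right fun e => h.2.2.1 ?_
    simpa using mul_mem (e ▸ M.norm rz f1 : u * f ∈ Oz z) (inv_mem f1)

end SD

end Cfsg.Agent.E6S
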